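import Mathlib
import Cfsg.Agent.CtRecD.OdE

set_option autoImplicit false
set_option linter.unusedSectionVars false
set_option linter.unusedVariables false

/-!
# S2096 (Schur multiplier of `PΩ⁺_{2l}(q)`): shared definitions (helper7)

`hD k l t`: the diagonal coefficients of `h_kl(t)`; `OD.Ht`: the subgroup generated by the `h_kl(t)`;
`OD.zD p q = h_{e_p - e_q}(-1) h_{e_p + e_q}(-1)`: the generator of the kernel of the map to the orthogonal group.
-/

namespace Cfsg.Agent.CtRecD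

variable {n : ℕ} {K : Type*} [Field K] {Γ : Type*} [Group Γ] (S : OD n K Γ)

/-- the diagonal coefficients of `h_kl(t)`. -/
def hD (k l : Idx n) (t : K) (i : Idx n) : K :=
  if i = k then t else if i = l then t⁻¹ else if i = k.swap then t⁻¹ else if i = l.swap then t else 1

theorem hD_ne_zero (k l : Idx n) {t : K} (ht : t ≠ 0) (i : Idx n) : hD k l t i ≠ 0 := by
  unfold hD
  split_ifs
  · exact ht
  · exact inv_ne_zero ht
  · exact inv_ne_zero ht
  · exact ht
  · exact one_ne_zero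

namespace OD

/-- the subgroup generated by the elements `h_kl(u)`. -/
def Ht : Subgroup Γ := Subgroup.closure {g | ∃ (k l : Idx n) (u : K), Rt k l ∧ u ≠ 0 ∧ g = S.h k l u}

theorem h_mem_Ht {k l : Idx n} (hkl : Rt k l) {u : K} (hu : u ≠ 0) : S.h k l u ∈ S.Ht :=
  Subgroup.subset_closure ⟨k, l, u, hkl, hu, rfl⟩

theorem Ht_le_Wt : S.Ht ≤ S.Wt := by
  unfold Ht
  rw [Subgroup.closure_le]
  rintro _ ⟨k, l, u, hkl, hu, rfl⟩
  unfold h
  exact mul_mem (S.w_mem_Wt hkl hu) (S.w_mem_Wt hkl (neg_ne_zero.mpr one_ne_zero))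

/-- `h_{e_p - e_q}(-1) h_{e_p + e_q}(-1)`. -/
def zD (p q : Fin n) : Γ := S.h (Sum.inl p) (Sum.inl q) (-1) * S.h (Sum.inl p) (Sum.inr q) (-1)

end OD

end Cfsg.Agent.CtRecD
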