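import Mathlib
import Cfsg.Agent.CtRecD.SchDefs
import Cfsg.Agent.Helper7.SlO

set_option autoImplicit false
set_option linter.unusedSectionVars false
set_option linter.unusedVariables false

/-!
# Central extensions of a group with the Steinberg relations of type `D_n`, `n ≥ 5` (helper7)

The extension carries the Steinberg relations (Kervaire–Steinberg, Stein): lifts of the root elements
are the commutators of lifts.  The only new point against type `A` is the relation `comm_row`.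
-/

namespace Cfsg.Agent.CtRecD

open Cfsg.Agent.Helper7.Sc Cfsg.Agent.Helper7.Sl

/-- the group identity behind the relation `comm_row`. -/
theorem typeI_key {E : Type*} [Group E] {X Y Z P Q c R₁ R₂ : E}
    (hXY : X * Y = P * Y * X) (hXZ : X * Z = Q * Z * X) (hYZ : Y * Z = c * Z * Y)
    (hYQ : Y * Q = R₁ * Q * Y) (hPZ : P * Z = R₂ * Z * P) (hc : ∀ g, c * g = g * c)
    (hPR : P * R₁ = R₁ * P) (hQR : Q * R₂ = R₂ * Q) (hRR : R₁ * R₂ = 1) : P * Q = Q * P := by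
  have h1 : X * Y * Z = c * (Q * Z * P * Y * X) := by
    calc X * Y * Z = X * (Y * Z) := by group
      _ = X * (c * Z * Y) := by rw [hYZ]
      _ = X * c * Z * Y := by group
      _ = c * X * Z * Y := by rw [hc X]
      _ = c * (X * Z) * Y := by group
      _ = c * (Q * Z * X) * Y := by rw [hXZ]
      _ = c * (Q * Z * (X * Y)) := by group
      _ = c * (Q * Z * (P * Y * X)) := by rw [hXY]
      _ = c * (Q * Z * P * Y * X) := by group
  have h2 : X * Y * Z = c * (R₁ * P * Q * Z * Y * X) := by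
    calc X * Y * Z = P * Y * X * Z := by rw [hXY]
      _ = P * Y * (X * Z) := by group
      _ = P * Y * (Q * Z * X) := by rw [hXZ]
      _ = P * (Y * Q) * Z * X := by group
      _ = P * (R₁ * Q * Y) * Z * X := by rw [hYQ]
      _ = P * R₁ * Q * (Y * Z) * X := by group
      _ = P * R₁ * Q * (c * Z * Y) * X := by rw [hYZ]
      _ = R₁ * P * Q * (c * Z * Y) * X := by rw [hPR]
      _ = R₁ * P * Q * c * (Z * Y * X) := by group
      _ = c * (R₁ * P * Q) * (Z * Y * X) := by rw [hc (R₁ * P * Q)]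
      _ = c * (R₁ * P * Q * Z * Y * X) := by group
  have h3 : Q * Z * P = R₁ * P * Q * Z := by
    have e := h1.symm.trans h2
    have e' := mul_left_cancel e
    have e2 : Q * Z * P * (Y * X) = R₁ * P * Q * Z * (Y * X) := by
      calc Q * Z * P * (Y * X) = Q * Z * P * Y * X := by group
        _ = R₁ * P * Q * Z * Y * X := e'
        _ = R₁ * P * Q * Z * (Y * X) := by group
    exact mul_right_cancel e2
  have h4 : Z * P = R₂⁻¹ * P * Z := by
    rw [mul_assoc, hPZ]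
    group
  have hQR' : Q * R₂⁻¹ = R₂⁻¹ * Q := by
    have : R₂⁻¹ * (Q * R₂) * R₂⁻¹ = R₂⁻¹ * (R₂ * Q) * R₂⁻¹ := by rw [hQR]
    calc Q * R₂⁻¹ = R₂⁻¹ * (R₂ * Q) * R₂⁻¹ := by group
      _ = R₂⁻¹ * (Q * R₂) * R₂⁻¹ := by rw [hQR]
      _ = R₂⁻¹ * Q := by group
  have h5 : R₂⁻¹ * (Q * P) = R₁ * (P * Q) := by
    have e : R₂⁻¹ * (Q * P) * Z = R₁ * (P * Q) * Z := by
      calc R₂⁻¹ * (Q * P) * Z = (R₂⁻¹ * Q) * P * Z := by group
        _ = (Q * R₂⁻¹) * P * Z := by rw [hQR']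
        _ = Q * (R₂⁻¹ * P * Z) := by group
        _ = Q * (Z * P) := by rw [h4]
        _ = Q * Z * P := by group
        _ = R₁ * P * Q * Z := h3
        _ = R₁ * (P * Q) * Z := by group
    exact mul_right_cancel e
  have hR2 : R₂ = R₁⁻¹ := by
    rw [eq_inv_iff_mul_eq_one]
    have : R₂ * R₁ = R₁⁻¹ * (R₁ * R₂) * R₁ := by group
    rw [this, hRR]
    group
  rw [hR2, inv_inv] at h5
  exact (mul_left_cancel h5).symm

variable {n : ℕ} {K : Type*} [Field K] {G E : Type*} [Group G] [Group E] (Sg : OD n K G)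
  (C : CExt E G)

/-- lifts of the pairs of root elements which commute by the relation `comm` commute. -/
def LCg : Prop :=
  ∀ a b c d : Idx n, Rt a b → Rt c d → b ≠ c → a ≠ d → c ≠ a.swap → d ≠ b.swap → ∀ t u : K,
    C.LC (Sg.x a b t) (Sg.x c d u)

/-- with a further index, lifts of commuting root elements commute. -/
theorem lcg_mid {a b c d h : Idx n} (hab : Rt a b) (hcd : Rt c d) (hbc : b ≠ c) (had : a ≠ d)
    (hca : c ≠ a.swap) (hdb : d ≠ b.swap) (hch : Rt c h) (hhd : Rt h d) (hah : a ≠ h) (hhb : h ≠ b.swap)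
    (hbh : b ≠ h) (hha : h ≠ a.swap) (t u : K) : C.LC (Sg.x a b t) (Sg.x c d u) := by
  have h3 := Sg.comm3 c h d hch hhd hcd u 1
  rw [mul_one] at h3
  exact lc_of_comm_cm' C (Sg.comm a b c h hab hch hbc hah hca hhb t u)
    (Sg.comm a b h d hab hhd hbh had hha hdb t 1) h3

/-- an index outside a given list. -/
theorem exists_not_mem_list (l : List (Idx n)) (hl : l.length < 2 * n) : ∃ h : Idx n, h ∉ l := by
  classical
  by_contra hcon
  push Not at hcon
  have h1 : (Finset.univ : Finset (Idx n)) ⊆ l.toFinset := by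
    intro m _
    exact List.mem_toFinset.mpr (hcon m)
  have h2 := Finset.card_le_card h1
  rw [Finset.card_univ, Fintype.card_sum, Fintype.card_fin] at h2
  have h3 := List.toFinset_card_le l
  omega

theorem lcg_of_five (hn : 5 ≤ n) : LCg Sg C := by
  intro a b c d hab hcd hbc had hca hdb t u
  obtain ⟨h, hh⟩ := exists_not_mem_list [a, a.swap, b, b.swap, c, c.swap, d, d.swap]
    (by simp only [List.length_cons, List.length_nil]; omega)
  simp only [List.mem_cons, List.not_mem_nil, or_false, not_or] at hh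
  obtain ⟨h1, h2, h3, h4, h5, h6, h7, h8⟩ := hh
  have hch : Rt c h := ⟨fun e => h5 e.symm, fun e => h6 (by rw [e, Sum.swap_swap])⟩
  have hhd : Rt h d := ⟨h7, h8⟩
  exact lcg_mid Sg C hab hcd hbc had hca hdb hch hhd (fun e => h1 e.symm) h4 (fun e => h3 e.symm) h2 t u

/-- the commutator of lifts of `x_ah(s)` and `x_hb(t)`. -/
noncomputable def Fd (a h b : Idx n) (s t : K) : E := C.cm (Sg.x a h s) (Sg.x h b t)

theorem ψ_Fd {a h b : Idx n} (hah : Rt a h) (hhb : Rt h b) (hab : Rt a b) (s t : K) :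
    C.ψ (Fd Sg C a h b s t) = Sg.x a b (s * t) := by
  unfold Fd
  rw [C.ψ_cm, Sg.comm3 a h b hah hhb hab]

/-- moving the middle index. -/
theorem Fd_move (hL : LCg Sg C) {i h k j : Idx n} (hih : Rt i h) (hik : Rt i k) (hij : Rt i j)
    (hhk : Rt h k) (hhj : Rt h j) (hkj : Rt k j) (a v b : K) :
    Fd Sg C i h j (a * v) b = Fd Sg C i k j a (v * b) := by
  have hPψ : C.ψ (C.cm (Sg.x i k a) (Sg.x k h v)) = Sg.x i h (a * v) := by
    rw [C.ψ_cm, Sg.comm3 i k h hik hhk.symm hih]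
  have hQψ : C.ψ (C.cm (Sg.x k h v) (Sg.x h j b)) = Sg.x k j (v * b) := by
    rw [C.ψ_cm, Sg.comm3 k h j hhk.symm hhj hkj]
  have hR' : Fd Sg C i h j (a * v) b =
      C.cm (Sg.x i k a) (Sg.x k h v) * C.lf (Sg.x h j b) * (C.cm (Sg.x i k a) (Sg.x k h v))⁻¹ *
        (C.lf (Sg.x h j b))⁻¹ := C.cm_eq hPψ (C.ψ_lf _)
  have hR : Fd Sg C i k j a (v * b) =
      C.lf (Sg.x i k a) * C.cm (Sg.x k h v) (Sg.x h j b) * (C.lf (Sg.x i k a))⁻¹ *
        (C.cm (Sg.x k h v) (Sg.x h j b))⁻¹ := C.cm_eq (C.ψ_lf _) hQψ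
  have hRψ : C.ψ (Fd Sg C i k j a (v * b)) = Sg.x i j (a * (v * b)) := ψ_Fd Sg C hik hkj hij _ _
  refine step_two (U := C.lf (Sg.x i k a)) (V := C.lf (Sg.x k h v)) (W := C.lf (Sg.x h j b))
    (P := C.cm (Sg.x i k a) (Sg.x k h v)) (Q := C.cm (Sg.x k h v) (Sg.x h j b)) rfl rfl hR hR' ?_ ?_ ?_
  · exact hL i k h j hik hhj hhk.symm.1 hij.1 (fun e => hih.2 (by rw [e, Sum.swap_swap]))
      (fun e => hkj.2 (by rw [e, Sum.swap_swap])) a b _ _ (C.ψ_lf _) (C.ψ_lf _)
  · exact hL i h k j hih hkj hhk.1 hij.1 (fun e => hik.2 (by rw [e, Sum.swap_swap]))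
      (fun e => hhj.2 (by rw [e, Sum.swap_swap])) (a * v) (v * b) _ _ hPψ hQψ
  · exact hL k j i j hkj hij hij.1.symm hkj.1 (fun e => hik.2 (by rw [e]))
      (ne_swap j) (v * b) (a * (v * b)) _ _ hQψ hRψ

/-- an index which forms roots with three given indices. -/
theorem exists_rt3 (hn : 4 ≤ n) (i h j : Idx n) : ∃ k : Idx n, Rt i k ∧ Rt h k ∧ Rt k j := by
  obtain ⟨k, hk⟩ := exists_not_mem_list [i, i.swap, h, h.swap, j, j.swap]
    (by simp only [List.length_cons, List.length_nil]; omega)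
  simp only [List.mem_cons, List.not_mem_nil, or_false, not_or] at hk
  obtain ⟨h1, h2, h3, h4, h5, h6⟩ := hk
  exact ⟨k, ⟨fun e => h1 e.symm, fun e => h2 (by rw [e, Sum.swap_swap])⟩,
    ⟨fun e => h3 e.symm, fun e => h4 (by rw [e, Sum.swap_swap])⟩, ⟨h5, h6⟩⟩

/-- an index which forms roots with four given indices. -/
theorem exists_rt4 (hn : 5 ≤ n) (i h m j : Idx n) :
    ∃ k : Idx n, Rt i k ∧ Rt h k ∧ Rt m k ∧ Rt k j := by
  obtain ⟨k, hk⟩ := exists_not_mem_list [i, i.swap, h, h.swap, m, m.swap, j, j.swap]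
    (by simp only [List.length_cons, List.length_nil]; omega)
  simp only [List.mem_cons, List.not_mem_nil, or_false, not_or] at hk
  obtain ⟨h1, h2, h3, h4, h5, h6, h7, h8⟩ := hk
  exact ⟨k, ⟨fun e => h1 e.symm, fun e => h2 (by rw [e, Sum.swap_swap])⟩,
    ⟨fun e => h3 e.symm, fun e => h4 (by rw [e, Sum.swap_swap])⟩,
    ⟨fun e => h5 e.symm, fun e => h6 (by rw [e, Sum.swap_swap])⟩, ⟨h7, h8⟩⟩

/-- the commutator depends on the product only. -/
theorem Fd_prod (hn : 4 ≤ n) (hL : LCg Sg C) {i h j : Idx n} (hih : Rt i h) (hhj : Rt h j)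
    (hij : Rt i j) (a b : K) : Fd Sg C i h j a b = Fd Sg C i h j (a * b) 1 := by
  obtain ⟨k, hik, hhk, hkj⟩ := exists_rt3 hn i h j
  have e1 := Fd_move Sg C hL hih hik hij hhk hhj hkj a 1 b
  have e2 := Fd_move Sg C hL hih hik hij hhk hhj hkj a b 1
  rw [mul_one, one_mul] at e1
  rw [mul_one] at e2
  rw [e1, e2]

/-- the commutator does not depend on the middle index, for middle indices forming a root. -/
theorem Fd_mid (hL : LCg Sg C) {i h k j : Idx n} (hih : Rt i h) (hik : Rt i k) (hij : Rt i j)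
    (hhk : Rt h k) (hhj : Rt h j) (hkj : Rt k j) (a b : K) :
    Fd Sg C i h j a b = Fd Sg C i k j a b := by
  have e1 := Fd_move Sg C hL hih hik hij hhk hhj hkj a 1 b
  rw [mul_one, one_mul] at e1
  exact e1

/-- the commutator does not depend on the middle index at all. -/
theorem Fd_mid' (hn : 5 ≤ n) (hL : LCg Sg C) {i h m j : Idx n} (hih : Rt i h) (him : Rt i m)
    (hij : Rt i j) (hhj : Rt h j) (hmj : Rt m j) (a b : K) :
    Fd Sg C i h j a b = Fd Sg C i m j a b := by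
  obtain ⟨k, hik, hhk, hmk, hkj⟩ := exists_rt4 hn i h m j
  rw [Fd_mid Sg C hL hih hik hij hhk hhj hkj, Fd_mid Sg C hL him hik hij hmk hmj hkj]

/-- a chosen middle index. -/
noncomputable def midD (hn : 3 ≤ n) (i j : Idx n) : Idx n := Classical.choose (OD.exists_oth hn i j)

theorem midD_left (hn : 3 ≤ n) (i j : Idx n) : Rt i (midD hn i j) := by
  have h := Classical.choose_spec (OD.exists_oth hn i j)
  exact ⟨fun e => h.1 e.symm, fun e => h.2.2.1 (swap_eq_iff.mp e.symm)⟩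

theorem midD_right (hn : 3 ≤ n) (i j : Idx n) : Rt (midD hn i j) j := by
  have h := Classical.choose_spec (OD.exists_oth hn i j)
  exact ⟨h.2.1, h.2.2.2⟩

/-- the chosen lifts of the root elements. -/
noncomputable def sD' (hn : 3 ≤ n) (i j : Idx n) (t : K) : E := Fd Sg C i (midD hn i j) j t 1

theorem ψ_sD' (hn : 3 ≤ n) {i j : Idx n} (hij : Rt i j) (t : K) :
    C.ψ (sD' Sg C hn i j t) = Sg.x i j t := by
  unfold sD'
  rw [ψ_Fd Sg C (midD_left hn i j) (midD_right hn i j) hij, mul_one]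

/-- the commutators of lifts are the chosen lifts. -/
theorem hFd (hn : 5 ≤ n) (hL : LCg Sg C) {i h j : Idx n} (hih : Rt i h) (hhj : Rt h j) (hij : Rt i j)
    (a b : K) : Fd Sg C i h j a b = sD' Sg C (by omega) i j (a * b) := by
  have hn3 : 3 ≤ n := by omega
  unfold sD'
  rw [Fd_mid' Sg C hn hL hih (midD_left hn3 i j) hij hhj (midD_right hn3 i j) a b]
  exact Fd_prod Sg C (by omega) hL (midD_left hn3 i j) (midD_right hn3 i j) hij a b

section lifted

variable (hn : 5 ≤ n) (hL : LCg Sg C)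

include hL in
theorem sD'_add {i j : Idx n} (hij : Rt i j) (t u : K) :
    sD' Sg C (by omega) i j t * sD' Sg C (by omega) i j u = sD' Sg C (by omega) i j (t + u) := by
  have hn3 : 3 ≤ n := by omega
  have hmi := midD_left hn3 i j
  have hmj := midD_right hn3 i j
  have h1 : sD' Sg C hn3 i j (t + u) = sD' Sg C hn3 i j u * sD' Sg C hn3 i j t := by
    unfold sD' Fd
    rw [← Sg.add i (midD hn3 i j) hmi t u, cm_mul_left]
    congr 1
    have hlc := hL i (midD hn3 i j) i j hmi hij hmi.1.symm hij.1 (ne_swap i)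
      (fun e => hmj.2 (swap_eq_iff.mp e.symm)) t u
    exact hlc.kap_eq C (ψ_sD' Sg C hn3 hij u)
  rw [h1]
  exact hL i j i j hij hij hij.1.symm hij.1 (ne_swap i) (ne_swap j) t u _ _ (ψ_sD' Sg C hn3 hij t)
    (ψ_sD' Sg C hn3 hij u)

include hn hL in
theorem sD'_zero {i j : Idx n} (hij : Rt i j) : sD' Sg C (by omega) i j (0 : K) = 1 := by
  have h := sD'_add Sg C hn hL hij 0 0
  rw [add_zero] at h
  exact mul_eq_left.mp h

include hn hL in
theorem sD'_inv {i j : Idx n} (hij : Rt i j) (t : K) :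
    (sD' Sg C (by omega) i j t)⁻¹ = sD' Sg C (by omega) i j (-t) := by
  apply inv_eq_of_mul_eq_one_right
  rw [sD'_add Sg C hn hL hij, add_neg_cancel, sD'_zero Sg C hn hL hij]

include hn hL in
theorem sD'_xbar {a b : Idx n} (hab : Rt a b) (t : K) :
    sD' Sg C (by omega) a b t = sD' Sg C (by omega) b.swap a.swap (-t) := by
  have hn3 : 3 ≤ n := by omega
  have hm1 := midD_left hn3 a b
  have hm2 := midD_right hn3 a b
  obtain ⟨m, hm⟩ : ∃ m, m = midD hn3 a b := ⟨_, rfl⟩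
  rw [← hm] at hm1 hm2
  have e1 : sD' Sg C hn3 a b t = C.cm (Sg.x a m t) (Sg.x m b 1) := by
    unfold sD' Fd
    rw [← hm]
  rw [e1, Sg.xbar a m hm1, Sg.xbar m b hm2, ← C.cm_inv]
  have e2 : C.cm (Sg.x b.swap m.swap (-1)) (Sg.x m.swap a.swap (-t)) =
      Fd Sg C b.swap m.swap a.swap (-1) (-t) := rfl
  rw [e2, hFd Sg C hn hL hm2.bar hm1.bar hab.bar, sD'_inv Sg C hn hL hab.bar]
  congr 1
  ring

include hn hL in
/-- **the relation `comm_row` for the lifts.** -/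
theorem lc_row {y b : Idx n} (hyb : Rt y b) (t u : K) : C.LC (Sg.x y b t) (Sg.x y b.swap u) := by
  have hn3 : 3 ≤ n := by omega
  obtain ⟨a, ha⟩ := OD.exists_oth hn3 y b
  obtain ⟨a1, a2, a3, a4⟩ := ha
  have hya : Rt y a := ⟨fun e => a1 e.symm, fun e => a3 (swap_eq_iff.mp e.symm)⟩
  have hab : Rt a b := ⟨a2, a4⟩
  have hab' : Rt a b.swap := hab.swap_right
  have hyb' : Rt y b.swap := hyb.swap_right
  have hyabar : Rt y a.swap := hya.swap_right
  -- the lifts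
  obtain ⟨X, hX⟩ : ∃ X, X = C.lf (Sg.x y a 1) := ⟨_, rfl⟩
  obtain ⟨Y, hY⟩ : ∃ Y, Y = C.lf (Sg.x a b t) := ⟨_, rfl⟩
  obtain ⟨Z, hZ⟩ : ∃ Z, Z = C.lf (Sg.x a b.swap u) := ⟨_, rfl⟩
  have hXψ : C.ψ X = Sg.x y a 1 := by rw [hX, C.ψ_lf]
  have hYψ : C.ψ Y = Sg.x a b t := by rw [hY, C.ψ_lf]
  have hZψ : C.ψ Z = Sg.x a b.swap u := by rw [hZ, C.ψ_lf]
  obtain ⟨P, hP⟩ : ∃ P, P = X * Y * X⁻¹ * Y⁻¹ := ⟨_, rfl⟩
  obtain ⟨Q, hQ⟩ : ∃ Q, Q = X * Z * X⁻¹ * Z⁻¹ := ⟨_, rfl⟩
  obtain ⟨c, hc⟩ : ∃ c, c = Y * Z * Y⁻¹ * Z⁻¹ := ⟨_, rfl⟩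
  have hPψ : C.ψ P = Sg.x y b t := by
    rw [hP, map_mul, map_mul, map_mul, map_inv, map_inv, hXψ, hYψ, Sg.comm3 y a b hya hab hyb, one_mul]
  have hQψ : C.ψ Q = Sg.x y b.swap u := by
    rw [hQ, map_mul, map_mul, map_mul, map_inv, map_inv, hXψ, hZψ, Sg.comm3 y a b.swap hya hab' hyb',
      one_mul]
  have hcψ : C.ψ c = 1 := by
    rw [hc, map_mul, map_mul, map_mul, map_inv, map_inv, hYψ, hZψ, Sg.comm_row a b hab]
    group
  -- the two commutators which are lifts of root elements of the root `(y, ā)`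
  obtain ⟨R₁, hR₁⟩ : ∃ R₁, R₁ = Y * Q * Y⁻¹ * Q⁻¹ := ⟨_, rfl⟩
  obtain ⟨R₂, hR₂⟩ : ∃ R₂, R₂ = P * Z * P⁻¹ * Z⁻¹ := ⟨_, rfl⟩
  -- `R₂ = [P, Z]`, with `Z` a lift of `x_{b ā}(-u)`
  have hZψ' : C.ψ Z = Sg.x b a.swap (-u) := by
    rw [hZψ, Sg.xbar a b.swap hab', Sum.swap_swap]
  have hba' : Rt b a.swap := by
    have := hab'.bar
    rwa [Sum.swap_swap] at this
  have eR₂ : R₂ = sD' Sg C hn3 y a.swap (t * -u) := by
    rw [hR₂, ← C.cm_eq hPψ hZψ']
    exact hFd Sg C hn hL hyb hba' hyabar t (-u)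
  -- `R₁ = [Y, Q] = [Q, Y]⁻¹`, with `Y` a lift of `x_{b̄ ā}(-t)`
  have hYψ' : C.ψ Y = Sg.x b.swap a.swap (-t) := by
    rw [hYψ, Sg.xbar a b hab]
  have eR₁ : R₁ = sD' Sg C hn3 y a.swap (-(u * -t)) := by
    have e : R₁ = (Q * Y * Q⁻¹ * Y⁻¹)⁻¹ := by rw [hR₁]; group
    rw [e, ← C.cm_eq hQψ hYψ', ← sD'_inv Sg C hn hL hyabar]
    congr 1
    exact hFd Sg C hn hL hyb' hab.bar hyabar u (-t)
  have hR₁ψ : C.ψ R₁ = Sg.x y a.swap (-(u * -t)) := by rw [eR₁, ψ_sD' Sg C hn3 hyabar]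
  have hR₂ψ : C.ψ R₂ = Sg.x y a.swap (t * -u) := by rw [eR₂, ψ_sD' Sg C hn3 hyabar]
  have hRR : R₁ * R₂ = 1 := by
    rw [eR₁, eR₂, sD'_add Sg C hn hL hyabar]
    have : -(u * -t) + t * -u = 0 := by ring
    rw [this, sD'_zero Sg C hn hL hyabar]
  -- the commutations
  have hPR : P * R₁ = R₁ * P :=
    hL y b y a.swap hyb hyabar hyb.1.symm hyabar.1 (ne_swap y)
      (fun e => hab.1 (swap_inj.mp e)) t _ P R₁ hPψ hR₁ψ
  have hQR : Q * R₂ = R₂ * Q :=
    hL y b.swap y a.swap hyb' hyabar hyb'.1.symm hyabar.1 (ne_swap y)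
      (fun e => hab.2 (by rw [Sum.swap_swap] at e; exact swap_eq_iff.mp e)) u _ Q R₂ hQψ hR₂ψ
  have hcc : ∀ g, c * g = g * c := fun g => C.ker_comm hcψ g
  have key := typeI_key (X := X) (Y := Y) (Z := Z) (P := P) (Q := Q) (c := c) (R₁ := R₁) (R₂ := R₂)
    (by rw [hP]; group) (by rw [hQ]; group) (by rw [hc]; group) (by rw [hR₁]; group)
    (by rw [hR₂]; group) hcc hPR hQR hRR
  intro A B hA hB
  have h1 : C.cm (Sg.x y b t) (Sg.x y b.swap u) = 1 := by
    rw [C.cm_eq hPψ hQψ, key]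
    group
  exact (C.LC_iff _ _).mpr h1 A B hA hB

include hn in
/-- **the extension carries the Steinberg relations.** -/
theorem exists_OD_lift_aux : ∃ SE : OD n K E, ∀ a b, Rt a b → ∀ t : K, C.ψ (SE.x a b t) = Sg.x a b t := by
  have hn3 : 3 ≤ n := by omega
  have hL := lcg_of_five Sg C hn
  refine ⟨{ x := sD' Sg C hn3, xbar := ?_, add := ?_, comm := ?_, comm_row := ?_, comm3 := ?_ },
    fun a b hab t => ψ_sD' Sg C hn3 hab t⟩
  · intro a b hab t
    exact sD'_xbar Sg C hn hL hab t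
  · intro a b hab t u
    exact sD'_add Sg C hn hL hab t u
  · intro a b c d hab hcd hbc had hca hdb t u
    exact hL a b c d hab hcd hbc had hca hdb t u _ _ (ψ_sD' Sg C hn3 hab t) (ψ_sD' Sg C hn3 hcd u)
  · intro a b hab t u
    exact lc_row Sg C hn hL hab t u _ _ (ψ_sD' Sg C hn3 hab t) (ψ_sD' Sg C hn3 hab.swap_right u)
  · intro a b c hab hbc hac t u
    rw [← C.cm_eq (ψ_sD' Sg C hn3 hab t) (ψ_sD' Sg C hn3 hbc u)]
    exact hFd Sg C hn hL hab hbc hac t u

end lifted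

/-- **a central extension of a group with the Steinberg relations of type `D_n`, `n ≥ 5`, carries the
Steinberg relations.** -/
theorem exists_OD_lift (hn : 5 ≤ n) {G E : Type*} [Group G] [Group E] (Sg : OD n K G)
    (C : Cfsg.Agent.Helper7.Sc.CExt E G) :
    ∃ SE : OD n K E, ∀ a b, Rt a b → ∀ t : K, C.ψ (SE.x a b t) = Sg.x a b t :=
  exists_OD_lift_aux Sg C hn

end Cfsg.Agent.CtRecD
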