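import Mathlib
import Cfsg.Agent.CtRecD.SchDefs
import Cfsg.Agent.CtRecD.OdG
import Cfsg.Agent.Helper7.SlH

set_option autoImplicit false
set_option linter.unusedSectionVars false
set_option linter.unusedVariables false
set_option linter.unusedSimpArgs false

/-!
# S2096, piece S3 (helper6): the elements `h_kl(t)` of a group with the Steinberg relations of type `D`

* `OD.mon_h`: `h_kl(t)` acts monomially with trivial permutation and coefficients `hD k l t`;
* `OD.Mon.conj_h`: the action of a monomial element on the `h_kl(u)`;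
* `OD.h_mul_of_finite`: the relation (C) `h_kl(t) h_kl(u) = h_kl(t u)` over a finite field (from the type `A`
  result on an `A_2` subsystem);
* the calculus of the `h_kl(t)` under the relation (C): `h_inv`, `h_comm`, `h_swap`, `h_bar`, `h_split`;
* `OD.Ht_conj_mem`, `OD.exists_mon_of_mem_Ht`, `OD.phi_h`.
-/

namespace Cfsg.Agent.CtRecD

open Matrix

variable {n : ℕ} {K : Type*} [Field K] {Γ : Type*} [Group Γ] (S : OD n K Γ)

/-! ### the coefficients `hD` -/

section hD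

variable {k l : Idx n} (hkl : Rt k l)
include hkl

omit hkl in
theorem s3_hD_k (t : K) : hD k l t k = t := by
  unfold hD
  rw [if_pos rfl]

theorem s3_hD_l (t : K) : hD k l t l = t⁻¹ := by
  unfold hD
  rw [if_neg hkl.symm.1, if_pos rfl]

theorem s3_hD_kbar (t : K) : hD k l t k.swap = t⁻¹ := by
  unfold hD
  rw [if_neg (ne_swap k).symm, if_neg (fun e => hkl.symm.2 e.symm), if_pos rfl]

theorem s3_hD_lbar (t : K) : hD k l t l.swap = t := by
  unfold hD
  rw [if_neg (fun e => hkl.2 e.symm), if_neg (ne_swap l).symm,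
    if_neg (fun e => hkl.symm.1 (swap_inj.mp e)), if_pos rfl]

omit hkl in
theorem s3_hD_oth {i : Idx n} (hi : Oth k l i) (t : K) : hD k l t i = 1 := by
  unfold hD
  rw [if_neg hi.1, if_neg hi.2.1, if_neg hi.2.2.1, if_neg hi.2.2.2]

omit hkl in
theorem s3_cases (i : Idx n) : i = k ∨ i = l ∨ i = k.swap ∨ i = l.swap ∨ Oth k l i := by
  by_cases h1 : i = k
  · exact Or.inl h1
  by_cases h2 : i = l
  · exact Or.inr (Or.inl h2)
  by_cases h3 : i = k.swap
  · exact Or.inr (Or.inr (Or.inl h3))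
  by_cases h4 : i = l.swap
  · exact Or.inr (Or.inr (Or.inr (Or.inl h4)))
  exact Or.inr (Or.inr (Or.inr (Or.inr ⟨h1, h2, h3, h4⟩)))

theorem s3_sD_sq : sD k l * sD k l = 1 := by
  ext i
  rw [Equiv.Perm.mul_apply, Equiv.Perm.one_apply]
  rcases s3_cases (k := k) (l := l) i with rfl | rfl | rfl | rfl | hi
  · rw [sD_k hkl, sD_l hkl]
  · rw [sD_l hkl, sD_k hkl]
  · rw [sD_kbar hkl, sD_lbar hkl]
  · rw [sD_lbar hkl, sD_kbar hkl]
  · rw [sD_oth hi, sD_oth hi]

end hD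

namespace OD

/-! ### `h_kl(t)` is monomial -/

theorem mon_h (hn : 3 ≤ n) {k l : Idx n} (hkl : Rt k l) {t : K} (ht : t ≠ 0) :
    S.Mon (S.h k l t) 1 (hD k l t) := by
  have hm1 : (-1 : K) ≠ 0 := neg_ne_zero.mpr one_ne_zero
  have h1 := (S.mon_w hn hkl ht).mul S (S.mon_w hn hkl hm1)
  refine h1.congr S (s3_sD_sq hkl) ?_
  intro i
  rcases s3_cases (k := k) (l := l) i with rfl | rfl | rfl | rfl | hi
  · rw [sD_k hkl, cD_l, cD_k hkl, s3_hD_k, inv_neg, inv_one, neg_neg, mul_one]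
  · rw [sD_l hkl, cD_k hkl, cD_l, s3_hD_l hkl]
    ring
  · rw [sD_kbar hkl, cD_lbar hkl, cD_kbar hkl, s3_hD_kbar hkl, neg_neg, mul_one]
  · rw [sD_lbar hkl, cD_kbar hkl, cD_lbar hkl, s3_hD_lbar hkl, inv_neg, inv_one]
    ring
  · rw [sD_oth hi, cD_oth hi, cD_oth hi, s3_hD_oth hi, mul_one]

/-- the action of a monomial element on the `h_kl(u)`. -/
theorem Mon.conj_h {g : Γ} {σ : Equiv.Perm (Idx n)} {a : Idx n → K} (h : S.Mon g σ a) {k l : Idx n}
    (hkl : Rt k l) {u : K} (hu : u ≠ 0) :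
    MulAut.conj g (S.h k l u) =
      S.h (σ k) (σ l) (a k * (a l)⁻¹ * u) * (S.h (σ k) (σ l) (a k * (a l)⁻¹))⁻¹ := by
  have hσ : Rt (σ k) (σ l) := h.rt S hkl
  unfold OD.h
  rw [map_mul, h.conj_w S hkl hu, h.conj_w S hkl (neg_ne_zero.mpr one_ne_zero), mul_neg, mul_one,
    ← S.w_inv hσ (a k * (a l)⁻¹)]
  group

/-! ### the relation (C) over a finite field -/

/-- the three indices of an `A_2` subsystem. -/
def s3_idx (k l m : Idx n) : Fin 3 → Idx n := ![k, l, m]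

theorem s3_idx_rt {k l m : Idx n} (hkl : Rt k l) (hm : Oth k l m) (i j : Fin 3) (hij : i ≠ j) :
    Rt (s3_idx k l m i) (s3_idx k l m j) := by
  have hkm : Rt k m := ⟨hm.1.symm, fun e => hm.2.2.1 (by rw [e, Sum.swap_swap])⟩
  have hlm : Rt l m := ⟨hm.2.1.symm, fun e => hm.2.2.2 (by rw [e, Sum.swap_swap])⟩
  fin_cases i <;> fin_cases j
  · exact absurd rfl hij
  · exact hkl
  · exact hkm
  · exact hkl.symm
  · exact absurd rfl hij
  · exact hlm
  · exact hkm.symm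
  · exact hlm.symm
  · exact absurd rfl hij

/-- the subgroup generated by the six root groups of an `A_2` subsystem. -/
def s3_sub (k l m : Idx n) : Subgroup Γ :=
  Subgroup.closure {g | ∃ (i j : Fin 3) (t : K), i ≠ j ∧ g = S.x (s3_idx k l m i) (s3_idx k l m j) t}

theorem s3_x_mem (k l m : Idx n) {i j : Fin 3} (hij : i ≠ j) (t : K) :
    S.x (s3_idx k l m i) (s3_idx k l m j) t ∈ S.s3_sub k l m :=
  Subgroup.subset_closure ⟨i, j, t, hij, rfl⟩

open Classical in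
/-- the Steinberg relations of type `A_2` in the subgroup generated by the six root groups. -/
noncomputable def s3_SD {k l m : Idx n} (hkl : Rt k l) (hm : Oth k l m) :
    Cfsg.Agent.Helper7.Sl.SD 3 K ↥(S.s3_sub k l m) where
  x i j t := if hij : i = j then 1 else ⟨S.x (s3_idx k l m i) (s3_idx k l m j) t, S.s3_x_mem k l m hij t⟩
  add := by
    intro i j hij t u
    rw [dif_neg hij, dif_neg hij, dif_neg hij]
    apply Subtype.ext
    exact S.add _ _ (s3_idx_rt hkl hm i j hij) t u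
  comm := by
    intro i j p q hij hpq hiq hjp t u
    rw [dif_neg hij, dif_neg hpq]
    apply Subtype.ext
    have r1 := s3_idx_rt hkl hm i j hij
    have r2 := s3_idx_rt hkl hm p q hpq
    have r3 := s3_idx_rt hkl hm j p hjp
    have r4 := s3_idx_rt hkl hm i q hiq
    have h3 : s3_idx k l m p ≠ (s3_idx k l m i).swap := by
      by_cases hpi : p = i
      · rw [hpi]
        exact ne_swap _
      · exact (s3_idx_rt hkl hm p i hpi).2
    have h4 : s3_idx k l m q ≠ (s3_idx k l m j).swap := by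
      by_cases hqj : q = j
      · rw [hqj]
        exact ne_swap _
      · exact (s3_idx_rt hkl hm q j hqj).2
    exact S.comm _ _ _ _ r1 r2 r3.1 r4.1 h3 h4 t u
  comm3 := by
    intro i j p hij hjp hip t u
    rw [dif_neg hij, dif_neg hjp, dif_neg hip]
    apply Subtype.ext
    exact S.comm3 _ _ _ (s3_idx_rt hkl hm i j hij) (s3_idx_rt hkl hm j p hjp)
      (s3_idx_rt hkl hm i p hip) t u

theorem s3_SD_x {k l m : Idx n} (hkl : Rt k l) (hm : Oth k l m) {i j : Fin 3} (hij : i ≠ j) (t : K) :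
    (((S.s3_SD hkl hm).x i j t : ↥(S.s3_sub k l m)) : Γ) =
      S.x (s3_idx k l m i) (s3_idx k l m j) t := by
  unfold s3_SD
  simp only [dif_neg hij]

theorem s3_SD_gen {k l m : Idx n} (hkl : Rt k l) (hm : Oth k l m) :
    Subgroup.closure {g : ↥(S.s3_sub k l m) | ∃ (i j : Fin 3) (t : K), i ≠ j ∧
      g = (S.s3_SD hkl hm).x i j t} = ⊤ := by
  have h := Subgroup.closure_closure_coe_preimage
    (k := {g : Γ | ∃ (i j : Fin 3) (t : K), i ≠ j ∧ g = S.x (s3_idx k l m i) (s3_idx k l m j) t})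
  have e : {g : ↥(S.s3_sub k l m) | ∃ (i j : Fin 3) (t : K), i ≠ j ∧
      g = (S.s3_SD hkl hm).x i j t} =
      ((↑) : ↥(S.s3_sub k l m) → Γ) ⁻¹'
        {g : Γ | ∃ (i j : Fin 3) (t : K), i ≠ j ∧ g = S.x (s3_idx k l m i) (s3_idx k l m j) t} := by
    ext g
    constructor
    · rintro ⟨i, j, t, hij, rfl⟩
      exact ⟨i, j, t, hij, S.s3_SD_x hkl hm hij t⟩
    · rintro ⟨i, j, t, hij, hg⟩
      refine ⟨i, j, t, hij, Subtype.ext ?_⟩
      rw [S.s3_SD_x hkl hm hij t]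
      exact hg
  rw [e]
  exact h

theorem s3_SD_w {k l m : Idx n} (hkl : Rt k l) (hm : Oth k l m) (u : K) :
    (((S.s3_SD hkl hm).w 0 1 u : ↥(S.s3_sub k l m)) : Γ) = S.w k l u := by
  have h01 : (0 : Fin 3) ≠ 1 := by decide
  have h10 : (1 : Fin 3) ≠ 0 := by decide
  unfold Cfsg.Agent.Helper7.Sl.SD.w OD.w
  rw [Subgroup.coe_mul, Subgroup.coe_mul, S.s3_SD_x hkl hm h01, S.s3_SD_x hkl hm h10]
  rfl

theorem s3_SD_h {k l m : Idx n} (hkl : Rt k l) (hm : Oth k l m) (u : K) :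
    (((S.s3_SD hkl hm).h 0 1 u : ↥(S.s3_sub k l m)) : Γ) = S.h k l u := by
  unfold Cfsg.Agent.Helper7.Sl.SD.h OD.h
  rw [Subgroup.coe_mul, S.s3_SD_w hkl hm, S.s3_SD_w hkl hm]

/-- **over a finite field the elements `h_kl(t)` are multiplicative in `t`.** -/
theorem h_mul_of_finite [Finite K] (hn : 3 ≤ n) {k l : Idx n} (hkl : Rt k l) {t u : K} (ht : t ≠ 0)
    (hu : u ≠ 0) : S.h k l t * S.h k l u = S.h k l (t * u) := by
  obtain ⟨m, hm⟩ := exists_oth hn k l
  have h01 : (0 : Fin 3) ≠ 1 := by decide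
  have e := Cfsg.Agent.Helper7.Sl.SD.h_mul_of_finite (S.s3_SD hkl hm) (le_refl 3)
    (S.s3_SD_gen hkl hm) h01 ht hu
  have e2 := congrArg (Subtype.val : ↥(S.s3_sub k l m) → Γ) e
  rw [Subgroup.coe_mul, S.s3_SD_h hkl hm, S.s3_SD_h hkl hm, S.s3_SD_h hkl hm] at e2
  exact e2

/-! ### the calculus of the `h_kl(t)` under the relation (C) -/

section relC

variable (hn : 3 ≤ n)
  (hC : ∀ k l : Idx n, Rt k l → ∀ t u : K, t ≠ 0 → u ≠ 0 → S.h k l t * S.h k l u = S.h k l (t * u))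

include hC in
theorem h_inv {p q : Idx n} (hpq : Rt p q) {t : K} (ht : t ≠ 0) : (S.h p q t)⁻¹ = S.h p q t⁻¹ := by
  apply inv_eq_of_mul_eq_one_right
  rw [hC p q hpq t t⁻¹ ht (inv_ne_zero ht), mul_inv_cancel₀ ht, S.h_one hpq]

include hC in
theorem h_comm_same {p q : Idx n} (hpq : Rt p q) {t u : K} (ht : t ≠ 0) (hu : u ≠ 0) :
    S.h p q t * S.h p q u = S.h p q u * S.h p q t := by
  rw [hC p q hpq t u ht hu, hC p q hpq u t hu ht, mul_comm]

include hn hC in
/-- the elements `h_pq(t)` commute with each other. -/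
theorem h_comm {p q k l : Idx n} (hpq : Rt p q) (hkl : Rt k l) {t u : K} (ht : t ≠ 0) (hu : u ≠ 0) :
    S.h p q t * S.h k l u = S.h k l u * S.h p q t := by
  have e := (S.mon_h hn hpq ht).conj_h S hkl hu
  rw [Equiv.Perm.one_apply, Equiv.Perm.one_apply, MulAut.conj_apply] at e
  have hc : hD p q t k * (hD p q t l)⁻¹ ≠ 0 :=
    mul_ne_zero (hD_ne_zero p q ht k) (inv_ne_zero (hD_ne_zero p q ht l))
  rw [mul_comm _ u, ← hC k l hkl u _ hu hc, mul_inv_cancel_right] at e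
  calc S.h p q t * S.h k l u = (S.h p q t * S.h k l u * (S.h p q t)⁻¹) * S.h p q t := by group
    _ = _ := by rw [e]

/-- `w_kl(1)² = h_kl(-1)⁻¹`. -/
theorem s3_w_one_sq {k l : Idx n} (hkl : Rt k l) : S.w k l 1 * S.w k l 1 = (S.h k l (-1))⁻¹ := by
  unfold OD.h
  rw [_root_.mul_inv_rev, S.w_inv hkl, neg_neg]

include hn hC in
/-- `h_lk(t) = h_kl(t)⁻¹`. -/
theorem h_swap {k l : Idx n} (hkl : Rt k l) {t : K} (ht : t ≠ 0) : S.h l k t = (S.h k l t)⁻¹ := by
  have hm1 : (-1 : K) ≠ 0 := neg_ne_zero.mpr one_ne_zero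
  have e1 : S.w l k t = S.w k l (-t⁻¹) := S.w_swap hn hkl ht
  have e2 : S.w l k (-1) = S.w k l 1 := by
    rw [S.w_swap hn hkl hm1, inv_neg, inv_one, neg_neg]
  have e3 : S.w k l (-t⁻¹) = S.h k l (-t⁻¹) * S.w k l 1 := S.w_eq_h_mul hkl _
  have e5 : S.h k l (-t⁻¹) = S.h k l t⁻¹ * S.h k l (-1) := by
    rw [hC k l hkl _ _ (inv_ne_zero ht) hm1, mul_neg, mul_one]
  have e6 : S.h l k t = S.w l k t * S.w l k (-1) := rfl
  rw [e6, e1, e2, e3, mul_assoc, S.s3_w_one_sq hkl, S.h_inv hC hkl ht, e5, mul_inv_cancel_right]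

include hC in
/-- `h_{l̄ k̄}(t) = h_kl(t)`. -/
theorem h_bar {k l : Idx n} (hkl : Rt k l) {t : K} (ht : t ≠ 0) :
    S.h l.swap k.swap t = S.h k l t := by
  have hm1 : (-1 : K) ≠ 0 := neg_ne_zero.mpr one_ne_zero
  have e1 : S.w l.swap k.swap t = S.w k l (-t) := by
    rw [S.w_bar hkl (-t), neg_neg]
  have e2 : S.w l.swap k.swap (-1) = S.w k l 1 := by
    rw [S.w_bar hkl 1]
  have e3 : S.w k l (-t) = S.h k l (-t) * S.w k l 1 := S.w_eq_h_mul hkl _
  have e5 : S.h k l (-t) = S.h k l t * S.h k l (-1) := by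
    rw [hC k l hkl _ _ ht hm1, mul_neg, mul_one]
  have e6 : S.h l.swap k.swap t = S.w l.swap k.swap t * S.w l.swap k.swap (-1) := rfl
  rw [e6, e1, e2, e3, mul_assoc, S.s3_w_one_sq hkl, e5, mul_inv_cancel_right]

include hn hC in
/-- `h_kl(t) = h_kν(t) h_νl(t)`. -/
theorem h_split {k ν l : Idx n} (hkν : Rt k ν) (hνl : Rt ν l) (hkl : Rt k l) {t : K} (ht : t ≠ 0) :
    S.h k l t = S.h k ν t * S.h ν l t := by
  have hm1 : (-1 : K) ≠ 0 := neg_ne_zero.mpr one_ne_zero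
  have hko : Oth ν l k := ⟨hkν.1, hkl.1, hkν.2, hkl.2⟩
  have hlo : Oth k ν l := ⟨hkl.symm.1, hνl.symm.1, hkl.symm.2, hνl.symm.2⟩
  -- first computation of the conjugate of `h_kν(t)` by `w_νl(1)`
  have e1 := (S.mon_w hn hνl (one_ne_zero (α := K))).conj_h S hkν ht
  rw [sD_oth hko, sD_k hνl, MulAut.conj_apply] at e1
  have hc : cD ν l (1 : K) k * (cD ν l (1 : K) ν)⁻¹ = -1 := by
    rw [cD_oth hko, cD_k hνl]
    norm_num
  rw [hc] at e1
  have e2 : S.h k l (-1 * t) * (S.h k l (-1))⁻¹ = S.h k l t := by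
    rw [← hC k l hkl (-1) t hm1 ht, S.h_comm_same hC hkl hm1 ht, mul_inv_cancel_right]
  rw [e2] at e1
  -- second computation
  have hM := (S.mon_h hn hkν ht).inv S
  have e3 := hM.conj_w S hνl (one_ne_zero (α := K))
  rw [inv_one, Equiv.Perm.one_apply, Equiv.Perm.one_apply, MulAut.conj_apply, inv_inv] at e3
  have hc2 : (hD k ν t ν)⁻¹ * ((hD k ν t l)⁻¹)⁻¹ * 1 = t := by
    rw [s3_hD_l hkν, s3_hD_oth hlo]
    simp
  rw [hc2] at e3
  rw [← e1]
  have e4 : S.w ν l 1 * S.h k ν t * (S.w ν l 1)⁻¹ =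
      S.h k ν t * ((S.h k ν t)⁻¹ * S.w ν l 1 * S.h k ν t) * (S.w ν l 1)⁻¹ := by group
  rw [e4, e3, S.w_inv hνl, mul_assoc]
  rfl

end relC

/-! ### `H̃` -/

/-- `W̃` normalises `H̃`. -/
theorem Ht_conj_mem (hn : 3 ≤ n) {g h : Γ} (hg : g ∈ S.Wt) (hh : h ∈ S.Ht) : g * h * g⁻¹ ∈ S.Ht := by
  obtain ⟨σ, a, hM⟩ := S.exists_mon_of_mem_Wt hn hg
  unfold Ht at hh
  induction hh using Subgroup.closure_induction with
  | mem x hx =>
    obtain ⟨k, l, u, hkl, hu, rfl⟩ := hx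
    have e := hM.conj_h S hkl hu
    rw [MulAut.conj_apply] at e
    rw [e]
    have hr := hM.rt S hkl
    have hc : a k * (a l)⁻¹ ≠ 0 := mul_ne_zero (hM.1 k) (inv_ne_zero (hM.1 l))
    exact mul_mem (S.h_mem_Ht hr (mul_ne_zero hc hu)) (inv_mem (S.h_mem_Ht hr hc))
  | one =>
    rw [mul_one, mul_inv_cancel]
    exact one_mem _
  | mul x y _ _ ihx ihy =>
    have : g * (x * y) * g⁻¹ = (g * x * g⁻¹) * (g * y * g⁻¹) := by group
    rw [this]
    exact mul_mem ihx ihy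
  | inv x _ ih =>
    have : g * x⁻¹ * g⁻¹ = (g * x * g⁻¹)⁻¹ := by group
    rw [this]
    exact inv_mem ih

/-- the elements of `H̃` act monomially with trivial permutation. -/
theorem exists_mon_of_mem_Ht (hn : 3 ≤ n) {g : Γ} (hg : g ∈ S.Ht) : ∃ a : Idx n → K, S.Mon g 1 a := by
  unfold Ht at hg
  induction hg using Subgroup.closure_induction with
  | mem x hx =>
    obtain ⟨k, l, u, hkl, hu, rfl⟩ := hx
    exact ⟨_, S.mon_h hn hkl hu⟩
  | one => exact ⟨_, S.mon_one⟩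
  | mul x y _ _ ihx ihy =>
    obtain ⟨a, ha⟩ := ihx
    obtain ⟨b, hb⟩ := ihy
    exact ⟨_, (ha.mul S hb).congr S (mul_one 1) (fun _ => rfl)⟩
  | inv x _ ih =>
    obtain ⟨a, ha⟩ := ih
    exact ⟨_, (ha.inv S).congr S inv_one (fun _ => rfl)⟩

/-! ### the matrices of the `h_kl(t)` -/

theorem s3_w_mem_XR2 {k l : Idx n} (hkl : Rt k l) (t : K) :
    S.w k l t ∈ S.XR (fun i j => (i = k ∧ j = l) ∨ (i = l ∧ j = k)) := by
  unfold OD.w
  exact mul_mem (mul_mem (S.x_mem_XR hkl (Or.inl ⟨rfl, rfl⟩) _)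
    (S.x_mem_XR hkl.symm (Or.inr ⟨rfl, rfl⟩) _)) (S.x_mem_XR hkl (Or.inl ⟨rfl, rfl⟩) _)

theorem s3_h_mem_XR2 {k l : Idx n} (hkl : Rt k l) (t : K) :
    S.h k l t ∈ S.XR (fun i j => (i = k ∧ j = l) ∨ (i = l ∧ j = k)) := by
  unfold OD.h
  exact mul_mem (S.s3_w_mem_XR2 hkl _) (S.s3_w_mem_XR2 hkl _)

section phi

variable (φ : Γ →* Matrix (Idx n) (Idx n) K)
  (hφ : ∀ a b, Rt a b → ∀ t, φ (S.x a b t) = oX a b t)

include hφ in
theorem s3_phi_XR2_row {k l : Idx n} {g : Γ}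
    (hg : g ∈ S.XR (fun i j => (i = k ∧ j = l) ∨ (i = l ∧ j = k))) {r : Idx n} (hr : Oth k l r)
    (b : Idx n) : φ g r b = (1 : Matrix (Idx n) (Idx n) K) r b := by
  refine S.XR_induction_left (P := fun g => φ g r b = (1 : Matrix (Idx n) (Idx n) K) r b) ?_ ?_ hg
  · rw [map_one]
  · rintro i j t g hij hR hg ih
    have hri : r ≠ i := by
      rcases hR with ⟨rfl, _⟩ | ⟨rfl, _⟩
      · exact hr.1
      · exact hr.2.1
    have hrj : r ≠ j.swap := by
      rcases hR with ⟨_, rfl⟩ | ⟨_, rfl⟩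
      · exact hr.2.2.2
      · exact hr.2.2.1
    rw [map_mul, hφ i j hij, oX_mul_apply, if_neg hri, if_neg hrj, add_zero, sub_zero, ih]

include hφ in
/-- the matrix of an element acting monomially with trivial permutation is diagonal. -/
theorem Mon.s3_phi_diag (hn : 3 ≤ n) {g : Γ} {a : Idx n → K} (hM : S.Mon g 1 a) :
    (∀ r i : Idx n, r ≠ i → φ g r i = 0) ∧
      ∀ i j : Idx n, Rt i j → φ g i i = a i * (a j)⁻¹ * φ g j j := by
  have hrel : ∀ i j, Rt i j → φ g * oX i j 1 = oX i j (a i * (a j)⁻¹ * 1) * φ g := by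
    intro i j hij
    have e := hM.mul_x S hij 1
    have e2 := congrArg φ e
    rw [map_mul, map_mul, hφ i j hij, Equiv.Perm.one_apply, Equiv.Perm.one_apply, hφ _ _ hij] at e2
    exact e2
  have hoff : ∀ r i : Idx n, r ≠ i → φ g r i = 0 := by
    intro r i hri
    obtain ⟨j, hj1, hj2, hj3, hj4⟩ := exists_oth hn i r
    have hij : Rt i j := ⟨hj1.symm, fun e => hj3 (by rw [e, Sum.swap_swap])⟩
    have e := congrFun (congrFun (hrel i j hij) r) j
    rw [mul_oX_apply, oX_mul_apply, if_pos rfl, if_neg hri,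
      if_neg (fun e' : j = i.swap => hj3 e'),
      if_neg (fun e' : r = j.swap => hj4 (by rw [e', Sum.swap_swap])), sub_zero, add_zero,
      sub_zero, mul_one] at e
    linear_combination e
  refine ⟨hoff, ?_⟩
  intro i j hij
  have e := congrFun (congrFun (hrel i j hij) i) j
  rw [mul_oX_apply, oX_mul_apply, if_pos rfl, if_pos rfl,
    if_neg (fun e' : j = i.swap => hij.2 (by rw [e', Sum.swap_swap])),
    if_neg (fun e' : i = j.swap => hij.2 e'), sub_zero, sub_zero, mul_one, mul_one] at e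
  linear_combination e

include hφ in
/-- the matrix of `h_kl(t)`. -/
theorem phi_h (hn : 3 ≤ n) {k l : Idx n} (hkl : Rt k l) {t : K} (ht : t ≠ 0) :
    φ (S.h k l t) = Matrix.diagonal (hD k l t) := by
  obtain ⟨m, hm⟩ := exists_oth hn k l
  obtain ⟨h1, h2⟩ := (S.mon_h hn hkl ht).s3_phi_diag S φ hφ hn
  have hmm : φ (S.h k l t) m m = 1 := by
    rw [S.s3_phi_XR2_row φ hφ (S.s3_h_mem_XR2 hkl t) hm, Matrix.one_apply_eq]
  have hAm : hD k l t m = 1 := s3_hD_oth hm t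
  have hkm : Rt k m := ⟨hm.1.symm, fun e => hm.2.2.1 (by rw [e, Sum.swap_swap])⟩
  have hkk : φ (S.h k l t) k k = t := by
    rw [h2 k m hkm, hmm, hAm, s3_hD_k, inv_one, mul_one, mul_one]
  ext r i
  by_cases hri : r = i
  · subst hri
    rw [Matrix.diagonal_apply_eq]
    by_cases hrm : r = m
    · rw [hrm, hmm, hAm]
    · by_cases hrmb : r = m.swap
      · -- `r = m̄`: go through `k`
        have hrk : Rt r k := by
          rw [hrmb]
          exact hkm.symm.swap_left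
        rw [h2 r k hrk, hkk, hrmb, s3_hD_oth hm.swap, s3_hD_k, one_mul]
        exact inv_mul_cancel₀ ht
      · have hr : Rt r m := ⟨hrm, hrmb⟩
        rw [h2 r m hr, hmm, hAm, inv_one, mul_one, mul_one]
  · rw [Matrix.diagonal_apply_ne _ hri, h1 r i hri]

end phi

end OD

end Cfsg.Agent.CtRecD
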