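import Mathlib
import Cfsg.Agent.CtRecD.SchCext
import Cfsg.Agent.CtRecD.SchH

set_option autoImplicit false
set_option linter.unusedSectionVars false
set_option linter.unusedVariables false

/-!
# Central extensions of a group with the Steinberg relations of type `D_n`: the general frame, and `n = 3` (helper7)

`exists_OD_lift_of`: the extension carries the Steinberg relations as soon as lifts of commuting root elements commute
(`LCg`) and the commutators of lifts do not depend on the middle index (`HFd`); this is the section `lifted` of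
`SchCext.lean` with `hFd` as a hypothesis.  `lc_of_torus`: the torus argument.  For `n = 3` and `2 ≠ 0` both hypotheses hold
by the torus elements `h_kl(-1)`.
-/

namespace Cfsg.Agent.CtRecD

open Cfsg.Agent.Helper7.Sc Cfsg.Agent.Helper7.Sl

variable {n : ℕ} {K : Type*} [Field K] {G E : Type*} [Group G] [Group E] (Sg : OD n K G)
  (C : CExt E G)

/-- the commutators of lifts are the chosen lifts. -/
def HFd (hn : 3 ≤ n) : Prop :=
  ∀ i h j : Idx n, Rt i h → Rt h j → Rt i j → ∀ a b : K,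
    Fd Sg C i h j a b = sD' Sg C hn i j (a * b)

section lifted3

variable (hn : 3 ≤ n) (hL : LCg Sg C) (hF : HFd Sg C hn)

include hL in
/-- additivity of the commutator of lifts in the first variable. -/
theorem c3_Fd_add {i h j : Idx n} (hih : Rt i h) (hhj : Rt h j) (hij : Rt i j) (t u b : K) :
    Fd Sg C i h j t b * Fd Sg C i h j u b = Fd Sg C i h j (t + u) b := by
  have h1 : Fd Sg C i h j (t + u) b = Fd Sg C i h j u b * Fd Sg C i h j t b := by
    unfold Fd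
    rw [← Sg.add i h hih t u, cm_mul_left]
    congr 1
    have hlc := hL i h i j hih hij hih.1.symm hij.1 (ne_swap i)
      (fun e => hhj.2 (swap_eq_iff.mp e.symm)) t (u * b)
    exact hlc.kap_eq C (ψ_Fd Sg C hih hhj hij u b)
  rw [h1]
  exact hL i j i j hij hij hij.1.symm hij.1 (ne_swap i) (ne_swap j) (t * b) (u * b) _ _
    (ψ_Fd Sg C hih hhj hij t b) (ψ_Fd Sg C hih hhj hij u b)

include hL in
theorem c3_sD'_add {i j : Idx n} (hij : Rt i j) (t u : K) :
    sD' Sg C hn i j t * sD' Sg C hn i j u = sD' Sg C hn i j (t + u) :=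
  c3_Fd_add Sg C hL (midD_left hn i j) (midD_right hn i j) hij t u 1

include hL in
theorem c3_sD'_zero {i j : Idx n} (hij : Rt i j) : sD' Sg C hn i j (0 : K) = 1 := by
  have h := c3_sD'_add Sg C hn hL hij 0 0
  rw [add_zero] at h
  exact mul_eq_left.mp h

include hL in
theorem c3_sD'_inv {i j : Idx n} (hij : Rt i j) (t : K) :
    (sD' Sg C hn i j t)⁻¹ = sD' Sg C hn i j (-t) := by
  apply inv_eq_of_mul_eq_one_right
  rw [c3_sD'_add Sg C hn hL hij, add_neg_cancel, c3_sD'_zero Sg C hn hL hij]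

include hL hF in
theorem c3_sD'_xbar {a b : Idx n} (hab : Rt a b) (t : K) :
    sD' Sg C hn a b t = sD' Sg C hn b.swap a.swap (-t) := by
  have hm1 := midD_left hn a b
  have hm2 := midD_right hn a b
  obtain ⟨m, hm⟩ : ∃ m, m = midD hn a b := ⟨_, rfl⟩
  rw [← hm] at hm1 hm2
  have e1 : sD' Sg C hn a b t = C.cm (Sg.x a m t) (Sg.x m b 1) := by
    unfold sD' Fd
    rw [← hm]
  rw [e1, Sg.xbar a m hm1, Sg.xbar m b hm2, ← C.cm_inv]
  have e2 : C.cm (Sg.x b.swap m.swap (-1)) (Sg.x m.swap a.swap (-t)) =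
      Fd Sg C b.swap m.swap a.swap (-1) (-t) := rfl
  rw [e2, hF _ _ _ hm2.bar hm1.bar hab.bar, c3_sD'_inv Sg C hn hL hab.bar]
  congr 1
  ring

include hL hF in
/-- **the relation `comm_row` for the lifts.** -/
theorem c3_lc_row {y b : Idx n} (hyb : Rt y b) (t u : K) : C.LC (Sg.x y b t) (Sg.x y b.swap u) := by
  obtain ⟨a, ha⟩ := OD.exists_oth hn y b
  obtain ⟨a1, a2, a3, a4⟩ := ha
  have hya : Rt y a := ⟨fun e => a1 e.symm, fun e => a3 (swap_eq_iff.mp e.symm)⟩
  have hab : Rt a b := ⟨a2, a4⟩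
  have hab' : Rt a b.swap := hab.swap_right
  have hyb' : Rt y b.swap := hyb.swap_right
  have hyabar : Rt y a.swap := hya.swap_right
  -- the lifts
  obtain ⟨X, hX⟩ : ∃ X, X = C.lf (Sg.x y a 1) := ⟨_, rfl⟩
  obtain ⟨Y, hY⟩ : ∃ Y, Y = C.lf (Sg.x a b t) := ⟨_, rfl⟩
  obtain ⟨Z, hZ⟩ : ∃ Z, Z = C.lf (Sg.x a b.swap u) := ⟨_, rfl⟩
  have hXψ : C.ψ X = Sg.x y a 1 := by rw [hX, C.ψ_lf]
  have hYψ : C.ψ Y = Sg.x a b t := by rw [hY, C.ψ_lf]
  have hZψ : C.ψ Z = Sg.x a b.swap u := by rw [hZ, C.ψ_lf]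
  obtain ⟨P, hP⟩ : ∃ P, P = X * Y * X⁻¹ * Y⁻¹ := ⟨_, rfl⟩
  obtain ⟨Q, hQ⟩ : ∃ Q, Q = X * Z * X⁻¹ * Z⁻¹ := ⟨_, rfl⟩
  obtain ⟨c, hc⟩ : ∃ c, c = Y * Z * Y⁻¹ * Z⁻¹ := ⟨_, rfl⟩
  have hPψ : C.ψ P = Sg.x y b t := by
    rw [hP, map_mul, map_mul, map_mul, map_inv, map_inv, hXψ, hYψ, Sg.comm3 y a b hya hab hyb, one_mul]
  have hQψ : C.ψ Q = Sg.x y b.swap u := by
    rw [hQ, map_mul, map_mul, map_mul, map_inv, map_inv, hXψ, hZψ, Sg.comm3 y a b.swap hya hab' hyb',
      one_mul]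
  have hcψ : C.ψ c = 1 := by
    rw [hc, map_mul, map_mul, map_mul, map_inv, map_inv, hYψ, hZψ, Sg.comm_row a b hab]
    group
  obtain ⟨R₁, hR₁⟩ : ∃ R₁, R₁ = Y * Q * Y⁻¹ * Q⁻¹ := ⟨_, rfl⟩
  obtain ⟨R₂, hR₂⟩ : ∃ R₂, R₂ = P * Z * P⁻¹ * Z⁻¹ := ⟨_, rfl⟩
  have hZψ' : C.ψ Z = Sg.x b a.swap (-u) := by
    rw [hZψ, Sg.xbar a b.swap hab', Sum.swap_swap]
  have hba' : Rt b a.swap := by
    have := hab'.bar
    rwa [Sum.swap_swap] at this
  have eR₂ : R₂ = sD' Sg C hn y a.swap (t * -u) := by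
    rw [hR₂, ← C.cm_eq hPψ hZψ']
    exact hF _ _ _ hyb hba' hyabar t (-u)
  have hYψ' : C.ψ Y = Sg.x b.swap a.swap (-t) := by
    rw [hYψ, Sg.xbar a b hab]
  have eR₁ : R₁ = sD' Sg C hn y a.swap (-(u * -t)) := by
    have e : R₁ = (Q * Y * Q⁻¹ * Y⁻¹)⁻¹ := by rw [hR₁]; group
    rw [e, ← C.cm_eq hQψ hYψ', ← c3_sD'_inv Sg C hn hL hyabar]
    congr 1
    exact hF _ _ _ hyb' hab.bar hyabar u (-t)
  have hR₁ψ : C.ψ R₁ = Sg.x y a.swap (-(u * -t)) := by rw [eR₁, ψ_sD' Sg C hn hyabar]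
  have hR₂ψ : C.ψ R₂ = Sg.x y a.swap (t * -u) := by rw [eR₂, ψ_sD' Sg C hn hyabar]
  have hRR : R₁ * R₂ = 1 := by
    rw [eR₁, eR₂, c3_sD'_add Sg C hn hL hyabar]
    have : -(u * -t) + t * -u = 0 := by ring
    rw [this, c3_sD'_zero Sg C hn hL hyabar]
  have hPR : P * R₁ = R₁ * P :=
    hL y b y a.swap hyb hyabar hyb.1.symm hyabar.1 (ne_swap y)
      (fun e => hab.1 (swap_inj.mp e)) t _ P R₁ hPψ hR₁ψ
  have hQR : Q * R₂ = R₂ * Q :=
    hL y b.swap y a.swap hyb' hyabar hyb'.1.symm hyabar.1 (ne_swap y)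
      (fun e => hab.2 (by rw [Sum.swap_swap] at e; exact swap_eq_iff.mp e)) u _ Q R₂ hQψ hR₂ψ
  have hcc : ∀ g, c * g = g * c := fun g => C.ker_comm hcψ g
  have key := typeI_key (X := X) (Y := Y) (Z := Z) (P := P) (Q := Q) (c := c) (R₁ := R₁) (R₂ := R₂)
    (by rw [hP]; group) (by rw [hQ]; group) (by rw [hc]; group) (by rw [hR₁]; group)
    (by rw [hR₂]; group) hcc hPR hQR hRR
  intro A B hA hB
  have h1 : C.cm (Sg.x y b t) (Sg.x y b.swap u) = 1 := by
    rw [C.cm_eq hPψ hQψ, key]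
    group
  exact (C.LC_iff _ _).mpr h1 A B hA hB

include hL hF in
/-- **the extension carries the Steinberg relations**, given `LCg` and `HFd`. -/
theorem exists_OD_lift_of :
    ∃ SE : OD n K E, ∀ a b, Rt a b → ∀ t : K, C.ψ (SE.x a b t) = Sg.x a b t := by
  refine ⟨{ x := sD' Sg C hn, xbar := ?_, add := ?_, comm := ?_, comm_row := ?_, comm3 := ?_ },
    fun a b hab t => ψ_sD' Sg C hn hab t⟩
  · intro a b hab t
    exact c3_sD'_xbar Sg C hn hL hF hab t
  · intro a b hab t u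
    exact c3_sD'_add Sg C hn hL hab t u
  · intro a b c d hab hcd hbc had hca hdb t u
    exact hL a b c d hab hcd hbc had hca hdb t u _ _ (ψ_sD' Sg C hn hab t) (ψ_sD' Sg C hn hcd u)
  · intro a b hab t u
    exact c3_lc_row Sg C hn hL hF hab t u _ _ (ψ_sD' Sg C hn hab t) (ψ_sD' Sg C hn hab.swap_right u)
  · intro a b c hab hbc hac t u
    rw [← C.cm_eq (ψ_sD' Sg C hn hab t) (ψ_sD' Sg C hn hbc u)]
    exact hF _ _ _ hab hbc hac t u

end lifted3

/-! ### the torus argument -/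

/-- **the torus argument**: lifts of `p t` and `q u` commute, if some `g` fixes the `q u` and scales the additive family `p` by
`r ≠ 1`. -/
theorem lc_of_torus (p q : K → G) (hp : ∀ t u, p t * p u = p (t + u))
    (hcomm : ∀ t u, p t * q u = q u * p t) (g : G) (r : K) (hr : r - 1 ≠ 0)
    (hgp : ∀ t, g * p t * g⁻¹ = p (r * t)) (hgq : ∀ u, g * q u * g⁻¹ = q u) (t u : K) :
    C.LC (p t) (q u) := by
  have hadd : ∀ a b : K, C.cm (p (a + b)) (q u) = C.cm (p b) (q u) * C.cm (p a) (q u) := by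
    intro a b
    rw [← hp a b, cm_mul_left, kap_cm_of_comm C (hcomm b u)]
  have hinv : ∀ a : K, C.cm (p (r * a)) (q u) = C.cm (p a) (q u) := by
    intro a
    have h1 := kap_cm_of_comm C (hcomm a u) g
    rw [C.kap_cm, hgp, hgq] at h1
    exact h1
  have hkill : ∀ a : K, C.cm (p ((r - 1) * a)) (q u) = 1 := by
    intro a
    have h1 := hadd a ((r - 1) * a)
    have e : a + (r - 1) * a = r * a := by ring
    rw [e, hinv] at h1
    exact (mul_eq_right.mp h1.symm)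
  rw [C.LC_iff]
  have := hkill (t / (r - 1))
  rwa [mul_div_cancel₀ _ hr] at this

/-- an additive family of lifts is determined by its images, if some conjugation inverts it (`2 ≠ 0`). -/
theorem c3_eq_of_neg (h2 : (2 : K) ≠ 0) (A B : K → E) (hA : ∀ t u, A t * A u = A (t + u))
    (hB : ∀ t u, B t * B u = B (t + u)) (hψ : ∀ t, C.ψ (A t) = C.ψ (B t))
    (hAB : ∀ t, A t * B t = B t * A t) (g : G) (hgA : ∀ t, C.kap g (A t) = A (-t))
    (hgB : ∀ t, C.kap g (B t) = B (-t)) (t : K) : A t = B t := by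
  have hA0 : A 0 = 1 := by
    have h := hA 0 0
    rw [add_zero] at h
    exact mul_eq_left.mp h
  have hB0 : B 0 = 1 := by
    have h := hB 0 0
    rw [add_zero] at h
    exact mul_eq_left.mp h
  have hAneg : ∀ a, A (-a) = (A a)⁻¹ := by
    intro a
    apply eq_inv_of_mul_eq_one_left
    rw [hA, neg_add_cancel, hA0]
  have hBneg : ∀ a, B (-a) = (B a)⁻¹ := by
    intro a
    apply eq_inv_of_mul_eq_one_left
    rw [hB, neg_add_cancel, hB0]
  have hsq : ∀ a, A (a + a) = B (a + a) := by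
    intro a
    have hz : C.ψ (A a * (B a)⁻¹) = 1 := by rw [map_mul, map_inv, hψ, mul_inv_cancel]
    have h1 := C.kap_ker hz g
    rw [map_mul, map_inv, hgA, hgB, hAneg, hBneg, inv_inv] at h1
    -- h1 : (A a)⁻¹ * B a = A a * (B a)⁻¹
    have h3 : A a * A a = B a * B a := by
      calc A a * A a = A a * (A a * (B a)⁻¹) * B a := by group
        _ = A a * ((A a)⁻¹ * B a) * B a := by rw [h1]
        _ = B a * B a := by group
    rw [← hA, ← hB, h3]
  have e : t = t / 2 + t / 2 := by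
    field_simp
    ring
  rw [e]
  exact hsq (t / 2)

/-! ### the torus elements `h_kl(-1)` -/

theorem c3_hD_in (k l : Idx n) {i : Idx n} (hi : i = k ∨ i = l ∨ i = k.swap ∨ i = l.swap) :
    hD k l (-1 : K) i = -1 := by
  unfold hD
  split_ifs <;> simp_all [inv_neg]

theorem c3_hD_out (k l : Idx n) {i : Idx n} (hi : ¬ (i = k ∨ i = l ∨ i = k.swap ∨ i = l.swap)) :
    hD k l (-1 : K) i = 1 := by
  push Not at hi
  unfold hD
  rw [if_neg hi.1, if_neg hi.2.1, if_neg hi.2.2.1, if_neg hi.2.2.2]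

theorem c3_conj_h (hn : 3 ≤ n) {k l i j : Idx n} (hkl : Rt k l) (hij : Rt i j) (c : K) :
    Sg.h k l (-1) * Sg.x i j c * (Sg.h k l (-1))⁻¹ =
      Sg.x i j (hD k l (-1 : K) i * (hD k l (-1 : K) j)⁻¹ * c) := by
  have h := (Sg.mon_h hn hkl (neg_ne_zero.mpr (one_ne_zero (α := K)))).2.2 i j hij c
  rw [MulAut.conj_apply] at h
  exact h

/-- `h_kl(-1)` fixes `x_ij(c)`, if `i` and `j` both lie on the coordinates of `k`, `l`, or both do not. -/
theorem c3_conj_h_same (hn : 3 ≤ n) {k l i j : Idx n} (hkl : Rt k l) (hij : Rt i j)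
    (h : (i = k ∨ i = l ∨ i = k.swap ∨ i = l.swap) ↔ (j = k ∨ j = l ∨ j = k.swap ∨ j = l.swap)) (c : K) :
    Sg.h k l (-1) * Sg.x i j c * (Sg.h k l (-1))⁻¹ = Sg.x i j c := by
  rw [c3_conj_h Sg hn hkl hij]
  congr 1
  by_cases hi : i = k ∨ i = l ∨ i = k.swap ∨ i = l.swap
  · rw [c3_hD_in k l hi, c3_hD_in k l (h.mp hi)]
    simp
  · rw [c3_hD_out k l hi, c3_hD_out k l (fun hj => hi (h.mpr hj))]
    simp

/-- `h_kl(-1)` inverts `x_ij(c)`, if exactly one of `i`, `j` lies on the coordinates of `k`, `l`. -/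
theorem c3_conj_h_diff (hn : 3 ≤ n) {k l i j : Idx n} (hkl : Rt k l) (hij : Rt i j)
    (h : (i = k ∨ i = l ∨ i = k.swap ∨ i = l.swap) ↔ ¬ (j = k ∨ j = l ∨ j = k.swap ∨ j = l.swap)) (c : K) :
    Sg.h k l (-1) * Sg.x i j c * (Sg.h k l (-1))⁻¹ = Sg.x i j (-1 * c) := by
  rw [c3_conj_h Sg hn hkl hij]
  congr 1
  by_cases hi : i = k ∨ i = l ∨ i = k.swap ∨ i = l.swap
  · rw [c3_hD_in k l hi, c3_hD_out k l (h.mp hi)]
    simp
  · have hj : j = k ∨ j = l ∨ j = k.swap ∨ j = l.swap := by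
      by_contra hj
      exact hi (h.mpr hj)
    rw [c3_hD_out k l hi, c3_hD_in k l hj]
    simp [inv_neg]

/-! ### coordinates -/

/-- the coordinate of an index. -/
def c3_crd : Idx n → Fin n := Sum.elim id id

theorem c3_crd_ne_iff {i k : Idx n} : (i ≠ k ∧ i ≠ k.swap) ↔ c3_crd i ≠ c3_crd k := by
  rcases i with i | i <;> rcases k with k | k <;> simp [c3_crd]

theorem c3_rt_iff {a b : Idx n} : Rt a b ↔ c3_crd a ≠ c3_crd b := c3_crd_ne_iff

theorem c3_crd_eq {i k : Idx n} (h : c3_crd i = c3_crd k) : i = k ∨ i = k.swap := by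
  by_contra hcon
  push Not at hcon
  exact c3_crd_ne_iff.mp hcon h

theorem c3_mem_iff {i k l : Idx n} :
    (i = k ∨ i = l ∨ i = k.swap ∨ i = l.swap) ↔ (c3_crd i = c3_crd k ∨ c3_crd i = c3_crd l) := by
  constructor
  · rintro (h | h | h | h)
    · left; rw [h]
    · right; rw [h]
    · left; rw [h]; rcases k with k | k <;> rfl
    · right; rw [h]; rcases l with l | l <;> rfl
  · rintro (h | h)
    · rcases c3_crd_eq h with h' | h'
      · exact Or.inl h'
      · exact Or.inr (Or.inr (Or.inl h'))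
    · rcases c3_crd_eq h with h' | h'
      · exact Or.inr (Or.inl h')
      · exact Or.inr (Or.inr (Or.inr h'))

/-- four indices of `Idx 3` do not have pairwise distinct coordinates. -/
theorem c3_no_four {a b c d : Idx 3} (h1 : c3_crd a ≠ c3_crd b) (h2 : c3_crd a ≠ c3_crd c)
    (h3 : c3_crd a ≠ c3_crd d) (h4 : c3_crd b ≠ c3_crd c) (h5 : c3_crd b ≠ c3_crd d)
    (h6 : c3_crd c ≠ c3_crd d) : False := by
  have e1 := Fin.val_ne_of_ne h1
  have e2 := Fin.val_ne_of_ne h2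
  have e3 := Fin.val_ne_of_ne h3
  have e4 := Fin.val_ne_of_ne h4
  have e5 := Fin.val_ne_of_ne h5
  have e6 := Fin.val_ne_of_ne h6
  have := (c3_crd a).isLt
  have := (c3_crd b).isLt
  have := (c3_crd c).isLt
  have := (c3_crd d).isLt
  omega

/-! ### rank three -/

section three

variable (h2 : (2 : K) ≠ 0) (Sg3 : OD 3 K G)

include h2 in
/-- **lifts of commuting root elements commute**, `n = 3`, `2 ≠ 0`. -/
theorem c3_lcg : LCg Sg3 C := by
  intro a b c d hab hcd hbc had hca hdb t u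
  have hn : 3 ≤ 3 := le_refl 3
  have hr : (-1 : K) - 1 ≠ 0 := by
    intro e
    apply h2
    linear_combination (-1 : K) * e
  by_cases hc : c = a ∨ c = b ∨ c = a.swap ∨ c = b.swap
  · by_cases hd : d = a ∨ d = b ∨ d = a.swap ∨ d = b.swap
    · -- the same coordinates: a third coordinate
      obtain ⟨h, h1, h2', h3, h4⟩ := OD.exists_oth hn a b
      have hh : ¬ (c3_crd h = c3_crd a ∨ c3_crd h = c3_crd b) := by
        rw [← c3_mem_iff]
        push Not
        exact ⟨h1, h2', h3, h4⟩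
      push Not at hh
      have hcc := c3_mem_iff.mp hc
      have hdd := c3_mem_iff.mp hd
      have hch : Rt c h := by
        rw [c3_rt_iff]
        rcases hcc with e | e <;> rw [e]
        · exact fun e' => hh.1 e'.symm
        · exact fun e' => hh.2 e'.symm
      have hhd : Rt h d := by
        rw [c3_rt_iff]
        rcases hdd with e | e <;> rw [e]
        · exact hh.1
        · exact hh.2
      exact lcg_mid Sg3 C hab hcd hbc had hca hdb hch hhd (fun e => h1 e.symm) h4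
        (fun e => h2' e.symm) h3 t u
    · -- `h_ab(-1)` fixes `x_ab` and inverts `x_cd`
      refine (lc_of_torus C (fun u => Sg3.x c d u) (fun t => Sg3.x a b t) (Sg3.add c d hcd)
        (fun u t => (Sg3.comm a b c d hab hcd hbc had hca hdb t u).symm) (Sg3.h a b (-1)) (-1) hr
        (fun u => c3_conj_h_diff Sg3 hn hab hcd ⟨fun _ => hd, fun _ => hc⟩ u)
        (fun t => c3_conj_h_same Sg3 hn hab hab
          ⟨fun _ => Or.inr (Or.inl rfl), fun _ => Or.inl rfl⟩ t) u t).symm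
  · by_cases hd : d = a ∨ d = b ∨ d = a.swap ∨ d = b.swap
    · refine (lc_of_torus C (fun u => Sg3.x c d u) (fun t => Sg3.x a b t) (Sg3.add c d hcd)
        (fun u t => (Sg3.comm a b c d hab hcd hbc had hca hdb t u).symm) (Sg3.h a b (-1)) (-1) hr
        (fun u => c3_conj_h_diff Sg3 hn hab hcd
          ⟨fun h => absurd h hc, fun h => absurd hd h⟩ u)
        (fun t => c3_conj_h_same Sg3 hn hab hab
          ⟨fun _ => Or.inr (Or.inl rfl), fun _ => Or.inl rfl⟩ t) u t).symm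
    · -- impossible in rank three
      exfalso
      rw [c3_mem_iff] at hc hd
      push Not at hc hd
      exact c3_no_four (c3_rt_iff.mp hab) (fun e => hc.1 e.symm) (fun e => hd.1 e.symm)
        (fun e => hc.2 e.symm) (fun e => hd.2 e.symm) (c3_rt_iff.mp hcd)

include h2 in
/-- the torus element `h_hj(-1)` inverts the commutators of lifts of `x_ih(a)` and `x_hj(b)`. -/
theorem c3_kap_Fd (hn : 3 ≤ n) (Sgn : OD n K G) {i h j : Idx n} (hih : Rt i h) (hhj : Rt h j)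
    (hij : Rt i j) (a b : K) :
    C.kap (Sgn.h h j (-1)) (Fd Sgn C i h j a b) = Fd Sgn C i h j (-a) b := by
  unfold Fd
  rw [C.kap_cm]
  have hi : ¬ (i = h ∨ i = j ∨ i = h.swap ∨ i = j.swap) := by
    push Not
    exact ⟨hih.1, hij.1, hih.2, hij.2⟩
  rw [c3_conj_h_diff Sgn hn hhj hih ⟨fun e => absurd e hi, fun e => absurd (Or.inl rfl) e⟩ a,
    c3_conj_h_same Sgn hn hhj hhj ⟨fun _ => Or.inr (Or.inl rfl), fun _ => Or.inl rfl⟩ b, neg_one_mul]

include h2 in
/-- the commutator of lifts depends on the product only. -/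
theorem c3_Fd_prod (hn : 3 ≤ n) (Sgn : OD n K G) (hL : LCg Sgn C) {i h j : Idx n} (hih : Rt i h)
    (hhj : Rt h j) (hij : Rt i j) (a b : K) : Fd Sgn C i h j a b = Fd Sgn C i h j (a * b) 1 := by
  refine c3_eq_of_neg C h2 (fun t => Fd Sgn C i h j t b) (fun t => Fd Sgn C i h j (t * b) 1)
    (fun t u => c3_Fd_add Sgn C hL hih hhj hij t u b) ?_ ?_ ?_ (Sgn.h h j (-1)) ?_ ?_ a
  · intro t u
    show Fd Sgn C i h j (t * b) 1 * Fd Sgn C i h j (u * b) 1 = Fd Sgn C i h j ((t + u) * b) 1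
    rw [c3_Fd_add Sgn C hL hih hhj hij, add_mul]
  · intro t
    show C.ψ (Fd Sgn C i h j t b) = C.ψ (Fd Sgn C i h j (t * b) 1)
    rw [ψ_Fd Sgn C hih hhj hij, ψ_Fd Sgn C hih hhj hij, mul_one]
  · intro t
    exact hL i j i j hij hij hij.1.symm hij.1 (ne_swap i) (ne_swap j) (t * b) (t * b * 1) _ _
      (ψ_Fd Sgn C hih hhj hij t b) (ψ_Fd Sgn C hih hhj hij (t * b) 1)
  · intro t
    exact c3_kap_Fd C h2 hn Sgn hih hhj hij t b
  · intro t
    show C.kap (Sgn.h h j (-1)) (Fd Sgn C i h j (t * b) 1) = Fd Sgn C i h j (-t * b) 1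
    rw [c3_kap_Fd C h2 hn Sgn hih hhj hij, neg_mul]

include h2 in
/-- the commutator of lifts does not change when the middle index is barred. -/
theorem c3_Fd_bar (hn : 3 ≤ n) (Sgn : OD n K G) (hL : LCg Sgn C) {i h j : Idx n} (hih : Rt i h)
    (hhj : Rt h j) (hij : Rt i j) (t : K) : Fd Sgn C i h j t 1 = Fd Sgn C i h.swap j t 1 := by
  have hih' : Rt i h.swap := hih.swap_right
  have hhj' : Rt h.swap j := hhj.swap_left
  refine c3_eq_of_neg C h2 (fun t => Fd Sgn C i h j t 1) (fun t => Fd Sgn C i h.swap j t 1)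
    (fun t u => c3_Fd_add Sgn C hL hih hhj hij t u 1)
    (fun t u => c3_Fd_add Sgn C hL hih' hhj' hij t u 1) ?_ ?_ (Sgn.h h j (-1)) ?_ ?_ t
  · intro t
    show C.ψ (Fd Sgn C i h j t 1) = C.ψ (Fd Sgn C i h.swap j t 1)
    rw [ψ_Fd Sgn C hih hhj hij, ψ_Fd Sgn C hih' hhj' hij]
  · intro t
    exact hL i j i j hij hij hij.1.symm hij.1 (ne_swap i) (ne_swap j) (t * 1) (t * 1) _ _
      (ψ_Fd Sgn C hih hhj hij t 1) (ψ_Fd Sgn C hih' hhj' hij t 1)
  · intro t
    exact c3_kap_Fd C h2 hn Sgn hih hhj hij t 1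
  · intro t
    show C.kap (Sgn.h h j (-1)) (Fd Sgn C i h.swap j t 1) = Fd Sgn C i h.swap j (-t) 1
    unfold Fd
    rw [C.kap_cm]
    have hi : ¬ (i = h ∨ i = j ∨ i = h.swap ∨ i = j.swap) := by
      push Not
      exact ⟨hih.1, hij.1, hih.2, hij.2⟩
    rw [c3_conj_h_diff Sgn hn hhj hih'
        ⟨fun e => absurd e hi, fun e => absurd (Or.inr (Or.inr (Or.inl rfl))) e⟩ t,
      c3_conj_h_same Sgn hn hhj hhj'
        ⟨fun _ => Or.inr (Or.inl rfl), fun _ => Or.inr (Or.inr (Or.inl rfl))⟩ 1, neg_one_mul]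

include h2 in
/-- **the commutators of lifts are the chosen lifts**, `n = 3`, `2 ≠ 0`. -/
theorem c3_hFd (hL : LCg Sg3 C) : HFd Sg3 C (le_refl 3) := by
  intro i h j hih hhj hij a b
  have hn : 3 ≤ 3 := le_refl 3
  rw [c3_Fd_prod C h2 hn Sg3 hL hih hhj hij a b]
  unfold sD'
  have hm1 := midD_left hn i j
  have hm2 := midD_right hn i j
  obtain ⟨m, hm⟩ : ∃ m, m = midD hn i j := ⟨_, rfl⟩
  rw [← hm] at hm1 hm2 ⊢
  have hcrd : c3_crd m = c3_crd h := by
    by_contra hne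
    exact c3_no_four (c3_rt_iff.mp hij) (c3_rt_iff.mp hm1) (c3_rt_iff.mp hih)
      (fun e => c3_rt_iff.mp hm2 e.symm) (fun e => c3_rt_iff.mp hhj e.symm) hne
  rcases c3_crd_eq hcrd with e | e
  · rw [e]
  · rw [e]
    exact c3_Fd_bar C h2 hn Sg3 hL hih hhj hij (a * b)

include h2 in
/-- **a central extension of a group with the Steinberg relations of type `D_3`, `2 ≠ 0`, carries the
Steinberg relations.** -/
theorem exists_OD_lift_three :
    ∃ SE : OD 3 K E, ∀ a b, Rt a b → ∀ t : K, C.ψ (SE.x a b t) = Sg3.x a b t :=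
  exists_OD_lift_of Sg3 C (le_refl 3) (c3_lcg C h2 Sg3) (c3_hFd C h2 Sg3 (c3_lcg C h2 Sg3))

end three

end Cfsg.Agent.CtRecD
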