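import Mathlib
import Cfsg.Agent.CtRecD.OdE
import Cfsg.Agent.CtRecD.OdG
import Cfsg.Agent.CtRecD.BridgeB1
import Cfsg.Agent.CtRecD.RecogD2

set_option autoImplicit false
set_option linter.unusedSectionVars false
set_option linter.unusedVariables false

/-!
# The Steinberg group of type `D_n` (helper5; S2096 swarm, piece S2)

`StD n K` is the group presented by the five relations of an `OD`-system.  It carries the universal
`OD`-system `stOD`, maps onto `Ω⁺_{2n}(K)` with central kernel (`n ≥ 3`), is perfect, is finite over a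
finite field, and every central extension of it in which the `OD`-system lifts is split.
-/

namespace Cfsg.Agent.CtRecD

open Matrix

open scoped commutatorElement

/-- a perfect group with a homomorphism with central kernel to a finite group is finite (Schur). -/
theorem finite_of_central_of_perfect {E Γ : Type*} [Group E] [Group Γ] [Finite Γ] (ψ : E →* Γ)
    (hc : ψ.ker ≤ Subgroup.center E) (hperf : commutator E = ⊤) : Finite E := by
  classical
  have hz : ∀ a a' : E, ψ a = ψ a' → ∃ z : E, (∀ x, z * x = x * z) ∧ a' = a * z := by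
    intro a a' h
    refine ⟨a⁻¹ * a', ?_, by group⟩
    have hk : a⁻¹ * a' ∈ ψ.ker := by
      rw [MonoidHom.mem_ker, map_mul, map_inv, h, inv_mul_cancel]
    intro x
    exact (Subgroup.mem_center_iff.mp (hc hk) x).symm
  have hcomm : ∀ a a' b b' : E, ψ a = ψ a' → ψ b = ψ b' → ⁅a, b⁆ = ⁅a', b'⁆ := by
    intro a a' b b' ha hb
    obtain ⟨z, hz1, rfl⟩ := hz a a' ha
    obtain ⟨w, hw1, rfl⟩ := hz b b' hb
    rw [commutatorElement_def, commutatorElement_def, _root_.mul_inv_rev, _root_.mul_inv_rev]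
    symm
    calc a * z * (b * w) * (z⁻¹ * a⁻¹) * (w⁻¹ * b⁻¹)
        = a * (z * (b * w) * z⁻¹) * a⁻¹ * (w⁻¹ * b⁻¹) := by group
      _ = a * ((b * w) * z * z⁻¹) * a⁻¹ * (w⁻¹ * b⁻¹) := by rw [hz1 (b * w)]
      _ = a * b * (w * a⁻¹ * w⁻¹) * b⁻¹ := by group
      _ = a * b * (a⁻¹ * w * w⁻¹) * b⁻¹ := by rw [hw1 a⁻¹]
      _ = a * b * a⁻¹ * b⁻¹ := by group
  have hsub : commutatorSet E ⊆ Set.range (fun p : ψ.range × ψ.range =>
      ⁅Classical.choose p.1.2, Classical.choose p.2.2⁆) := by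
    rintro g ⟨a, b, rfl⟩
    refine ⟨(⟨ψ a, a, rfl⟩, ⟨ψ b, b, rfl⟩), ?_⟩
    have h1 := Classical.choose_spec (⟨ψ a, a, rfl⟩ : ψ.range).2
    have h2 := Classical.choose_spec (⟨ψ b, b, rfl⟩ : ψ.range).2
    exact hcomm _ _ _ _ h1 h2
  haveI : Finite (commutatorSet E) := (Set.finite_range _).subset hsub
  haveI : Finite (commutator E) := inferInstance
  rw [hperf] at this
  exact Finite.of_equiv _ Subgroup.topEquiv.toEquiv

section pres

variable (n : ℕ) (K : Type*) [Field K]

/-- the index type of the generators. -/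
abbrev RtIdx (n : ℕ) := {p : Idx n × Idx n // Rt p.1 p.2}

/-- the Steinberg relators of type `D_n`: the five relations of an `OD`-system. -/
def stRelsD : Set (FreeGroup (RtIdx n × K)) :=
  {g | ∃ (a b : Idx n) (h : Rt a b) (t : K),
      g = FreeGroup.of ((⟨(a, b), h⟩ : RtIdx n), t) *
        (FreeGroup.of ((⟨(b.swap, a.swap), h.bar⟩ : RtIdx n), -t))⁻¹} ∪
  {g | ∃ (a b : Idx n) (h : Rt a b) (t u : K),
      g = FreeGroup.of ((⟨(a, b), h⟩ : RtIdx n), t) * FreeGroup.of ((⟨(a, b), h⟩ : RtIdx n), u) *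
        (FreeGroup.of ((⟨(a, b), h⟩ : RtIdx n), t + u))⁻¹} ∪
  {g | ∃ (a b c d : Idx n) (hab : Rt a b) (hcd : Rt c d) (t u : K),
      b ≠ c ∧ a ≠ d ∧ c ≠ a.swap ∧ d ≠ b.swap ∧
      g = FreeGroup.of ((⟨(a, b), hab⟩ : RtIdx n), t) * FreeGroup.of ((⟨(c, d), hcd⟩ : RtIdx n), u) *
        (FreeGroup.of ((⟨(a, b), hab⟩ : RtIdx n), t))⁻¹ *
        (FreeGroup.of ((⟨(c, d), hcd⟩ : RtIdx n), u))⁻¹} ∪
  {g | ∃ (a b : Idx n) (h : Rt a b) (t u : K),
      g = FreeGroup.of ((⟨(a, b), h⟩ : RtIdx n), t) *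
        FreeGroup.of ((⟨(a, b.swap), h.swap_right⟩ : RtIdx n), u) *
        (FreeGroup.of ((⟨(a, b), h⟩ : RtIdx n), t))⁻¹ *
        (FreeGroup.of ((⟨(a, b.swap), h.swap_right⟩ : RtIdx n), u))⁻¹} ∪
  {g | ∃ (a b c : Idx n) (hab : Rt a b) (hbc : Rt b c) (hac : Rt a c) (t u : K),
      g = FreeGroup.of ((⟨(a, b), hab⟩ : RtIdx n), t) * FreeGroup.of ((⟨(b, c), hbc⟩ : RtIdx n), u) *
        (FreeGroup.of ((⟨(a, b), hab⟩ : RtIdx n), t))⁻¹ *
        (FreeGroup.of ((⟨(b, c), hbc⟩ : RtIdx n), u))⁻¹ *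
        (FreeGroup.of ((⟨(a, c), hac⟩ : RtIdx n), t * u))⁻¹}

/-- **the Steinberg group of type `D_n` over `K`.** -/
abbrev StD : Type _ := PresentedGroup (stRelsD n K)

open Classical in
/-- the root elements of the Steinberg group. -/
noncomputable def stx (a b : Idx n) (t : K) : StD n K :=
  if h : Rt a b then PresentedGroup.of ((⟨(a, b), h⟩ : RtIdx n), t) else 1

theorem stx_of {a b : Idx n} (h : Rt a b) (t : K) :
    stx n K a b t = (PresentedGroup.of ((⟨(a, b), h⟩ : RtIdx n), t) : StD n K) := dif_pos h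

/-- the Steinberg group carries the universal `OD`-system. -/
noncomputable def stOD : OD n K (StD n K) where
  x := stx n K
  xbar := by
    intro a b h t
    rw [stx_of n K h, stx_of n K h.bar]
    have hm : FreeGroup.of ((⟨(a, b), h⟩ : RtIdx n), t) *
        (FreeGroup.of ((⟨(b.swap, a.swap), h.bar⟩ : RtIdx n), -t))⁻¹ ∈ stRelsD n K :=
      Or.inl (Or.inl (Or.inl (Or.inl ⟨a, b, h, t, rfl⟩)))
    have e := PresentedGroup.one_of_mem hm
    rw [map_mul, map_inv, mul_inv_eq_one] at e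
    exact e
  add := by
    intro a b h t u
    rw [stx_of n K h, stx_of n K h, stx_of n K h]
    have hm : FreeGroup.of ((⟨(a, b), h⟩ : RtIdx n), t) * FreeGroup.of ((⟨(a, b), h⟩ : RtIdx n), u) *
        (FreeGroup.of ((⟨(a, b), h⟩ : RtIdx n), t + u))⁻¹ ∈ stRelsD n K :=
      Or.inl (Or.inl (Or.inl (Or.inr ⟨a, b, h, t, u, rfl⟩)))
    have e := PresentedGroup.one_of_mem hm
    rw [map_mul, map_mul, map_inv, mul_inv_eq_one] at e
    exact e
  comm := by
    intro a b c d hab hcd hbc had hca hdb t u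
    rw [stx_of n K hab, stx_of n K hcd]
    have hm : FreeGroup.of ((⟨(a, b), hab⟩ : RtIdx n), t) * FreeGroup.of ((⟨(c, d), hcd⟩ : RtIdx n), u) *
        (FreeGroup.of ((⟨(a, b), hab⟩ : RtIdx n), t))⁻¹ *
        (FreeGroup.of ((⟨(c, d), hcd⟩ : RtIdx n), u))⁻¹ ∈ stRelsD n K :=
      Or.inl (Or.inl (Or.inr ⟨a, b, c, d, hab, hcd, t, u, hbc, had, hca, hdb, rfl⟩))
    have e := PresentedGroup.one_of_mem hm
    rw [map_mul, map_mul, map_mul, map_inv, map_inv, mul_inv_eq_one, mul_inv_eq_iff_eq_mul] at e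
    exact e
  comm_row := by
    intro a b h t u
    rw [stx_of n K h, stx_of n K h.swap_right]
    have hm : FreeGroup.of ((⟨(a, b), h⟩ : RtIdx n), t) *
        FreeGroup.of ((⟨(a, b.swap), h.swap_right⟩ : RtIdx n), u) *
        (FreeGroup.of ((⟨(a, b), h⟩ : RtIdx n), t))⁻¹ *
        (FreeGroup.of ((⟨(a, b.swap), h.swap_right⟩ : RtIdx n), u))⁻¹ ∈ stRelsD n K :=
      Or.inl (Or.inr ⟨a, b, h, t, u, rfl⟩)
    have e := PresentedGroup.one_of_mem hm
    rw [map_mul, map_mul, map_mul, map_inv, map_inv, mul_inv_eq_one, mul_inv_eq_iff_eq_mul] at e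
    exact e
  comm3 := by
    intro a b c hab hbc hac t u
    rw [stx_of n K hab, stx_of n K hbc, stx_of n K hac]
    have hm : FreeGroup.of ((⟨(a, b), hab⟩ : RtIdx n), t) * FreeGroup.of ((⟨(b, c), hbc⟩ : RtIdx n), u) *
        (FreeGroup.of ((⟨(a, b), hab⟩ : RtIdx n), t))⁻¹ *
        (FreeGroup.of ((⟨(b, c), hbc⟩ : RtIdx n), u))⁻¹ *
        (FreeGroup.of ((⟨(a, c), hac⟩ : RtIdx n), t * u))⁻¹ ∈ stRelsD n K :=
      Or.inr ⟨a, b, c, hab, hbc, hac, t, u, rfl⟩
    have e := PresentedGroup.one_of_mem hm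
    rw [map_mul, map_mul, map_mul, map_mul, map_inv, map_inv, map_inv, mul_inv_eq_one] at e
    exact e

theorem stOD_x (a b : Idx n) (t : K) : (stOD n K).x a b t = stx n K a b t := rfl

theorem stOD_x_of {a b : Idx n} (h : Rt a b) (t : K) :
    (stOD n K).x a b t = (PresentedGroup.of ((⟨(a, b), h⟩ : RtIdx n), t) : StD n K) := stx_of n K h t

/-- the root elements generate the Steinberg group. -/
theorem stOD_gens : Subgroup.closure (stOD n K).gens = ⊤ := by
  rw [eq_top_iff, ← PresentedGroup.closure_range_of, Subgroup.closure_le]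
  rintro _ ⟨⟨⟨⟨a, b⟩, h⟩, t⟩, rfl⟩
  apply Subgroup.subset_closure
  exact ⟨a, b, t, h, (stOD_x_of n K h t).symm⟩

variable {n K}

theorem stLift_rels {E : Type*} [Group E] (S : OD n K E) : ∀ r ∈ stRelsD n K,
    FreeGroup.lift (fun p : RtIdx n × K => S.x p.1.1.1 p.1.1.2 p.2) r = 1 := by
  intro r hr
  rcases hr with (((⟨a, b, h, t, rfl⟩ | ⟨a, b, h, t, u, rfl⟩) |
    ⟨a, b, c, d, hab, hcd, t, u, hbc, had, hca, hdb, rfl⟩) | ⟨a, b, h, t, u, rfl⟩) |
    ⟨a, b, c, hab, hbc, hac, t, u, rfl⟩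
  · rw [map_mul, map_inv, FreeGroup.lift_apply_of, FreeGroup.lift_apply_of, mul_inv_eq_one]
    exact S.xbar a b h t
  · rw [map_mul, map_mul, map_inv, FreeGroup.lift_apply_of, FreeGroup.lift_apply_of,
      FreeGroup.lift_apply_of, mul_inv_eq_one]
    exact S.add a b h t u
  · rw [map_mul, map_mul, map_mul, map_inv, map_inv, FreeGroup.lift_apply_of,
      FreeGroup.lift_apply_of, mul_inv_eq_one, mul_inv_eq_iff_eq_mul]
    exact S.comm a b c d hab hcd hbc had hca hdb t u
  · rw [map_mul, map_mul, map_mul, map_inv, map_inv, FreeGroup.lift_apply_of,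
      FreeGroup.lift_apply_of, mul_inv_eq_one, mul_inv_eq_iff_eq_mul]
    exact S.comm_row a b h t u
  · rw [map_mul, map_mul, map_mul, map_mul, map_inv, map_inv, map_inv, FreeGroup.lift_apply_of,
      FreeGroup.lift_apply_of, FreeGroup.lift_apply_of, mul_inv_eq_one]
    exact S.comm3 a b c hab hbc hac t u

/-- **the universal property of the Steinberg group.** -/
noncomputable def stLift {E : Type*} [Group E] (S : OD n K E) : StD n K →* E :=
  PresentedGroup.toGroup (stLift_rels S)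

theorem stLift_of {E : Type*} [Group E] (S : OD n K E) (p : RtIdx n × K) :
    stLift S (PresentedGroup.of p) = S.x p.1.1.1 p.1.1.2 p.2 :=
  PresentedGroup.toGroup.of (stLift_rels S)

theorem stLift_x {E : Type*} [Group E] (S : OD n K E) {a b : Idx n} (h : Rt a b) (t : K) :
    stLift S ((stOD n K).x a b t) = S.x a b t := by
  rw [stOD_x_of n K h, stLift_of]

/-- two homomorphisms from the Steinberg group agreeing on the root elements are equal. -/
theorem stD_hom_ext {E : Type*} [Group E] {f g : StD n K →* E}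
    (h : ∀ a b, Rt a b → ∀ t, f ((stOD n K).x a b t) = g ((stOD n K).x a b t)) : f = g := by
  apply PresentedGroup.ext
  rintro ⟨⟨⟨a, b⟩, hab⟩, t⟩
  have := h a b hab t
  rw [stOD_x_of n K hab] at this
  exact this

end pres

variable {n : ℕ} {K : Type*} [Field K]

/-- a group generated by an `OD`-system (`n ≥ 3`) is perfect. -/
theorem OD.perfect_of_gens {Γ : Type*} [Group Γ] (S : OD n K Γ) (hn : 3 ≤ n)
    (hgen : Subgroup.closure {g | ∃ (a b : Idx n) (t : K), Rt a b ∧ g = S.x a b t} = ⊤) :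
    commutator Γ = ⊤ := by
  rw [eq_top_iff, ← hgen, Subgroup.closure_le]
  rintro _ ⟨a, c, t, hac, rfl⟩
  obtain ⟨m, hm1, hm2, hm3, hm4⟩ := exists_oth hn a c
  have ham : Rt a m := ⟨hm1.symm, fun e => hm3 (by rw [e, Sum.swap_swap])⟩
  have hmc : Rt m c := ⟨hm2, hm4⟩
  have e := S.comm3 a m c ham hmc hac t 1
  rw [mul_one] at e
  rw [SetLike.mem_coe, ← e, commutator_def, ← commutatorElement_def]
  exact Subgroup.commutator_mem_commutator (Subgroup.mem_top _) (Subgroup.mem_top _)

/-- the Steinberg group is perfect (`n ≥ 3`). -/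
theorem stD_perfect (hn : 3 ≤ n) : commutator (StD n K) = ⊤ :=
  (stOD n K).perfect_of_gens hn (stOD_gens n K)

/-- the homomorphism from the Steinberg group to `Ω⁺_{2n}(K)`. -/
noncomputable def stToOmega (hn : 3 ≤ n) : StD n K →* ↥(Cfsg.Omega K (Cfsg.quadFormPlus n K)) :=
  stLift (odOmega hn K)

theorem stToOmega_x (hn : 3 ≤ n) {a b : Idx n} (h : Rt a b) (t : K) :
    stToOmega hn ((stOD n K).x a b t) = (odOmega hn K).x a b t := stLift_x _ h t

theorem stToOmega_surjective (hn : 3 ≤ n) : Function.Surjective (stToOmega (K := K) hn) := by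
  rw [← MonoidHom.range_eq_top, eq_top_iff, ← odOmega_closure (K := K) hn, Subgroup.closure_le]
  rintro _ ⟨a, b, t, h, rfl⟩
  exact ⟨(stOD n K).x a b t, stToOmega_x hn h t⟩

/-- the homomorphism from the Steinberg group to `GL`. -/
noncomputable def stToGL (n : ℕ) (K : Type*) [Field K] : StD n K →* Matrix.GeneralLinearGroup (Idx n) K :=
  stLift (odGL n K)

/-- the homomorphism from the Steinberg group to the matrices. -/
noncomputable def stToMat (n : ℕ) (K : Type*) [Field K] : StD n K →* Matrix (Idx n) (Idx n) K :=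
  (Units.coeHom (Matrix (Idx n) (Idx n) K)).comp (stToGL n K)

theorem stToMat_apply (g : StD n K) :
    stToMat n K g = ((stToGL n K g : Matrix.GeneralLinearGroup (Idx n) K) : Matrix (Idx n) (Idx n) K) := rfl

theorem stToMat_x {a b : Idx n} (h : Rt a b) (t : K) :
    stToMat n K ((stOD n K).x a b t) = oX a b t := by
  rw [stToMat_apply]
  unfold stToGL
  rw [stLift_x _ h, odGL_x h, oXG_coe h]

theorem stToOmega_GL (hn : 3 ≤ n) :
    (Cfsg.isometryGroup K (Cfsg.quadFormPlus n K)).subtype.comp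
      ((Cfsg.Omega K (Cfsg.quadFormPlus n K)).subtype.comp (stToOmega hn)) = stToGL n K := by
  apply stD_hom_ext
  intro a b h t
  apply Units.ext
  have e1 : (((Cfsg.isometryGroup K (Cfsg.quadFormPlus n K)).subtype.comp
      ((Cfsg.Omega K (Cfsg.quadFormPlus n K)).subtype.comp (stToOmega hn))) ((stOD n K).x a b t) :
        Matrix.GeneralLinearGroup (Idx n) K) =
      ((((stToOmega hn ((stOD n K).x a b t) : ↥(Cfsg.Omega K (Cfsg.quadFormPlus n K))) :
        ↥(Cfsg.isometryGroup K (Cfsg.quadFormPlus n K))) : Matrix.GeneralLinearGroup (Idx n) K)) := rfl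
  rw [e1, stToOmega_x hn h, odOmega_x_val hn K h]
  have e2 := stToMat_x (K := K) h t
  rw [stToMat_apply] at e2
  exact e2.symm

/-- the matrix of the image in `Ω⁺`. -/
theorem stToOmega_val (hn : 3 ≤ n) (c : StD n K) :
    ((((stToOmega hn c : ↥(Cfsg.Omega K (Cfsg.quadFormPlus n K))) :
      ↥(Cfsg.isometryGroup K (Cfsg.quadFormPlus n K))) :
        Matrix.GeneralLinearGroup (Idx n) K) : Matrix (Idx n) (Idx n) K) = stToMat n K c := by
  rw [stToMat_apply, ← stToOmega_GL hn]
  rfl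

theorem stToMat_eq_one_iff (hn : 3 ≤ n) (g : StD n K) : stToMat n K g = 1 ↔ stToOmega hn g = 1 := by
  rw [← stToOmega_val hn]
  constructor
  · intro h
    apply Subtype.ext
    apply Subtype.ext
    apply Units.ext
    exact h
  · intro h
    rw [h]
    rfl

/-- **the kernel of `St(D_n, K) → Ω⁺_{2n}(K)` is central and contained in `W̃`** (`n ≥ 3`). -/
theorem stD_ker_central (hn : 3 ≤ n) {c : StD n K} (hc : stToMat n K c = 1) :
    c ∈ (stOD n K).Wt ∧ ∀ g, g * c = c * g :=
  (stOD n K).ker_central_of (stToMat n K) (fun a b h t => stToMat_x h t) hn (stOD_gens n K)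
    (fun g => (stOD n K).bruhat hn (stOD_gens n K) g) hc

theorem stToOmega_ker_le_center (hn : 3 ≤ n) :
    (stToOmega (K := K) hn).ker ≤ Subgroup.center (StD n K) := by
  intro c hc
  rw [MonoidHom.mem_ker] at hc
  rw [Subgroup.mem_center_iff]
  exact (stD_ker_central hn ((stToMat_eq_one_iff hn c).mpr hc)).2

/-- the Steinberg group over a finite field is finite (`n ≥ 3`). -/
theorem stD_finite [Finite K] (hn : 3 ≤ n) : Finite (StD n K) := by
  haveI : Fintype K := Fintype.ofFinite K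
  have hfin : Finite ↥(Cfsg.Omega K (Cfsg.quadFormPlus n K)) := inferInstance
  exact finite_of_central_of_perfect (stToOmega hn) (stToOmega_ker_le_center hn) (stD_perfect hn)

/-- **a central extension of the Steinberg group in which the root elements lift to an `OD`-system
splits.** -/
theorem stD_split_of_lift {E : Type*} [Group E] (ψ : E →* StD n K) (SE : OD n K E)
    (hSE : ∀ a b, Rt a b → ∀ t, ψ (SE.x a b t) = (stOD n K).x a b t) :
    ∃ τ : StD n K →* E, ψ.comp τ = MonoidHom.id _ := by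
  refine ⟨stLift SE, ?_⟩
  apply stD_hom_ext
  intro a b h t
  rw [MonoidHom.comp_apply, stLift_x SE h, hSE a b h, MonoidHom.id_apply]

end Cfsg.Agent.CtRecD
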