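import Mathlib
import Cfsg.Agent.CtRecD.SchSt
import Cfsg.Agent.CtRecD.SchCext
import Cfsg.Agent.CtRecD.SchDefs
import Cfsg.Agent.Helper7.SlR

set_option autoImplicit false
set_option linter.unusedSectionVars false
set_option linter.unusedVariables false

/-!
# S2096 (Schur multiplier of `PΩ⁺_{2l}(q)`, `l ≥ 5` odd): the assembly (helper7)

`stD_split`: central extensions of the Steinberg group of type `D_n`, `n ≥ 5`, split.
`OD.map_w`, `OD.map_h`, `OD.map_zD`: homomorphisms of `OD`-systems.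
`schur_pomega_odd_of`: the Schur multiplier of `PΩ⁺_{2l}(q)` from the description of the kernel of
`St(D_l, F) → PΩ⁺_{2l}(F)`.
-/

namespace Cfsg.Agent.CtRecD

open Matrix

universe u

section general

variable {n : ℕ} {K : Type*} [Field K]

/-- **central extensions of the Steinberg group of type `D_n`, `n ≥ 5`, split.** -/
theorem stD_split (hn : 5 ≤ n) {E : Type*} [Group E] (ψ : E →* StD n K)
    (hs : Function.Surjective ψ) (hc : ψ.ker ≤ Subgroup.center E) :
    ∃ τ : StD n K →* E, ψ.comp τ = MonoidHom.id (StD n K) := by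
  obtain ⟨SE, h⟩ := exists_OD_lift hn (stOD n K) ⟨ψ, hs, hc, stD_perfect (by omega)⟩
  exact stD_split_of_lift ψ SE h

variable {Γ Γ' : Type*} [Group Γ] [Group Γ'] (S : OD n K Γ) (S' : OD n K Γ') (f : Γ →* Γ')

theorem OD.map_w (hf : ∀ a b, Rt a b → ∀ t : K, f (S.x a b t) = S'.x a b t) {k l : Idx n}
    (hkl : Rt k l) (u : K) : f (S.w k l u) = S'.w k l u := by
  unfold OD.w
  rw [map_mul, map_mul, hf k l hkl, hf l k hkl.symm]

theorem OD.map_h (hf : ∀ a b, Rt a b → ∀ t : K, f (S.x a b t) = S'.x a b t) {k l : Idx n}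
    (hkl : Rt k l) (u : K) : f (S.h k l u) = S'.h k l u := by
  unfold OD.h
  rw [map_mul, OD.map_w S S' f hf hkl, OD.map_w S S' f hf hkl]

theorem OD.map_zD (hf : ∀ a b, Rt a b → ∀ t : K, f (S.x a b t) = S'.x a b t) {p q : Fin n}
    (hpq : p ≠ q) : f (S.zD p q) = S'.zD p q := by
  have h1 : Rt (Sum.inl p : Idx n) (Sum.inl q) := by
    refine ⟨fun e => hpq (Sum.inl.inj e), fun e => ?_⟩
    simp at e
  have h2 : Rt (Sum.inl p : Idx n) (Sum.inr q) := by
    refine ⟨fun e => ?_, fun e => ?_⟩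
    · simp at e
    · rw [Sum.swap_inr] at e
      exact hpq (Sum.inl.inj e)
  unfold OD.zD
  rw [map_mul, OD.map_h S S' f hf h1, OD.map_h S S' f hf h2]

/-- in characteristic `2`, `zD = 1`. -/
theorem OD.zD_eq_one_of_two (h2 : (2 : K) = 0) {p q : Fin n} (hpq : p ≠ q) : S.zD p q = 1 := by
  have h1 : Rt (Sum.inl p : Idx n) (Sum.inl q) := by
    refine ⟨fun e => hpq (Sum.inl.inj e), fun e => ?_⟩
    simp at e
  have h2' : Rt (Sum.inl p : Idx n) (Sum.inr q) := by
    refine ⟨fun e => ?_, fun e => ?_⟩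
    · simp at e
    · rw [Sum.swap_inr] at e
      exact hpq (Sum.inl.inj e)
  have hneg : (-1 : K) = 1 := by linear_combination (-1 : K) * h2
  unfold OD.zD
  rw [hneg, S.h_one h1, S.h_one h2', mul_one]

end general

/-- a subgroup generated by an element of order `d` is `Z_d`. -/
theorem zmod_equiv_of_zpowers {Δ : Type*} [Group Δ] (H : Subgroup Δ) (g : Δ)
    (hH : H = Subgroup.zpowers g) (d : ℕ) (hd : orderOf g = d) :
    Nonempty (Multiplicative (ZMod d) ≃* H) := by
  subst hH
  have hcyc : IsCyclic ↥(Subgroup.zpowers g) := inferInstance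
  have e1 := zmodCyclicMulEquiv hcyc
  rw [Nat.card_zpowers, hd] at e1
  exact ⟨e1⟩

theorem gcd_four (m : ℕ) :
    Nat.gcd 4 m = if m % 4 = 0 then 4 else if m % 2 = 0 then 2 else 1 := by
  rw [Nat.gcd_rec]
  have h4 : m % 4 < 4 := Nat.mod_lt _ (by norm_num)
  have h2 : m % 2 = (m % 4) % 2 := by omega
  rw [h2]
  interval_cases (m % 4) <;> simp

theorem two_eq_zero_iff_card_even {F : Type*} [Field F] [Fintype F] :
    (2 : F) = 0 ↔ Fintype.card F % 2 = 0 := by
  rw [← FiniteField.even_card_iff_char_two]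
  constructor
  · intro h
    have hd : ringChar F ∣ 2 := ringChar.dvd (R := F) (x := 2) (by exact_mod_cast h)
    haveI : Fact (ringChar F).Prime := ⟨CharP.char_is_prime F (ringChar F)⟩
    exact (Nat.prime_dvd_prime_iff_eq (Fact.out) Nat.prime_two).mp hd
  · intro h
    have := ringChar.Nat.cast_ringChar (R := F)
    rw [h] at this
    exact_mod_cast this

/-- the order `gcd(4, q^l - 1)` of the multiplier, `l` odd. -/
theorem gcd_four_pow (q l : ℕ) (hq : 1 ≤ q) (hl : Odd l) :
    Nat.gcd 4 (q ^ l - 1) = if q % 2 = 0 then 1 else if q % 4 = 1 then 4 else 2 := by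
  obtain ⟨k, rfl⟩ := hl
  have hpos : 1 ≤ q ^ (2 * k + 1) := Nat.one_le_pow _ _ hq
  have hmod4 : q ^ (2 * k + 1) % 4 = (q % 4) ^ (2 * k + 1) % 4 := Nat.pow_mod _ _ _
  have hmod2 : q ^ (2 * k + 1) % 2 = (q % 2) ^ (2 * k + 1) % 2 := Nat.pow_mod _ _ _
  have h9 : ∀ k : ℕ, 9 ^ k % 4 = 1 := by
    intro k
    rw [Nat.pow_mod]
    norm_num
  rw [gcd_four]
  by_cases hq2 : q % 2 = 0
  · have h1 : q ^ (2 * k + 1) % 2 = 0 := by
      rw [hmod2, hq2, Nat.zero_pow (by omega)]
    rw [if_pos hq2, if_neg (by omega), if_neg (by omega)]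
  · rw [if_neg hq2]
    by_cases hq1 : q % 4 = 1
    · have h1 : q ^ (2 * k + 1) % 4 = 1 := by
        rw [hmod4, hq1, one_pow]; rfl
      rw [if_pos hq1, if_pos (by omega)]
    · have hq3 : q % 4 = 3 := by omega
      have h1 : q ^ (2 * k + 1) % 4 = 3 := by
        rw [hmod4, hq3, pow_succ, pow_mul]
        norm_num
        rw [Nat.mul_mod, h9 k]
      rw [if_neg hq1, if_neg (by omega), if_pos (by omega)]

/-- the kernel of `St(D_l, F) → PΩ⁺_{2l}(F)` is cyclic of order `gcd(4, q^l - 1)`, from its description by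
matrices. -/
theorem ker_equiv_of {F : Type*} [Field F] [Fintype F] {l : ℕ} (hodd : Odd l)
    {Δ : Type*} [Group Δ] (φ : Δ →* Matrix (Idx l) (Idx l) F) (H : Subgroup Δ) (z : Δ)
    (hker : ∀ c, c ∈ H ↔ φ c = 1 ∨ φ c = -1)
    (hz : φ z = 1)
    (hcases : ∀ c, φ c = 1 → c = 1 ∨ c = z)
    (hneg : ∀ c, φ c = -1 → (∃ ι : F, ι * ι = -1) ∧ c * c = z)
    (hex : ∀ ι : F, ι * ι = -1 → ∃ c, φ c = -1)
    (hzne : (2 : F) ≠ 0 → z ≠ 1) (hz2 : (2 : F) = 0 → z = 1) :
    Nonempty (Multiplicative (ZMod (Nat.gcd 4 (Fintype.card F ^ l - 1))) ≃* H) := by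
  have hq1 : 1 ≤ Fintype.card F := Fintype.card_pos
  rw [gcd_four_pow _ _ hq1 hodd]
  by_cases h2 : (2 : F) = 0
  · -- characteristic 2
    rw [if_pos (two_eq_zero_iff_card_even.mp h2)]
    have hneg1 : (-1 : Matrix (Idx l) (Idx l) F) = 1 := by
      have : (-1 : F) = 1 := by linear_combination (-1 : F) * h2
      ext i j
      by_cases hij : i = j
      · subst hij
        simp [this]
      · simp [hij]
    refine zmod_equiv_of_zpowers H 1 ?_ 1 orderOf_one
    rw [Subgroup.zpowers_one_eq_bot, eq_bot_iff]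
    intro c hc
    rw [hker, hneg1, or_self] at hc
    rw [Subgroup.mem_bot]
    rcases hcases c hc with h | h
    · exact h
    · rw [h, hz2 h2]
  · have hqodd : ¬ Fintype.card F % 2 = 0 := fun h => h2 (two_eq_zero_iff_card_even.mpr h)
    rw [if_neg hqodd]
    have hz1 := hzne h2
    have hzz : z * z = 1 := by
      have : φ (z * z) = 1 := by rw [map_mul, hz, one_mul]
      rcases hcases _ this with h | h
      · exact h
      · exfalso
        apply hz1
        have := congrArg (fun x => z⁻¹ * x) h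
        simpa using this
    have hzH : z ∈ H := (hker z).mpr (Or.inl hz)
    by_cases hq : Fintype.card F % 4 = 1
    · rw [if_pos hq]
      have hsq : IsSquare (-1 : F) := FiniteField.isSquare_neg_one_iff.mpr (by omega)
      obtain ⟨ι, hι⟩ := hsq
      obtain ⟨c₀, hc₀⟩ := hex ι hι.symm
      have hc₀2 : c₀ * c₀ = z := (hneg c₀ hc₀).2
      have hord : orderOf c₀ = 2 ^ (1 + 1) := by
        apply orderOf_eq_prime_pow
        · rw [pow_one, pow_two, hc₀2]
          exact hz1
        · have : c₀ ^ 2 ^ (1 + 1) = (c₀ * c₀) * (c₀ * c₀) := by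
            norm_num
            rw [show (4 : ℕ) = 2 + 2 from rfl, pow_add, pow_two]
          rw [this, hc₀2, hzz]
      refine zmod_equiv_of_zpowers H c₀ ?_ 4 hord
      have hc₀H : c₀ ∈ H := (hker c₀).mpr (Or.inr hc₀)
      apply le_antisymm
      · intro c hc
        rcases (hker c).mp hc with h | h
        · rcases hcases c h with h' | h'
          · rw [h']
            exact one_mem _
          · rw [h', ← hc₀2]
            exact mul_mem (Subgroup.mem_zpowers _) (Subgroup.mem_zpowers _)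
        · have h1 : φ (c * c₀) = 1 := by
            rw [map_mul, h, hc₀]
            simp
          rcases hcases _ h1 with h' | h'
          · have : c = c₀⁻¹ := eq_inv_of_mul_eq_one_left h'
            rw [this]
            exact inv_mem (Subgroup.mem_zpowers _)
          · rw [← hc₀2] at h'
            have : c = c₀ := mul_right_cancel h'
            rw [this]
            exact Subgroup.mem_zpowers _
      · rw [Subgroup.zpowers_le]
        exact hc₀H
    · rw [if_neg hq]
      have hq3 : Fintype.card F % 4 = 3 := by omega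
      have hnsq : ¬ IsSquare (-1 : F) := fun h => FiniteField.isSquare_neg_one_iff.mp h hq3
      have hord : orderOf z = 2 := orderOf_eq_prime (by rw [pow_two]; exact hzz) hz1
      refine zmod_equiv_of_zpowers H z ?_ 2 hord
      apply le_antisymm
      · intro c hc
        rcases (hker c).mp hc with h | h
        · rcases hcases c h with h' | h'
          · rw [h']
            exact one_mem _
          · rw [h']
            exact Subgroup.mem_zpowers _
        · exfalso
          obtain ⟨ι, hι⟩ := (hneg c h).1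
          exact hnsq ⟨ι, hι.symm⟩
      · rw [Subgroup.zpowers_le]
        exact hzH

/-- **the Schur multiplier of `PΩ⁺_{2l}(q)`, `l ≥ 5` odd**, from the description of the kernel of
`θ : St(D_l, F) → PΩ⁺_{2l}(F)` by matrices. -/
theorem schur_pomega_odd_of {F : Type u} [Field F] [Fintype F] {l : ℕ} (hl : 5 ≤ l) (hodd : Odd l)
    (θ : StD l F →* Cfsg.POmega F (Cfsg.quadFormPlus l F)) (hθs : Function.Surjective θ)
    (hθc : θ.ker ≤ Subgroup.center (StD l F)) (z : StD l F)
    (hker : ∀ c, c ∈ θ.ker ↔ stToMat l F c = 1 ∨ stToMat l F c = -1)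
    (hz : stToMat l F z = 1)
    (hcases : ∀ c, stToMat l F c = 1 → c = 1 ∨ c = z)
    (hneg : ∀ c, stToMat l F c = -1 → (∃ ι : F, ι * ι = -1) ∧ c * c = z)
    (hex : ∀ ι : F, ι * ι = -1 → ∃ c, stToMat l F c = -1)
    (hzne : (2 : F) ≠ 0 → z ≠ 1) (hz2 : (2 : F) = 0 → z = 1) :
    Cfsg.HasCyclicSchurMultiplier (Cfsg.POmega F (Cfsg.quadFormPlus l F))
      (Nat.gcd 4 (Fintype.card F ^ l - 1)) := by
  haveI : Finite (StD l F) := stD_finite (by omega)
  obtain ⟨e⟩ := ker_equiv_of hodd (stToMat l F) θ.ker z hker hz hcases hneg hex hzne hz2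
  refine Cfsg.Agent.Helper7.Sl.schur_of_universal_fin θ hθs hθc (stD_perfect (by omega)) ?_ e
  intro Γ _ _ σ hσs hσc
  refine Cfsg.Agent.Helper7.Sl.exists_lift_central σ hσs hσc θ ?_
  intro P ψ hψs hψc
  exact stD_split hl ψ hψs hψc

end Cfsg.Agent.CtRecD
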