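import Mathlib
import Cfsg.Agent.CtRecD.SchDefs

set_option autoImplicit false
set_option linter.unusedSectionVars false
set_option linter.unusedVariables false

/-!
# S2096, work package S5: the torus `H̃` of an `OD`-system with relation (C) (helper3)

`H̃` is parametrised by the basis `e_i - e_q` (`i ≠ q`), `e_p + e_q` of the coroot lattice of `D_n`
(`PhiB`); the matrix of a product is an explicit diagonal matrix (`phi_PhiB`), and the elements of `H̃`
with matrix `1` are `1` and `zD p q`; those with matrix `-1` (`n` odd) have square `zD p q` and exist iff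
`-1` is a square.  The `h`-calculus of work package S3 enters as hypotheses.
-/

namespace Cfsg.Agent.CtRecD

open Matrix

variable {n : ℕ} {K : Type*} [Field K] {Γ : Type*} [Group Γ] (S : OD n K Γ)

/-- the roots of a basis of the coroot lattice: `e_i - e_q` (`i ≠ q`), and `e_p + e_q` at the index `q`. -/
def bR (p q i : Fin n) : Idx n × Idx n :=
  if i = q then (Sum.inl p, Sum.inr q) else (Sum.inl i, Sum.inl q)

theorem bR_q (p q : Fin n) : bR p q q = (Sum.inl p, Sum.inr q) := by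
  unfold bR
  rw [if_pos rfl]

theorem bR_ne {p q i : Fin n} (h : i ≠ q) : bR p q i = (Sum.inl i, Sum.inl q) := by
  unfold bR
  rw [if_neg h]

theorem bR_rt {p q : Fin n} (hpq : p ≠ q) (i : Fin n) : Rt (bR p q i).1 (bR p q i).2 := by
  by_cases h : i = q
  · rw [h, bR_q]
    refine ⟨Sum.inl_ne_inr, ?_⟩
    rw [Sum.swap_inr]
    exact fun e => hpq (Sum.inl.inj e)
  · rw [bR_ne h]
    refine ⟨fun e => h (Sum.inl.inj e), ?_⟩
    rw [Sum.swap_inl]
    exact Sum.inl_ne_inr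

/-- a product of diagonal matrices. -/
theorem s5_noncommProd_diag {ι m : Type*} [Fintype m] [DecidableEq m] (s : Finset ι) (f : ι → m → K) :
    ∀ comm, s.noncommProd (fun i => Matrix.diagonal (f i)) comm = Matrix.diagonal (∏ i ∈ s, f i) := by
  classical
  refine Finset.induction_on s ?_ ?_
  · intro _
    rw [Finset.noncommProd_empty, Finset.prod_empty]
    exact Matrix.diagonal_one.symm
  · intro a s ha ih comm
    rw [Finset.noncommProd_insert_of_notMem _ _ _ _ ha, ih, Finset.prod_insert ha,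
      Matrix.diagonal_mul_diagonal]
    rfl

/-- the diagonal of the matrix of the element of `H̃` with the parameters `t`. -/
def dE (p q : Fin n) (t : Fin n → Kˣ) (j : Idx n) : K :=
  ∏ i, hD (bR p q i).1 (bR p q i).2 (t i : K) j

theorem s5_hD_swap {k l : Idx n} (hkl : Rt k l) (t : K) (i : Idx n) :
    hD k l t i.swap = (hD k l t i)⁻¹ := by
  obtain ⟨h1, h2⟩ := hkl
  have hk := ne_swap k
  have hl := ne_swap l
  have h3 : k.swap ≠ l := fun e => h2 (swap_eq_iff.mp e)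
  have h4 : k.swap ≠ l.swap := fun e => h1 (swap_inj.mp e)
  unfold hD
  by_cases e1 : i = k
  · rw [e1, if_neg hk.symm, if_neg h3, if_pos rfl, if_pos rfl]
  · by_cases e2 : i = l
    · rw [e2, if_neg (Ne.symm h2), if_neg hl.symm, if_neg (Ne.symm h4), if_neg (Ne.symm h1),
        if_pos rfl, if_pos rfl, inv_inv]
    · by_cases e3 : i = k.swap
      · rw [e3, Sum.swap_swap, if_neg hk.symm, if_neg h3, if_pos rfl, if_pos rfl, inv_inv]
      · by_cases e4 : i = l.swap
        · rw [e4, Sum.swap_swap, if_neg (Ne.symm h1), if_neg (Ne.symm h2), if_neg hl.symm,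
            if_neg (Ne.symm h4), if_pos rfl, if_pos rfl]
        · rw [if_neg e1, if_neg e2, if_neg e3, if_neg e4,
            if_neg (fun e => e3 (swap_eq_iff.mp e)), if_neg (fun e => e4 (swap_eq_iff.mp e)),
            if_neg (fun e => e1 (swap_inj.mp e)), if_neg (fun e => e2 (swap_inj.mp e)), inv_one]

theorem dE_swap {p q : Fin n} (hpq : p ≠ q) (t : Fin n → Kˣ) (j : Idx n) :
    dE p q t j.swap = (dE p q t j)⁻¹ := by
  unfold dE
  rw [← Finset.prod_inv_distrib]
  exact Finset.prod_congr rfl (fun i _ => s5_hD_swap (bR_rt hpq i) _ j)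

theorem dE_other {p q j : Fin n} (hjp : j ≠ p) (hjq : j ≠ q) (t : Fin n → Kˣ) :
    dE p q t (Sum.inl j) = (t j : K) := by
  unfold dE
  rw [Finset.prod_eq_single j]
  · rw [bR_ne hjq]
    unfold hD
    rw [if_pos rfl]
  · intro i _ hij
    have hji : j ≠ i := Ne.symm hij
    by_cases hi : i = q
    · rw [hi, bR_q]
      unfold hD
      simp [hjp, hjq]
    · rw [bR_ne hi]
      unfold hD
      simp [hji, hjq]
  · intro h
    exact absurd (Finset.mem_univ j) h

theorem dE_p {p q : Fin n} (hpq : p ≠ q) (t : Fin n → Kˣ) :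
    dE p q t (Sum.inl p) = (t p : K) * (t q : K) := by
  unfold dE
  rw [Finset.prod_eq_mul p q hpq]
  · rw [bR_ne hpq, bR_q]
    unfold hD
    rw [if_pos rfl, if_pos rfl]
  · intro i _ hi
    have hpi : p ≠ i := Ne.symm hi.1
    rw [bR_ne hi.2]
    unfold hD
    simp [hpi, hpq]
  · intro h
    exact absurd (Finset.mem_univ p) h
  · intro h
    exact absurd (Finset.mem_univ q) h

theorem dE_q {p q : Fin n} (hpq : p ≠ q) (t : Fin n → Kˣ) :
    dE p q t (Sum.inl q) = (t q : K) * ∏ i ∈ Finset.univ.erase q, (t i : K)⁻¹ := by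
  unfold dE
  rw [← Finset.mul_prod_erase Finset.univ _ (Finset.mem_univ q)]
  congr 1
  · rw [bR_q]
    unfold hD
    simp [Ne.symm hpq]
  · refine Finset.prod_congr rfl (fun i hi => ?_)
    have hiq : i ≠ q := Finset.ne_of_mem_erase hi
    rw [bR_ne hiq]
    unfold hD
    simp [Ne.symm hiq]

namespace OD

section relC

variable (hC : ∀ k l : Idx n, Rt k l → ∀ t u : K, t ≠ 0 → u ≠ 0 →
    S.h k l t * S.h k l u = S.h k l (t * u))
  (hcomm : ∀ a b k l : Idx n, Rt a b → Rt k l → ∀ t u : K, t ≠ 0 → u ≠ 0 →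
    S.h a b t * S.h k l u = S.h k l u * S.h a b t)

/-- `t ↦ h_kl(t)` as a homomorphism. -/
def hU {k l : Idx n} (hkl : Rt k l) : Kˣ →* Γ where
  toFun t := S.h k l (t : K)
  map_one' := by rw [Units.val_one]; exact S.h_one hkl
  map_mul' t u := by rw [Units.val_mul]; exact (hC k l hkl _ _ t.ne_zero u.ne_zero).symm

theorem hU_apply {k l : Idx n} (hkl : Rt k l) (t : Kˣ) : S.hU hC hkl t = S.h k l (t : K) := rfl

include hcomm in
theorem hU_pairwise {p q : Fin n} (hpq : p ≠ q) :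
    Pairwise fun i j : Fin n => ∀ x y : Kˣ,
      Commute (S.hU hC (bR_rt hpq i) x) (S.hU hC (bR_rt hpq j) y) := by
  intro i j hij x y
  exact hcomm _ _ _ _ (bR_rt hpq i) (bR_rt hpq j) _ _ x.ne_zero y.ne_zero

/-- the parametrisation of `H̃` by `(Kˣ)^n`. -/
def PhiB {p q : Fin n} (hpq : p ≠ q) : (Fin n → Kˣ) →* Γ :=
  MonoidHom.noncommPiCoprod (fun i => S.hU hC (bR_rt hpq i)) (S.hU_pairwise hC hcomm hpq)

theorem PhiB_single {p q : Fin n} (hpq : p ≠ q) (i : Fin n) (t : Kˣ) :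
    S.PhiB hC hcomm hpq (Pi.mulSingle i t) = S.h (bR p q i).1 (bR p q i).2 (t : K) := by
  unfold PhiB
  rw [MonoidHom.noncommPiCoprod_mulSingle, hU_apply]

theorem PhiB_single_q {p q : Fin n} (hpq : p ≠ q) (t : Kˣ) :
    S.PhiB hC hcomm hpq (Pi.mulSingle q t) = S.h (Sum.inl p) (Sum.inr q) (t : K) := by
  rw [PhiB_single, bR_q]

theorem PhiB_single_ne {p q i : Fin n} (hpq : p ≠ q) (hi : i ≠ q) (t : Kˣ) :
    S.PhiB hC hcomm hpq (Pi.mulSingle i t) = S.h (Sum.inl i) (Sum.inl q) (t : K) := by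
  rw [PhiB_single, bR_ne hi]

theorem PhiB_mem_Ht {p q : Fin n} (hpq : p ≠ q) (t : Fin n → Kˣ) : S.PhiB hC hcomm hpq t ∈ S.Ht := by
  have h1 : (S.PhiB hC hcomm hpq).range ≤ S.Ht := by
    unfold PhiB
    rw [MonoidHom.noncommPiCoprod_range]
    refine iSup_le ?_
    rintro i _ ⟨y, rfl⟩
    rw [hU_apply]
    exact S.h_mem_Ht (bR_rt hpq i) y.ne_zero
  exact h1 ⟨t, rfl⟩


section gen

variable (hswap : ∀ k l : Idx n, Rt k l → ∀ t : K, t ≠ 0 → S.h l k t = (S.h k l t)⁻¹)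
  (hbar : ∀ k l : Idx n, Rt k l → ∀ t : K, t ≠ 0 → S.h l.swap k.swap t = S.h k l t)
  (hsplit : ∀ k ν l : Idx n, Rt k ν → Rt ν l → Rt k l → ∀ t : K, t ≠ 0 →
    S.h k l t = S.h k ν t * S.h ν l t)

theorem s5_rt_ll {i j : Fin n} (h : i ≠ j) : Rt (Sum.inl i : Idx n) (Sum.inl j) :=
  ⟨fun e => h (Sum.inl.inj e), by rw [Sum.swap_inl]; exact Sum.inl_ne_inr⟩

theorem s5_rt_lr {i j : Fin n} (h : i ≠ j) : Rt (Sum.inl i : Idx n) (Sum.inr j) :=
  ⟨Sum.inl_ne_inr, by rw [Sum.swap_inr]; exact fun e => h (Sum.inl.inj e)⟩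

theorem s5_rt_rl {i j : Fin n} (h : i ≠ j) : Rt (Sum.inr i : Idx n) (Sum.inl j) :=
  ⟨Sum.inr_ne_inl, by rw [Sum.swap_inl]; exact fun e => h (Sum.inr.inj e)⟩

theorem s5_rt_rr {i j : Fin n} (h : i ≠ j) : Rt (Sum.inr i : Idx n) (Sum.inr j) :=
  ⟨fun e => h (Sum.inr.inj e), by rw [Sum.swap_inr]; exact Sum.inr_ne_inl⟩

/-- `e_i - e_q` -/
theorem mem_rg_iq {p q i : Fin n} (hpq : p ≠ q) (hi : i ≠ q) {t : K} (ht : t ≠ 0) :
    S.h (Sum.inl i) (Sum.inl q) t ∈ (S.PhiB hC hcomm hpq).range :=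
  ⟨Pi.mulSingle i (Units.mk0 t ht), by rw [PhiB_single_ne S hC hcomm hpq hi, Units.val_mk0]⟩

/-- `e_p + e_q` -/
theorem mem_rg_pq {p q : Fin n} (hpq : p ≠ q) {t : K} (ht : t ≠ 0) :
    S.h (Sum.inl p) (Sum.inr q) t ∈ (S.PhiB hC hcomm hpq).range :=
  ⟨Pi.mulSingle q (Units.mk0 t ht), by rw [PhiB_single_q S hC hcomm hpq, Units.val_mk0]⟩

include hswap hsplit in
/-- `e_i - e_j` -/
theorem mem_rg_ll {p q i j : Fin n} (hpq : p ≠ q) (hij : i ≠ j) {t : K} (ht : t ≠ 0) :
    S.h (Sum.inl i) (Sum.inl j) t ∈ (S.PhiB hC hcomm hpq).range := by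
  by_cases hj : j = q
  · rw [hj] at hij ⊢
    exact S.mem_rg_iq hC hcomm hpq hij ht
  · by_cases hi : i = q
    · rw [hi, hswap _ _ (s5_rt_ll hj) t ht]
      exact inv_mem (S.mem_rg_iq hC hcomm hpq hj ht)
    · rw [hsplit _ (Sum.inl q) _ (s5_rt_ll hi) (s5_rt_ll (Ne.symm hj)) (s5_rt_ll hij) t ht,
        hswap _ _ (s5_rt_ll hj) t ht]
      exact mul_mem (S.mem_rg_iq hC hcomm hpq hi ht) (inv_mem (S.mem_rg_iq hC hcomm hpq hj ht))

include hswap hbar hsplit in
/-- `e_j - e_i`, in the other name -/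
theorem mem_rg_rr {p q i j : Fin n} (hpq : p ≠ q) (hij : i ≠ j) {t : K} (ht : t ≠ 0) :
    S.h (Sum.inr i) (Sum.inr j) t ∈ (S.PhiB hC hcomm hpq).range := by
  have e := hbar _ _ (s5_rt_ll (Ne.symm hij)) t ht
  rw [Sum.swap_inl, Sum.swap_inl] at e
  rw [e]
  exact S.mem_rg_ll hC hcomm hswap hsplit hpq (Ne.symm hij) ht

include hswap hbar hsplit in
/-- `e_p + e_j` -/
theorem mem_rg_pj {p q j : Fin n} (hpq : p ≠ q) (hj : j ≠ p) {t : K} (ht : t ≠ 0) :
    S.h (Sum.inl p) (Sum.inr j) t ∈ (S.PhiB hC hcomm hpq).range := by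
  by_cases hjq : j = q
  · rw [hjq]
    exact S.mem_rg_pq hC hcomm hpq ht
  · rw [hsplit _ (Sum.inr q) _ (s5_rt_lr hpq) (s5_rt_rr (Ne.symm hjq)) (s5_rt_lr (Ne.symm hj)) t ht]
    exact mul_mem (S.mem_rg_pq hC hcomm hpq ht)
      (S.mem_rg_rr hC hcomm hswap hbar hsplit hpq (Ne.symm hjq) ht)

include hswap hbar hsplit in
/-- `e_i + e_j` -/
theorem mem_rg_lr {p q i j : Fin n} (hpq : p ≠ q) (hij : i ≠ j) {t : K} (ht : t ≠ 0) :
    S.h (Sum.inl i) (Sum.inr j) t ∈ (S.PhiB hC hcomm hpq).range := by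
  by_cases hi : i = p
  · rw [hi] at hij ⊢
    exact S.mem_rg_pj hC hcomm hswap hbar hsplit hpq (Ne.symm hij) ht
  · by_cases hj : j = p
    · have e := hbar _ _ (s5_rt_lr (Ne.symm hi)) t ht
      rw [Sum.swap_inl, Sum.swap_inr] at e
      rw [hj, e]
      exact S.mem_rg_pj hC hcomm hswap hbar hsplit hpq hi ht
    · rw [hsplit _ (Sum.inl p) _ (s5_rt_ll hi) (s5_rt_lr (Ne.symm hj)) (s5_rt_lr hij) t ht]
      exact mul_mem (S.mem_rg_ll hC hcomm hswap hsplit hpq hi ht)
        (S.mem_rg_pj hC hcomm hswap hbar hsplit hpq hj ht)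

include hswap hbar hsplit in
/-- **`H̃` is the image of the parametrisation.** -/
theorem Ht_le_range {p q : Fin n} (hpq : p ≠ q) : S.Ht ≤ (S.PhiB hC hcomm hpq).range := by
  unfold Ht
  rw [Subgroup.closure_le]
  rintro _ ⟨k, l, u, hkl, hu, rfl⟩
  rw [SetLike.mem_coe]
  rcases k with i | i <;> rcases l with j | j
  · exact S.mem_rg_ll hC hcomm hswap hsplit hpq (fun e => hkl.1 (by rw [e])) hu
  · exact S.mem_rg_lr hC hcomm hswap hbar hsplit hpq
      (fun e => hkl.2 (by rw [e, Sum.swap_inr])) hu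
  · have hij : j ≠ i := fun e => hkl.2 (by rw [e, Sum.swap_inl])
    rw [hswap _ _ (s5_rt_lr hij) u hu]
    exact inv_mem (S.mem_rg_lr hC hcomm hswap hbar hsplit hpq hij hu)
  · exact S.mem_rg_rr hC hcomm hswap hbar hsplit hpq (fun e => hkl.1 (by rw [e])) hu

include hswap hbar hsplit in
theorem Ht_param {p q : Fin n} (hpq : p ≠ q) {g : Γ} (hg : g ∈ S.Ht) :
    ∃ t : Fin n → Kˣ, g = S.PhiB hC hcomm hpq t := by
  obtain ⟨t, ht⟩ := S.Ht_le_range hC hcomm hswap hbar hsplit hpq hg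
  exact ⟨t, ht.symm⟩

end gen


section phi

variable (φ : Γ →* Matrix (Idx n) (Idx n) K)
  (hphi : ∀ k l : Idx n, Rt k l → ∀ t : K, t ≠ 0 → φ (S.h k l t) = Matrix.diagonal (hD k l t))

include hphi in
set_option backward.isDefEq.respectTransparency false in
/-- the matrix of an element of `H̃`. -/
theorem phi_PhiB {p q : Fin n} (hpq : p ≠ q) (t : Fin n → Kˣ) :
    φ (S.PhiB hC hcomm hpq t) = Matrix.diagonal (dE p q t) := by
  have e1 : S.PhiB hC hcomm hpq t =
      Finset.univ.noncommProd (fun i => S.hU hC (bR_rt hpq i) (t i))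
        (fun i _ j _ h => S.hU_pairwise hC hcomm hpq h _ _) := rfl
  rw [e1, Finset.map_noncommProd]
  rw [Finset.noncommProd_congr rfl
    (g := fun i => Matrix.diagonal (hD (bR p q i).1 (bR p q i).2 (t i : K)))
    (fun i _ => by rw [hU_apply]; exact hphi _ _ (bR_rt hpq i) _ (t i).ne_zero)]
  rw [s5_noncommProd_diag]
  congr 1
  funext j
  unfold dE
  rw [Finset.prod_apply]

end phi


section cases

theorem PhiB_two {p q : Fin n} (hpq : p ≠ q) (s : Kˣ) :
    S.PhiB hC hcomm hpq (Pi.mulSingle p s * Pi.mulSingle q s) =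
      S.h (Sum.inl p) (Sum.inl q) (s : K) * S.h (Sum.inl p) (Sum.inr q) (s : K) := by
  rw [map_mul, PhiB_single_ne S hC hcomm hpq hpq, PhiB_single_q]

theorem s5_eq_two_single {p q : Fin n} (hpq : p ≠ q) (t : Fin n → Kˣ) (s : Kˣ)
    (ho : ∀ j, j ≠ p → j ≠ q → t j = 1) (hp : t p = s) (hq : t q = s) :
    t = Pi.mulSingle p s * Pi.mulSingle q s := by
  funext j
  rw [Pi.mul_apply]
  by_cases hjp : j = p
  · rw [hjp, Pi.mulSingle_eq_same, Pi.mulSingle_eq_of_ne hpq, mul_one, hp]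
  · by_cases hjq : j = q
    · rw [hjq, Pi.mulSingle_eq_of_ne (Ne.symm hpq), Pi.mulSingle_eq_same, one_mul, hq]
    · rw [Pi.mulSingle_eq_of_ne hjp, Pi.mulSingle_eq_of_ne hjq, mul_one]
      exact ho j hjp hjq

theorem PhiB_sq_of {p q : Fin n} (hpq : p ≠ q) (t : Fin n → Kˣ)
    (ho : ∀ j, j ≠ p → j ≠ q → t j = -1) (hp : (t p : K) * (t p : K) = -1)
    (hq : (t q : K) = (t p : K)) :
    S.PhiB hC hcomm hpq t * S.PhiB hC hcomm hpq t = S.zD p q := by
  have e : t * t = Pi.mulSingle p (-1 : Kˣ) * Pi.mulSingle q (-1 : Kˣ) := by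
    refine s5_eq_two_single hpq (t * t) (-1) ?_ ?_ ?_
    · intro j hjp hjq
      rw [Pi.mul_apply, ho j hjp hjq, neg_mul_neg, one_mul]
    · apply Units.ext
      rw [Pi.mul_apply, Units.val_mul, hp, Units.val_neg, Units.val_one]
    · apply Units.ext
      rw [Pi.mul_apply, Units.val_mul, hq, hp, Units.val_neg, Units.val_one]
  rw [← map_mul, e, PhiB_two, Units.val_neg, Units.val_one]
  rfl

theorem s5_prod_erase_neg {p q : Fin n} (hpq : p ≠ q) (hodd : Odd n) (t : Fin n → Kˣ)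
    (ho : ∀ j, j ≠ p → j ≠ q → t j = -1) :
    ∏ i ∈ Finset.univ.erase q, (t i : K)⁻¹ = (t p : K)⁻¹ * (-1) := by
  have hpm : p ∈ Finset.univ.erase q := Finset.mem_erase.mpr ⟨hpq, Finset.mem_univ p⟩
  rw [← Finset.mul_prod_erase _ _ hpm]
  congr 1
  have e : ∀ i ∈ (Finset.univ.erase q).erase p, (t i : K)⁻¹ = -1 := by
    intro i hi
    have h1 : i ≠ p := Finset.ne_of_mem_erase hi
    have h2 : i ≠ q := Finset.ne_of_mem_erase (Finset.mem_of_mem_erase hi)
    rw [ho i h1 h2, Units.val_neg, Units.val_one, inv_neg, inv_one]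
  rw [Finset.prod_congr rfl e, Finset.prod_const, Finset.card_erase_of_mem hpm,
    Finset.card_erase_of_mem (Finset.mem_univ q), Finset.card_univ, Fintype.card_fin]
  have hp := p.isLt
  have hq := q.isLt
  have hne := Fin.val_ne_of_ne hpq
  obtain ⟨k, hk⟩ := hodd
  have hodd' : Odd (n - 1 - 1) := ⟨k - 1, by omega⟩
  exact hodd'.neg_one_pow

variable (hswap : ∀ k l : Idx n, Rt k l → ∀ t : K, t ≠ 0 → S.h l k t = (S.h k l t)⁻¹)
  (hbar : ∀ k l : Idx n, Rt k l → ∀ t : K, t ≠ 0 → S.h l.swap k.swap t = S.h k l t)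
  (hsplit : ∀ k ν l : Idx n, Rt k ν → Rt ν l → Rt k l → ∀ t : K, t ≠ 0 →
    S.h k l t = S.h k ν t * S.h ν l t)
  (φ : Γ →* Matrix (Idx n) (Idx n) K)
  (hphi : ∀ k l : Idx n, Rt k l → ∀ t : K, t ≠ 0 → φ (S.h k l t) = Matrix.diagonal (hD k l t))

include hC hcomm hswap hbar hsplit hphi in
/-- **the elements of `H̃` with matrix `1` are `1` and `zD p q`.** -/
theorem Ht_ker_cases {p q : Fin n} (hpq : p ≠ q) {g : Γ} (hg : g ∈ S.Ht) (h1 : φ g = 1) :
    g = 1 ∨ g = S.zD p q := by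
  obtain ⟨t, rfl⟩ := S.Ht_param hC hcomm hswap hbar hsplit hpq hg
  rw [S.phi_PhiB hC hcomm φ hphi hpq] at h1
  have hd : ∀ j, dE p q t j = 1 := by
    intro j
    have := congrFun (congrFun h1 j) j
    rwa [Matrix.diagonal_apply_eq, Matrix.one_apply_eq] at this
  have ho : ∀ j, j ≠ p → j ≠ q → t j = 1 := by
    intro j hjp hjq
    have := hd (Sum.inl j)
    rw [dE_other hjp hjq] at this
    exact Units.ext (by rw [this, Units.val_one])
  have hp := hd (Sum.inl p)
  rw [dE_p hpq] at hp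
  have hq := hd (Sum.inl q)
  rw [dE_q hpq] at hq
  have hprod : ∏ i ∈ Finset.univ.erase q, (t i : K)⁻¹ = (t p : K)⁻¹ := by
    rw [Finset.prod_eq_single p]
    · intro i hi hip
      rw [ho i hip (Finset.ne_of_mem_erase hi), Units.val_one, inv_one]
    · intro h
      exact absurd (Finset.mem_erase.mpr ⟨hpq, Finset.mem_univ p⟩) h
  rw [hprod] at hq
  have hqp : (t q : K) = (t p : K) := (mul_inv_eq_one₀ (t p).ne_zero).mp hq
  rw [hqp] at hp
  have ht := s5_eq_two_single hpq t (t p) ho rfl (Units.ext hqp)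
  rw [ht, PhiB_two]
  rcases mul_self_eq_one_iff.mp hp with h | h
  · left
    rw [h, S.h_one (s5_rt_ll hpq), S.h_one (s5_rt_lr hpq), one_mul]
  · right
    rw [h]
    rfl

include hC hcomm hswap hbar hsplit hphi in
/-- **the elements of `H̃` with matrix `-1`, `n` odd: `-1` is a square and their square is `zD p q`.** -/
theorem Ht_neg_cases {p q : Fin n} (hpq : p ≠ q) (hodd : Odd n) {g : Γ} (hg : g ∈ S.Ht)
    (h1 : φ g = -1) : (∃ ι : K, ι * ι = -1) ∧ g * g = S.zD p q := by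
  obtain ⟨t, rfl⟩ := S.Ht_param hC hcomm hswap hbar hsplit hpq hg
  rw [S.phi_PhiB hC hcomm φ hphi hpq] at h1
  have hd : ∀ j, dE p q t j = -1 := by
    intro j
    have := congrFun (congrFun h1 j) j
    rwa [Matrix.diagonal_apply_eq, Matrix.neg_apply, Matrix.one_apply_eq] at this
  have ho : ∀ j, j ≠ p → j ≠ q → t j = -1 := by
    intro j hjp hjq
    have := hd (Sum.inl j)
    rw [dE_other hjp hjq] at this
    exact Units.ext (by rw [this, Units.val_neg, Units.val_one])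
  have hp := hd (Sum.inl p)
  rw [dE_p hpq] at hp
  have hq := hd (Sum.inl q)
  rw [dE_q hpq, s5_prod_erase_neg hpq hodd t ho] at hq
  have hq' : (t q : K) * (t p : K)⁻¹ = 1 := by linear_combination (-1 : K) * hq
  have hqp : (t q : K) = (t p : K) := (mul_inv_eq_one₀ (t p).ne_zero).mp hq'
  rw [hqp] at hp
  exact ⟨⟨(t p : K), hp⟩, S.PhiB_sq_of hC hcomm hpq t ho hp hqp⟩

include hC hcomm hphi in
/-- **if `-1` is a square and `n` is odd, `H̃` has an element with matrix `-1`** (and square `zD p q`). -/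
theorem Ht_exists_neg {p q : Fin n} (hpq : p ≠ q) (hodd : Odd n) (ι : K) (hι : ι * ι = -1) :
    ∃ c ∈ S.Ht, φ c = -1 ∧ c * c = S.zD p q := by
  have hι0 : ι ≠ 0 := by
    intro e
    rw [e, mul_zero] at hι
    exact neg_ne_zero.mpr one_ne_zero hι.symm
  set u : Kˣ := Units.mk0 ι hι0 with hu
  set t : Fin n → Kˣ := fun j => if j = p ∨ j = q then u else -1 with ht
  have htp : t p = u := by rw [ht]; exact if_pos (Or.inl rfl)
  have htq : t q = u := by rw [ht]; exact if_pos (Or.inr rfl)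
  have ho : ∀ j, j ≠ p → j ≠ q → t j = -1 := by
    intro j hjp hjq
    rw [ht]
    exact if_neg (fun h => h.elim hjp hjq)
  have huv : (u : K) = ι := rfl
  have hl : ∀ j : Fin n, dE p q t (Sum.inl j) = -1 := by
    intro j
    by_cases hjp : j = p
    · rw [hjp, dE_p hpq, htp, htq, huv, hι]
    · by_cases hjq : j = q
      · rw [hjq, dE_q hpq, s5_prod_erase_neg hpq hodd t ho, htp, htq, huv]
        field_simp
      · rw [dE_other hjp hjq, ho j hjp hjq, Units.val_neg, Units.val_one]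
  have hd : ∀ j : Idx n, dE p q t j = -1 := by
    intro j
    rcases j with j | j
    · exact hl j
    · have e := dE_swap hpq t (Sum.inl j)
      rw [Sum.swap_inl, hl j, inv_neg, inv_one] at e
      exact e
  refine ⟨S.PhiB hC hcomm hpq t, S.PhiB_mem_Ht hC hcomm hpq t, ?_, ?_⟩
  · rw [S.phi_PhiB hC hcomm φ hphi hpq]
    ext i j
    by_cases hij : i = j
    · rw [hij, Matrix.diagonal_apply_eq, Matrix.neg_apply, Matrix.one_apply_eq, hd j]
    · rw [Matrix.diagonal_apply_ne _ hij, Matrix.neg_apply, Matrix.one_apply_ne hij, neg_zero]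
  · refine S.PhiB_sq_of hC hcomm hpq t ho ?_ ?_
    · rw [htp, huv, hι]
    · rw [htp, htq]

end cases

end relC

end OD

end Cfsg.Agent.CtRecD
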