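import Mathlib
import Cfsg.Agent.CtRecD.Defs
import Cfsg.Agent.CtRecA.LinA
import Cfsg.Agent.Helper7.SlR
import Cfsg.Agent.Helper7.ScA

set_option autoImplicit false
set_option linter.unusedSectionVars false
set_option linter.unusedVariables false

/-!
# S2097, piece S8a: the two type-`A_3` subsystems of an `OD 4`-system lift to a central extension (helper5)
-/

namespace Cfsg.Agent.CtRecD

open Matrix

variable {n : ℕ} {K : Type*} [Field K] {Γ : Type*} [Group Γ]

/-- a sub-root-system of type `A_{m-1}` of an `OD`-system: `x i j t := S.x (ι i) (ι j) t`. -/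
def OD.sdOf (S : OD n K Γ) {m : ℕ} (ι : Fin m → Idx n) (hι : ∀ i j, i ≠ j → Rt (ι i) (ι j)) :
    Cfsg.Agent.Helper7.Sl.SD m K Γ where
  x i j t := S.x (ι i) (ι j) t
  add i j hij t u := S.add _ _ (hι i j hij) t u
  comm i j k l hij hkl hil hjk t u := by
    have h1 : ι k ≠ (ι i).swap := by
      by_cases hki : k = i
      · rw [hki]; exact ne_swap _
      · exact (hι k i hki).2
    have h2 : ι l ≠ (ι j).swap := by
      by_cases hlj : l = j
      · rw [hlj]; exact ne_swap _
      · exact (hι l j hlj).2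
    exact S.comm _ _ _ _ (hι i j hij) (hι k l hkl) (hι j k hjk).1 (hι i l hil).1 h1 h2 t u
  comm3 i j l hij hjl hil t u := S.comm3 _ _ _ (hι i j hij) (hι j l hjl) (hι i l hil) t u

theorem OD.sdOf_x (S : OD n K Γ) {m : ℕ} (ι : Fin m → Idx n) (hι : ∀ i j, i ≠ j → Rt (ι i) (ι j))
    (i j : Fin m) (t : K) : (S.sdOf ι hι).x i j t = S.x (ι i) (ι j) t := rfl

/-- the indices of the `A_{n-1}` on the nodes `0, …, n-2`. -/
def idxA (n : ℕ) : Fin n → Idx n := fun i => Sum.inl i

/-- the indices of the `A_{n-1}` on the nodes `0, …, n-3, n-1`: the last index is barred. -/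
def idxA' (n : ℕ) : Fin n → Idx n := fun i => if i.val + 1 = n then Sum.inr i else Sum.inl i

theorem idxA_rt (n : ℕ) (i j : Fin n) (hij : i ≠ j) : Rt (idxA n i) (idxA n j) := by
  unfold idxA
  exact ⟨fun e => hij (Sum.inl.inj e), fun e => by simp at e⟩

theorem idxA'_rt (n : ℕ) (i j : Fin n) (hij : i ≠ j) : Rt (idxA' n i) (idxA' n j) := by
  unfold idxA'
  have hv : i.val ≠ j.val := fun e => hij (Fin.ext e)
  by_cases hi : i.val + 1 = n <;> by_cases hj : j.val + 1 = n
  · omega
  · rw [if_pos hi, if_neg hj]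
    exact ⟨fun e => by simp at e, fun e => by
      simp only [Sum.swap_inl, Sum.inr.injEq] at e
      exact hij e⟩
  · rw [if_neg hi, if_pos hj]
    exact ⟨fun e => by simp at e, fun e => by
      simp only [Sum.swap_inr, Sum.inl.injEq] at e
      exact hij e⟩
  · rw [if_neg hi, if_neg hj]
    exact ⟨fun e => hij (Sum.inl.inj e), fun e => by simp at e⟩

/-- **a homomorphism from `SL_4(K)` (`|K| ≥ 3`) to `G` lifts to every central extension of `G`.** -/
theorem exists_sl4_lift [Fintype K] (hK : 3 ≤ Fintype.card K) {G E : Type*} [Group G] [Group E]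
    (C : Cfsg.Agent.Helper7.Sc.CExt E G) (f : SpecialLinearGroup (Fin 4) K →* G) :
    ∃ τ : SpecialLinearGroup (Fin 4) K →* E, C.ψ.comp τ = f := by
  refine Cfsg.Agent.Helper7.Sl.exists_lift_central C.ψ C.surj C.central f ?_
  intro P ψ hs hc
  exact Cfsg.Agent.Helper7.Sl.sl_split (n := 4) (by norm_num) (fun h => by omega) (fun h => by omega)
    (fun h => by omega) ψ hs hc

/-- **the two type-`A_3` subsystems of an `OD 4`-system lift to homomorphisms `SL_4(K) → E`.** -/
theorem exists_two_lifts [Fintype K] (hK : 3 ≤ Fintype.card K) {G E : Type*} [Group G] [Group E]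
    (Sg : OD 4 K G) (C : Cfsg.Agent.Helper7.Sc.CExt E G) :
    ∃ Φ Φ' : SpecialLinearGroup (Fin 4) K →* E,
      (∀ (i j : Fin 4) (hij : i ≠ j) (t : K),
        C.ψ (Φ (SpecialLinearGroup.transvection hij t)) = Sg.x (idxA 4 i) (idxA 4 j) t) ∧
      (∀ (i j : Fin 4) (hij : i ≠ j) (t : K),
        C.ψ (Φ' (SpecialLinearGroup.transvection hij t)) = Sg.x (idxA' 4 i) (idxA' 4 j) t) := by
  obtain ⟨f, hf⟩ := Cfsg.Agent.CtRecA.sd_lift (F := K) 4 (by norm_num) (Sg.sdOf (idxA 4) (idxA_rt 4))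
  obtain ⟨f', hf'⟩ := Cfsg.Agent.CtRecA.sd_lift (F := K) 4 (by norm_num) (Sg.sdOf (idxA' 4) (idxA'_rt 4))
  obtain ⟨Φ, hΦ⟩ := exists_sl4_lift hK C f
  obtain ⟨Φ', hΦ'⟩ := exists_sl4_lift hK C f'
  refine ⟨Φ, Φ', fun i j hij t => ?_, fun i j hij t => ?_⟩
  · have e := DFunLike.congr_fun hΦ (SpecialLinearGroup.transvection hij t)
    rw [MonoidHom.comp_apply] at e
    rw [e, hf i j hij t]
    rfl
  · have e := DFunLike.congr_fun hΦ' (SpecialLinearGroup.transvection hij t)
    rw [MonoidHom.comp_apply] at e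
    rw [e, hf' i j hij t]
    rfl

end Cfsg.Agent.CtRecD
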