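import Mathlib
import Cfsg.Agent.CtRecD.OdA

set_option autoImplicit false
set_option linter.unusedSectionVars false
set_option linter.unusedVariables false

/-!
# S2097, work package S8b, step (5): homomorphisms of `OD`-systems are determined on a `DPair` (helper7)

If a homomorphism `ψ : E → G` maps `SE.x a b t` to `Sg.x a b t` for the roots `e_i - e_j` and `±(e_i + e_d)`
(one fixed index `d`), then for all roots.
-/

namespace Cfsg.Agent.CtRecD

variable {n : ℕ} {K : Type*} [Field K] {E G : Type*} [Group E] [Group G]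

theorem OD.map_x_of_dpair (d : Fin n) (SE : OD n K E) (Sg : OD n K G) (ψ : E →* G)
    (h1 : ∀ i j : Fin n, i ≠ j → ∀ t : K,
      ψ (SE.x (Sum.inl i) (Sum.inl j) t) = Sg.x (Sum.inl i) (Sum.inl j) t)
    (h2 : ∀ i : Fin n, i ≠ d → ∀ t : K,
      ψ (SE.x (Sum.inl i) (Sum.inr d) t) = Sg.x (Sum.inl i) (Sum.inr d) t)
    (h3 : ∀ i : Fin n, i ≠ d → ∀ t : K,
      ψ (SE.x (Sum.inr d) (Sum.inl i) t) = Sg.x (Sum.inr d) (Sum.inl i) t) :
    ∀ a b : Idx n, Rt a b → ∀ t : K, ψ (SE.x a b t) = Sg.x a b t := by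
  have rll : ∀ {i j : Fin n}, i ≠ j → Rt (Sum.inl i : Idx n) (Sum.inl j) := by
    intro i j h
    exact ⟨fun e => h (Sum.inl.inj e), fun e => by simp at e⟩
  have rlr : ∀ {i j : Fin n}, i ≠ j → Rt (Sum.inl i : Idx n) (Sum.inr j) := by
    intro i j h
    exact ⟨fun e => by simp at e, fun e => h (by simpa using e)⟩
  have rrl : ∀ {i j : Fin n}, i ≠ j → Rt (Sum.inr i : Idx n) (Sum.inl j) := by
    intro i j h
    exact ⟨fun e => by simp at e, fun e => h (by simpa using e)⟩
  have rrr : ∀ {i j : Fin n}, i ≠ j → Rt (Sum.inr i : Idx n) (Sum.inr j) := by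
    intro i j h
    exact ⟨fun e => h (Sum.inr.inj e), fun e => by simp at e⟩
  -- `inr i, inr j`
  have h4 : ∀ i j : Fin n, i ≠ j → ∀ t : K,
      ψ (SE.x (Sum.inr i) (Sum.inr j) t) = Sg.x (Sum.inr i) (Sum.inr j) t := by
    intro i j hij t
    rw [SE.xbar _ _ (rrr hij), Sg.xbar _ _ (rrr hij)]
    exact h1 j i hij.symm (-t)
  -- `inl d, inr j`
  have h2' : ∀ j : Fin n, j ≠ d → ∀ t : K,
      ψ (SE.x (Sum.inl d) (Sum.inr j) t) = Sg.x (Sum.inl d) (Sum.inr j) t := by
    intro j hj t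
    rw [SE.xbar _ _ (rlr hj.symm), Sg.xbar _ _ (rlr hj.symm)]
    exact h2 j hj (-t)
  -- `inr i, inl d`
  have h3' : ∀ i : Fin n, i ≠ d → ∀ t : K,
      ψ (SE.x (Sum.inr i) (Sum.inl d) t) = Sg.x (Sum.inr i) (Sum.inl d) t := by
    intro i hi t
    rw [SE.xbar _ _ (rrl hi), Sg.xbar _ _ (rrl hi)]
    exact h3 i hi (-t)
  -- `inl i, inr j`
  have h5 : ∀ i j : Fin n, i ≠ j → ∀ t : K,
      ψ (SE.x (Sum.inl i) (Sum.inr j) t) = Sg.x (Sum.inl i) (Sum.inr j) t := by
    intro i j hij t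
    by_cases hjd : j = d
    · subst hjd
      exact h2 i hij t
    · by_cases hid : i = d
      · subst hid
        exact h2' j hjd t
      · have e1 := SE.comm3 (Sum.inl i) (Sum.inr d) (Sum.inr j) (rlr hid) (rrr (Ne.symm hjd))
          (rlr hij) t 1
        have e2 := Sg.comm3 (Sum.inl i) (Sum.inr d) (Sum.inr j) (rlr hid) (rrr (Ne.symm hjd))
          (rlr hij) t 1
        rw [mul_one] at e1 e2
        rw [← e1, ← e2, map_mul, map_mul, map_mul, map_inv, map_inv, h2 i hid,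
          h4 d j (Ne.symm hjd)]
  -- `inr i, inl j`
  have h6 : ∀ i j : Fin n, i ≠ j → ∀ t : K,
      ψ (SE.x (Sum.inr i) (Sum.inl j) t) = Sg.x (Sum.inr i) (Sum.inl j) t := by
    intro i j hij t
    by_cases hid : i = d
    · subst hid
      exact h3 j (Ne.symm hij) t
    · by_cases hjd : j = d
      · subst hjd
        exact h3' i hid t
      · have e1 := SE.comm3 (Sum.inr i) (Sum.inr d) (Sum.inl j) (rrr hid) (rrl (Ne.symm hjd))
          (rrl hij) t 1
        have e2 := Sg.comm3 (Sum.inr i) (Sum.inr d) (Sum.inl j) (rrr hid) (rrl (Ne.symm hjd))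
          (rrl hij) t 1
        rw [mul_one] at e1 e2
        rw [← e1, ← e2, map_mul, map_mul, map_mul, map_inv, map_inv, h4 i d hid,
          h3 j hjd]
  intro a b hab t
  rcases a with i | i <;> rcases b with j | j
  · exact h1 i j (fun e => hab.1 (by rw [e])) t
  · exact h5 i j (fun e => hab.2 (by rw [e]; rfl)) t
  · exact h6 i j (fun e => hab.2 (by rw [e]; rfl)) t
  · exact h4 i j (fun e => hab.1 (by rw [e])) t

end Cfsg.Agent.CtRecD
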