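import Mathlib
import Cfsg.Agent.CtRecD.RecogD
import Cfsg.Agent.CtRecD.SchH
import Cfsg.Agent.CtRecD.LamL4
import Cfsg.Agent.CtRecD.SchCext4a
import Cfsg.Agent.CtRecD.SchCext4c
import Cfsg.Agent.Helper7.SlO

/-!
# S2097 (Schur multiplier of `PΩ⁺_{2l}(q)`, `l` even), piece S8b (helper2): central extensions in rank 4

Given the two lifted homomorphisms `Φ, Φ' : SL_4(K) → E` (piece S8a) of a central extension `E → G` of a group `G` with the
Steinberg relations of type `D_4` over a field with at least three elements, the extension `E` carries the Steinberg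
relations: `exists_OD_lift_four_of`.  The relation `comm_row` for the lifts (`s8_lc_row`) comes from the torus for
`|K| ≥ 4` and from the relation `c_{a;b}(t,u) = c_{a;h}(u,-t)` for `|K| = 3`.
-/

set_option autoImplicit false
set_option linter.unusedSectionVars false
set_option linter.unusedVariables false

namespace Cfsg.Agent.CtRecD

open Matrix Cfsg.Agent.Helper7.Sc Cfsg.Agent.Helper7.Sl

variable {n : ℕ} {K : Type*} [Field K] {G E : Type*} [Group G] [Group E] (Sg : OD n K G) (C : CExt E G)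

/-- four indices with pairwise distinct coordinates. -/
structure S8Quad (a b h h' : Idx n) : Prop where
  ab : Rt a b
  ah : Rt a h
  ah' : Rt a h'
  bh : Rt b h
  bh' : Rt b h'
  hh' : Rt h h'

theorem S8Quad.swap23 {a b h h' : Idx n} (q : S8Quad a b h h') : S8Quad a h b h' :=
  ⟨q.ah, q.ab, q.ah', q.bh.symm, q.hh', q.bh'⟩

theorem S8Quad.bar3 {a b h h' : Idx n} (q : S8Quad a b h h') : S8Quad a b h.swap h' :=
  ⟨q.ab, q.ah.swap_right, q.ah', q.bh.swap_right, q.bh', q.hh'.swap_left⟩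

/-! ### the torus -/

theorem s8_conj_h (hn : 3 ≤ n) {k l i j : Idx n} (hkl : Rt k l) (hij : Rt i j) {lam : K} (hl : lam ≠ 0)
    (c : K) :
    Sg.h k l lam * Sg.x i j c * (Sg.h k l lam)⁻¹ = Sg.x i j (hD k l lam i * (hD k l lam j)⁻¹ * c) := by
  have h := (Sg.mon_h hn hkl hl).2.2 i j hij c
  rw [MulAut.conj_apply] at h
  exact h

theorem s8_hD_far {k l i : Idx n} (t : K) (h1 : i ≠ k) (h2 : i ≠ l) (h3 : i ≠ k.swap) (h4 : i ≠ l.swap) :
    hD k l t i = 1 := by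
  unfold hD
  rw [if_neg h1, if_neg h2, if_neg h3, if_neg h4]

theorem s8_hD_k (k l : Idx n) (t : K) : hD k l t k = t := by
  unfold hD
  rw [if_pos rfl]

theorem s8_hD_l {k l : Idx n} (hkl : k ≠ l) (t : K) : hD k l t l = t⁻¹ := by
  unfold hD
  rw [if_neg hkl.symm, if_pos rfl]

theorem s8_hD_kbar {k l : Idx n} (hkl : Rt k l) (t : K) : hD k l t k.swap = t⁻¹ := by
  unfold hD
  rw [if_neg (ne_swap k).symm, if_neg (fun e => hkl.2 (swap_eq_iff.mp e)), if_pos rfl]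

theorem s8_hD_lbar {k l : Idx n} (hkl : Rt k l) (t : K) : hD k l t l.swap = t := by
  unfold hD
  rw [if_neg (fun e => hkl.2 e.symm), if_neg (ne_swap l).symm,
    if_neg (fun e => hkl.1 (swap_inj.mp e).symm), if_pos rfl]

/-! ### lifts of commuting root elements -/

/-- lifts of `x_{a h̄}(s)` and `x_{a b̄}(u)` commute (torus `h_{h h'}(λ)`, `λ ≠ 0, 1`). -/
theorem s8_lc_far (hn : 3 ≤ n) {a b h h' : Idx n} (q : S8Quad a b h h') {lam : K} (h0 : lam ≠ 0)
    (h1 : lam ≠ 1) (s u : K) : C.LC (Sg.x a h.swap s) (Sg.x a b.swap u) := by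
  have hah : Rt a h.swap := q.ah.swap_right
  have hab : Rt a b.swap := q.ab.swap_right
  have e1 : Sg.h h h' lam * Sg.x a b.swap u * (Sg.h h h' lam)⁻¹ = Sg.x a b.swap u := by
    rw [s8_conj_h Sg hn q.hh' hab h0,
      s8_hD_far (i := a) lam q.ah.1 q.ah'.1 q.ah.2 q.ah'.2,
      s8_hD_far (i := b.swap) lam (fun e => q.bh.2 (swap_eq_iff.mp e)) (fun e => q.bh'.2 (swap_eq_iff.mp e))
        (fun e => q.bh.1 (swap_inj.mp e)) (fun e => q.bh'.1 (swap_inj.mp e))]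
    congr 1
    rw [inv_one, mul_one, one_mul]
  have e2 : ∀ c : K, Sg.h h h' lam * Sg.x a h.swap c * (Sg.h h h' lam)⁻¹ = Sg.x a h.swap (lam * c) := by
    intro c
    rw [s8_conj_h Sg hn q.hh' hah h0, s8_hD_far (i := a) lam q.ah.1 q.ah'.1 q.ah.2 q.ah'.2,
      s8_hD_kbar q.hh', inv_inv, one_mul]
  have c1 : Sg.x a b.swap u * Sg.h h h' lam = Sg.h h h' lam * Sg.x a b.swap u := by
    calc Sg.x a b.swap u * Sg.h h h' lam
        = (Sg.h h h' lam * Sg.x a b.swap u * (Sg.h h h' lam)⁻¹) * Sg.h h h' lam := by rw [e1]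
      _ = Sg.h h h' lam * Sg.x a b.swap u := by group
  have hl1 : lam - 1 ≠ 0 := sub_ne_zero.mpr h1
  have c2 : Sg.x a b.swap u * Sg.x a h.swap (s / (lam - 1)) =
      Sg.x a h.swap (s / (lam - 1)) * Sg.x a b.swap u :=
    Sg.comm a b.swap a h.swap hab hah (fun e => q.ab.2 e.symm) q.ah.2 (ne_swap a)
      (by rw [Sum.swap_swap]; exact fun e => q.bh.2 e.symm) u _
  have key : Sg.h h h' lam * Sg.x a h.swap (s / (lam - 1)) * (Sg.h h h' lam)⁻¹ *
      (Sg.x a h.swap (s / (lam - 1)))⁻¹ = Sg.x a h.swap s := by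
    rw [e2, Sg.x_inv hah, Sg.add a h.swap hah]
    congr 1
    have e : lam * (s / (lam - 1)) + -(s / (lam - 1)) = (lam - 1) * (s / (lam - 1)) := by ring
    rw [e, mul_div_cancel₀ _ hl1]
  exact (lc_of_comm_cm' C c1 c2 key).symm

/-- the relation `c_{a;b}(t,u) = c_{a;h}(u,-t)` between the central pairings. -/
theorem s8_rel (hn : 3 ≤ n) {a b h h' : Idx n} (q : S8Quad a b h h') {lam : K} (h0 : lam ≠ 0)
    (h1 : lam ≠ 1) (t u : K) :
    C.cm (Sg.x a b t) (Sg.x a b.swap u) = C.cm (Sg.x a h u) (Sg.x a h.swap (-t)) := by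
  have hab' : Rt a b.swap := q.ab.swap_right
  have hhb' : Rt h b.swap := q.bh.symm.swap_right
  have h3 : Sg.x a h u * Sg.x h b.swap 1 * (Sg.x a h u)⁻¹ * (Sg.x h b.swap 1)⁻¹ = Sg.x a b.swap u := by
    have := Sg.comm3 a h b.swap q.ah hhb' hab' u 1
    rwa [mul_one] at this
  have hZ : C.ψ (C.cm (Sg.x a h u) (Sg.x h b.swap 1)) = Sg.x a b.swap u := by rw [C.ψ_cm, h3]
  rw [C.cm_eq_kap hZ, C.kap_cm]
  have e1 : Sg.x a b t * Sg.x a h u * (Sg.x a b t)⁻¹ = Sg.x a h u := by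
    rw [Sg.comm a b a h q.ab q.ah q.ab.1.symm q.ah.1 (ne_swap a) (fun e => q.bh.2 (swap_eq_iff.mp e.symm)) t u]
    group
  have e2 : Sg.x a b t * Sg.x h b.swap 1 * (Sg.x a b t)⁻¹ = Sg.x a h.swap (-t) * Sg.x h b.swap 1 := by
    have hb : Sg.x h b.swap 1 = Sg.x b h.swap (-1) := by
      have := Sg.xbar h b.swap hhb' 1
      rwa [Sum.swap_swap] at this
    have h3' := Sg.comm3 a b h.swap q.ab q.bh.swap_right q.ah.swap_right t (-1)
    rw [hb]
    calc Sg.x a b t * Sg.x b h.swap (-1) * (Sg.x a b t)⁻¹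
        = (Sg.x a b t * Sg.x b h.swap (-1) * (Sg.x a b t)⁻¹ * (Sg.x b h.swap (-1))⁻¹) *
            Sg.x b h.swap (-1) := by group
      _ = Sg.x a h.swap (-t) * Sg.x b h.swap (-1) := by rw [h3', mul_neg_one]
  rw [e1, e2, C.cm_mul_right, (s8_lc_far Sg C hn q h0 h1 (-t) u).kap_eq C hZ, mul_inv_cancel_right]

/-- the pairing is alternating. -/
theorem s8_alt (hn : 3 ≤ n) {a b h h' : Idx n} (q : S8Quad a b h h') {lam : K} (h0 : lam ≠ 0)
    (h1 : lam ≠ 1) (t u : K) :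
    C.cm (Sg.x a b u) (Sg.x a b.swap t) * C.cm (Sg.x a b t) (Sg.x a b.swap u) = 1 := by
  have r1 := s8_rel Sg C hn q.swap23 h0 h1 (-t) u
  have r2 := s8_rel Sg C hn q.swap23.bar3 h0 h1 (-t) u
  rw [neg_neg] at r1 r2
  rw [Sum.swap_swap] at r2
  -- r1 : cm (x a h (-t)) (x a h̄ u) = cm (x a b u) (x a b̄ t)
  -- r2 : cm (x a h (-t)) (x a h̄ u) = cm (x a b̄ u) (x a b t)
  rw [← r1, r2, ← C.cm_inv (Sg.x a b t) (Sg.x a b.swap u), inv_mul_cancel]

/-- additivity of the pairing in the first variable. -/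
theorem s8_add_left {a b : Idx n} (hab : Rt a b) (t t' u : K) :
    C.cm (Sg.x a b (t + t')) (Sg.x a b.swap u) =
      C.cm (Sg.x a b t') (Sg.x a b.swap u) * C.cm (Sg.x a b t) (Sg.x a b.swap u) := by
  rw [← Sg.add a b hab t t', cm_mul_left, kap_cm_of_comm C (Sg.comm_row a b hab t' u)]

theorem s8_cm_one_left (d : G) : C.cm 1 d = 1 :=
  C.cm_central_left (Subgroup.one_mem _) d

/-! ### the relation `comm_row` for the lifts -/

/-- the torus case: some `λ ≠ 0` with `λ² ≠ 1`. -/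
theorem s8_lc_row_torus (hn : 3 ≤ n) {a b : Idx n} (hab : Rt a b) {lam : K} (h0 : lam ≠ 0)
    (h2 : lam * lam ≠ 1) (t u : K) : C.LC (Sg.x a b t) (Sg.x a b.swap u) := by
  have hab' : Rt a b.swap := hab.swap_right
  have e1 : Sg.h a b lam * Sg.x a b.swap u * (Sg.h a b lam)⁻¹ = Sg.x a b.swap u := by
    rw [s8_conj_h Sg hn hab hab' h0, s8_hD_k, s8_hD_lbar hab, mul_inv_cancel₀ h0, one_mul]
  have e2 : ∀ c : K, Sg.h a b lam * Sg.x a b c * (Sg.h a b lam)⁻¹ = Sg.x a b (lam * lam * c) := by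
    intro c
    rw [s8_conj_h Sg hn hab hab h0, s8_hD_k, s8_hD_l hab.1, inv_inv]
  have c1 : Sg.x a b.swap u * Sg.h a b lam = Sg.h a b lam * Sg.x a b.swap u := by
    calc Sg.x a b.swap u * Sg.h a b lam
        = (Sg.h a b lam * Sg.x a b.swap u * (Sg.h a b lam)⁻¹) * Sg.h a b lam := by rw [e1]
      _ = Sg.h a b lam * Sg.x a b.swap u := by group
  have hl1 : lam * lam - 1 ≠ 0 := sub_ne_zero.mpr h2
  have c2 : Sg.x a b.swap u * Sg.x a b (t / (lam * lam - 1)) =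
      Sg.x a b (t / (lam * lam - 1)) * Sg.x a b.swap u := (Sg.comm_row a b hab _ u).symm
  have key : Sg.h a b lam * Sg.x a b (t / (lam * lam - 1)) * (Sg.h a b lam)⁻¹ *
      (Sg.x a b (t / (lam * lam - 1)))⁻¹ = Sg.x a b t := by
    rw [e2, Sg.x_inv hab, Sg.add a b hab]
    congr 1
    have e : lam * lam * (t / (lam * lam - 1)) + -(t / (lam * lam - 1)) =
        (lam * lam - 1) * (t / (lam * lam - 1)) := by ring
    rw [e, mul_div_cancel₀ _ hl1]
  exact (lc_of_comm_cm' C c1 c2 key).symm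

/-- the case of the field with three elements. -/
theorem s8_lc_row_three (hn : 3 ≤ n) {a b h h' : Idx n} (q : S8Quad a b h h')
    (hK : ∀ mu : K, mu ≠ 0 → mu * mu = 1) {lam : K} (h0 : lam ≠ 0) (h1 : lam ≠ 1) (t u : K) :
    C.LC (Sg.x a b t) (Sg.x a b.swap u) := by
  have hab := q.ab
  have hab' : Rt a b.swap := hab.swap_right
  -- the elements of `K`
  have vals : ∀ v : K, v = 0 ∨ v = 1 ∨ v = -1 := by
    intro v
    by_cases hv : v = 0
    · exact Or.inl hv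
    · right
      have h := hK v hv
      have h' : (v - 1) * (v + 1) = 0 := by ring_nf; rw [sq, h]; ring
      rcases mul_eq_zero.mp h' with h'' | h''
      · exact Or.inl (sub_eq_zero.mp h'')
      · exact Or.inr (eq_neg_of_add_eq_zero_left h'')
  have hlam : lam = -1 := by
    rcases vals lam with h | h | h
    · exact absurd h h0
    · exact absurd h h1
    · exact h
  have three : (1 : K) + 1 + 1 = 0 := by
    have h2 : (1 : K) + 1 ≠ 0 := by
      intro e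
      apply h1
      rw [hlam]
      exact (eq_neg_of_add_eq_zero_left e).symm
    have h := hK (1 + 1) h2
    linear_combination h
  -- the pairing at `(1, 1)`
  obtain ⟨c, hc⟩ : ∃ c, c = C.cm (Sg.x a b 1) (Sg.x a b.swap 1) := ⟨_, rfl⟩
  have hsq : c * c = 1 := by
    rw [hc]
    exact s8_alt Sg C hn q h0 h1 1 1
  have hcube : c * (c * c) = 1 := by
    have e := s8_add_left Sg C hab (1 + 1) 1 1
    rw [s8_add_left Sg C hab 1 1 1, three, Sg.x_zero hab, s8_cm_one_left, ← hc] at e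
    exact e.symm
  have hc1 : c = 1 := by
    rw [hsq, mul_one] at hcube
    exact hcube
  have L11 : C.LC (Sg.x a b 1) (Sg.x a b.swap 1) := (C.LC_iff _ _).mpr (hc ▸ hc1)
  -- all `t`
  have Lt1 : ∀ t : K, C.LC (Sg.x a b t) (Sg.x a b.swap 1) := by
    intro t
    rcases vals t with h | h | h
    · rw [h, Sg.x_zero hab]
      exact (C.LCen (Sg.x a b.swap 1)).one_mem
    · rw [h]
      exact L11
    · rw [h, ← Sg.x_inv hab]
      exact (C.LCen (Sg.x a b.swap 1)).inv_mem L11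
  rcases vals u with h | h | h
  · rw [h, Sg.x_zero hab']
    exact ((C.LCen (Sg.x a b t)).one_mem : C.LC 1 (Sg.x a b t)).symm
  · rw [h]
    exact Lt1 t
  · rw [h, ← Sg.x_inv hab']
    exact ((C.LCen (Sg.x a b t)).inv_mem (Lt1 t).symm : C.LC (Sg.x a b.swap 1)⁻¹ (Sg.x a b t)).symm

/-- **lifts of the pairs `x_{ab}(t)`, `x_{a b̄}(u)` commute** (four coordinates, `|K| ≥ 3`). -/
theorem s8_lc_row [Fintype K] (hK : 3 ≤ Fintype.card K) (hn : 3 ≤ n) {a b h h' : Idx n}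
    (q : S8Quad a b h h') (t u : K) : C.LC (Sg.x a b t) (Sg.x a b.swap u) := by
  classical
  obtain ⟨lam, h0, h1⟩ : ∃ lam : K, lam ≠ 0 ∧ lam ≠ 1 := by
    by_contra hcon
    push Not at hcon
    have hsub : (Finset.univ : Finset K) ⊆ {0, 1} := by
      intro v _
      by_cases hv : v = 0
      · simp [hv]
      · simp [hcon v hv]
    have := Finset.card_le_card hsub
    rw [Finset.card_univ] at this
    have h2 : ({0, 1} : Finset K).card ≤ 2 := Finset.card_le_two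
    omega
  by_cases hsq : ∃ mu : K, mu ≠ 0 ∧ mu * mu ≠ 1
  · obtain ⟨mu, hm0, hm2⟩ := hsq
    exact s8_lc_row_torus Sg C hn q.ab hm0 hm2 t u
  · push Not at hsq
    exact s8_lc_row_three Sg C hn q hsq h0 h1 t u

/-! ### rank four -/

/-- the coordinate of an index. -/
def s8_crd {n : ℕ} : Idx n → Fin n := Sum.elim id id

theorem s8_rt_iff {n : ℕ} {a b : Idx n} : Rt a b ↔ s8_crd a ≠ s8_crd b := by
  rcases a with i | i <;> rcases b with j | j <;> simp [Rt, s8_crd]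

theorem s8_exists_quad {a b : Idx 4} (hab : Rt a b) : ∃ h h' : Idx 4, S8Quad a b h h' := by
  have key : ∀ i j : Fin 4, i ≠ j → ∃ p q : Fin 4, i ≠ p ∧ i ≠ q ∧ j ≠ p ∧ j ≠ q ∧ p ≠ q := by decide
  obtain ⟨p, q, h1, h2, h3, h4, h5⟩ := key _ _ (s8_rt_iff.mp hab)
  exact ⟨Sum.inl p, Sum.inl q, hab, s8_rt_iff.mpr h1, s8_rt_iff.mpr h2, s8_rt_iff.mpr h3, s8_rt_iff.mpr h4,
    s8_rt_iff.mpr h5⟩

/-- in rank four, over a field with at least three elements, lifts of `x_{ab}(t)`, `x_{a b̄}(u)` commute. -/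
theorem s8_lc_row_four [Fintype K] (hK : 3 ≤ Fintype.card K) (Sg : OD 4 K G) (C : CExt E G) {a b : Idx 4}
    (hab : Rt a b) (t u : K) : C.LC (Sg.x a b t) (Sg.x a b.swap u) := by
  obtain ⟨h, h', q⟩ := s8_exists_quad hab
  exact s8_lc_row Sg C hK (by norm_num) q t u

section four

variable [Fintype K] (hK : 3 ≤ Fintype.card K) (Sg : OD 4 K G) (C : CExt E G)
  (Φ Φ' : SpecialLinearGroup (Fin 4) K →* E)
  (hΦ : ∀ (i j : Fin 4) (hij : i ≠ j) (t : K),
    C.ψ (Φ (SpecialLinearGroup.transvection hij t)) = Sg.x (Sum.inl i) (Sum.inl j) t)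
  (hΦ' : ∀ (i j : Fin 4) (hij : i ≠ j) (t : K),
    C.ψ (Φ' (SpecialLinearGroup.transvection hij t)) =
      Sg.x (if i = 3 then Sum.inr 3 else Sum.inl i) (if j = 3 then Sum.inr 3 else Sum.inl j) t)

include hK hΦ hΦ' in
/-- the pair of lifted homomorphisms is a `DPair`. -/
theorem s8_exists_dpair : ∃ P : DPair 2 K E, P.Φ = Φ ∧ P.Φ' = Φ' := by
  have e3 : (ds 2 : Fin 4) = 3 := rfl
  have er : (dr 2 : Fin 4) = 2 := rfl
  have rll : Rt (Sum.inl (2 : Fin 4) : Idx 4) (Sum.inl 3) := s8_rt_iff.mpr (by decide)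
  have rrr : Rt (Sum.inr (3 : Fin 4) : Idx 4) (Sum.inr 2) := s8_rt_iff.mpr (by decide)
  have rll' : Rt (Sum.inl (3 : Fin 4) : Idx 4) (Sum.inl 2) := s8_rt_iff.mpr (by decide)
  have rrr' : Rt (Sum.inr (2 : Fin 4) : Idx 4) (Sum.inr 3) := s8_rt_iff.mpr (by decide)
  have rlr : Rt (Sum.inl (2 : Fin 4) : Idx 4) (Sum.inr 3) := s8_rt_iff.mpr (by decide)
  have rrl : Rt (Sum.inr (3 : Fin 4) : Idx 4) (Sum.inl 2) := s8_rt_iff.mpr (by decide)
  -- the values of the four root elements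
  have v1 : ∀ t : K, C.ψ (Φ (SpecialLinearGroup.transvection (dr_ne_ds 2) t)) =
      Sg.x (Sum.inl 2) (Sum.inl 3) t := fun t => hΦ _ _ _ t
  have v2 : ∀ t : K, C.ψ (Φ (SpecialLinearGroup.transvection (dr_ne_ds 2).symm t)) =
      Sg.x (Sum.inl 3) (Sum.inl 2) t := fun t => hΦ _ _ _ t
  have v3 : ∀ u : K, C.ψ (Φ' (SpecialLinearGroup.transvection (dr_ne_ds 2) u)) =
      Sg.x (Sum.inl 2) (Sum.inr 3) u := by
    intro u
    have h := hΦ' _ _ (dr_ne_ds 2) u
    rw [if_neg (by decide : ¬ (dr 2 : Fin 4) = 3), if_pos e3] at h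
    exact h
  have v4 : ∀ u : K, C.ψ (Φ' (SpecialLinearGroup.transvection (dr_ne_ds 2).symm u)) =
      Sg.x (Sum.inr 3) (Sum.inl 2) u := by
    intro u
    have h := hΦ' _ _ (dr_ne_ds 2).symm u
    rw [if_neg (by decide : ¬ (dr 2 : Fin 4) = 3), if_pos e3] at h
    exact h
  refine ⟨{ Φ := Φ, Φ' := Φ', agree := ?_, comm_uu := ?_, comm_ul := ?_, comm_lu := ?_, comm_ll := ?_ },
    rfl, rfl⟩
  · intro i j hij t hi hj
    rw [e3] at hi hj
    have key : ∀ i j : Fin 4, i ≠ j → i ≠ 3 → j ≠ 3 → ∃ k : Fin 4, i ≠ k ∧ k ≠ j ∧ k ≠ 3 := by decide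
    obtain ⟨k, hik, hkj, hk⟩ := key i j hij hi hj
    have hT := l4_tv_comm3 (F := K) hik hkj hij t 1
    rw [mul_one] at hT
    rw [← hT, map_mul, map_mul, map_mul, map_inv, map_inv, map_mul, map_mul, map_mul, map_inv, map_inv,
      ← C.cm_eq (hΦ i k hik t) (hΦ k j hkj 1)]
    have h1 := hΦ' i k hik t
    have h2 := hΦ' k j hkj 1
    rw [if_neg hi, if_neg hk] at h1
    rw [if_neg hk, if_neg hj] at h2
    rw [← C.cm_eq h1 h2]
  · intro t u
    have hL := s8_lc_row_four hK Sg C rll t u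
    exact hL _ _ (v1 t) (v3 u)
  · intro t u
    have hL := s8_lc_row_four hK Sg C rrr (-t) u
    have e1 : Sg.x (Sum.inl 2) (Sum.inl 3) t = Sg.x (Sum.inr 3) (Sum.inr 2) (-t) := Sg.xbar _ _ rll t
    exact hL _ _ ((v1 t).trans e1) (v4 u)
  · intro t u
    have hL := s8_lc_row_four hK Sg C rll' t (-u)
    have e1 : Sg.x (Sum.inl 2) (Sum.inr 3) u = Sg.x (Sum.inl 3) (Sum.inr 2) (-u) := Sg.xbar _ _ rlr u
    exact hL _ _ (v2 t) ((v3 u).trans e1)
  · intro t u
    have hL := s8_lc_row_four hK Sg C rrr' (-t) (-u)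
    have e1 : Sg.x (Sum.inl 3) (Sum.inl 2) t = Sg.x (Sum.inr 2) (Sum.inr 3) (-t) := Sg.xbar _ _ rll' t
    have e2 : Sg.x (Sum.inr 3) (Sum.inl 2) u = Sg.x (Sum.inr 2) (Sum.inl 3) (-u) := Sg.xbar _ _ rrl u
    exact hL _ _ ((v2 t).trans e1) ((v4 u).trans e2)

include hK hΦ hΦ' in
/-- **S8b, main output**: the `OD`-system of type `D_4` in the central extension `E` glued from the two lifted
`SL_4`'s, with its `ψ`-values on the root groups `x_{ij}`, `x_{i 3̄}`, `x_{3̄ i}`. -/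
theorem exists_OD_lift_four_pre : ∃ SE : OD 4 K E,
    (∀ (i j : Fin 4), i ≠ j → ∀ t : K, C.ψ (SE.x (Sum.inl i) (Sum.inl j) t) = Sg.x (Sum.inl i) (Sum.inl j) t) ∧
    (∀ (i : Fin 4), i ≠ 3 → ∀ t : K, C.ψ (SE.x (Sum.inl i) (Sum.inr 3) t) = Sg.x (Sum.inl i) (Sum.inr 3) t) ∧
    (∀ (i : Fin 4), i ≠ 3 → ∀ t : K, C.ψ (SE.x (Sum.inr 3) (Sum.inl i) t) = Sg.x (Sum.inr 3) (Sum.inl i) t) := by
  obtain ⟨P, hP, hP'⟩ := s8_exists_dpair hK Sg C Φ Φ' hΦ hΦ'
  obtain ⟨SE, h1, h2, h3⟩ := exists_OD (le_refl 2) P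
  have e3 : (ds 2 : Fin 4) = 3 := rfl
  refine ⟨SE, ?_, ?_, ?_⟩
  · intro i j hij t
    rw [h1 i j hij t, hP]
    exact hΦ i j hij t
  · intro i hi t
    have h := h2 i hi t
    rw [hP'] at h
    have h' := hΦ' i 3 hi t
    rw [if_neg hi, if_pos rfl] at h'
    exact (congrArg C.ψ h).trans h'
  · intro i hi t
    have h := h3 i hi t
    rw [hP'] at h
    have h' := hΦ' 3 i (Ne.symm hi) t
    rw [if_pos rfl, if_neg hi] at h'
    exact (congrArg C.ψ h).trans h'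

end four

theorem s8_idxA'_four (i : Fin 4) :
    (idxA' 4 i : Idx 4) = if i = 3 then Sum.inr 3 else Sum.inl i := by
  fin_cases i <;> rfl

/-- **S8b**: in rank four, over a finite field with at least three elements, an `OD`-system of `G` lifts to every
central extension of `G`. -/
theorem exists_OD_lift_four [Fintype K] (hK : 3 ≤ Fintype.card K) (Sg : OD 4 K G)
    (hgen : Subgroup.closure Sg.gens = ⊤) (C : CExt E G) :
    ∃ SE : OD 4 K E, ∀ a b, Rt a b → ∀ t, C.ψ (SE.x a b t) = Sg.x a b t := by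
  obtain ⟨Φ, Φ', hΦ, hΦ'⟩ := exists_two_lifts hK Sg C
  have hΦ'' : ∀ (i j : Fin 4) (hij : i ≠ j) (t : K),
      C.ψ (Φ' (SpecialLinearGroup.transvection hij t)) =
        Sg.x (if i = 3 then Sum.inr 3 else Sum.inl i) (if j = 3 then Sum.inr 3 else Sum.inl j) t := by
    intro i j hij t
    rw [← s8_idxA'_four, ← s8_idxA'_four]
    exact hΦ' i j hij t
  obtain ⟨SE, h1, h2, h3⟩ := exists_OD_lift_four_pre hK Sg C Φ Φ' hΦ hΦ''
  exact ⟨SE, OD.map_x_of_dpair 3 SE Sg C.ψ h1 h2 h3⟩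

end Cfsg.Agent.CtRecD
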