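import Mathlib
import Cfsg.Agent.CtRecD.SchDefs
import Cfsg.Agent.Helper8.StdForms

set_option autoImplicit false
set_option linter.unusedSectionVars false
set_option linter.unusedVariables false
set_option linter.unusedSimpArgs false

/-!
# S2096, piece S6 (helper9): a system of type `D_n` in which `zD ≠ 1` (the spin model)

In a ring with elements `γ x` (`x : Idx n`) subject to the canonical anticommutation relations
`γ x * γ x = 0`, `γ x * γ y + γ y * γ x = [y = x̄]`, the units `1 + t • (γ a * γ b̄)` (`a ≠ b`, `a ≠ b̄`) satisfy the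
Steinberg relations of type `D_n` (`CAR.toOD`), and `h_{e_p - e_q}(-1) h_{e_p + e_q}(-1) = -1` (`CAR.toOD_zD`).  The Clifford
algebra of the hyperbolic quadratic form carries such elements (`cliffCAR`) and is nontrivial if `2 ≠ 0`:
`exists_OD_zD_ne_one`.
-/

namespace Cfsg.Agent.CtRecD

universe u

section cl_ring

variable {R : Type*} [Ring R]

/-- two modes of canonical anticommutation relations: `w_α(-1)² w_β(-1)² = -1` for `α = e_a - e_b`, `β = e_a + e_b`. -/
theorem cl_four (A A' B B' : R)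
    (hA : A * A = 0) (hA' : A' * A' = 0) (hB : B * B = 0) (hB' : B' * B' = 0)
    (hAA : A' * A = 1 - A * A') (hBB : B' * B = 1 - B * B')
    (hBA : B * A = -(A * B)) (hBA' : B * A' = -(A' * B))
    (hB'A : B' * A = -(A * B')) (hB'A' : B' * A' = -(A' * B')) :
    ((1 - A * B') * (1 + B * A') * (1 - A * B')) * ((1 - A * B') * (1 + B * A') * (1 - A * B'))
      * (((1 - A * B) * (1 + B' * A') * (1 - A * B)) * ((1 - A * B) * (1 + B' * A') * (1 - A * B)))
      = -1 := by
  have hAz : ∀ z, A * (A * z) = 0 := fun z => by rw [← mul_assoc, hA, zero_mul]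
  have hA'z : ∀ z, A' * (A' * z) = 0 := fun z => by rw [← mul_assoc, hA', zero_mul]
  have hBz : ∀ z, B * (B * z) = 0 := fun z => by rw [← mul_assoc, hB, zero_mul]
  have hB'z : ∀ z, B' * (B' * z) = 0 := fun z => by rw [← mul_assoc, hB', zero_mul]
  have hAAz : ∀ z, A' * (A * z) = z - A * (A' * z) := fun z => by
    rw [← mul_assoc, hAA, sub_mul, one_mul, mul_assoc]
  have hBBz : ∀ z, B' * (B * z) = z - B * (B' * z) := fun z => by
    rw [← mul_assoc, hBB, sub_mul, one_mul, mul_assoc]
  have hBAz : ∀ z, B * (A * z) = -(A * (B * z)) := fun z => by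
    rw [← mul_assoc, hBA, neg_mul, mul_assoc]
  have hBA'z : ∀ z, B * (A' * z) = -(A' * (B * z)) := fun z => by
    rw [← mul_assoc, hBA', neg_mul, mul_assoc]
  have hB'Az : ∀ z, B' * (A * z) = -(A * (B' * z)) := fun z => by
    rw [← mul_assoc, hB'A, neg_mul, mul_assoc]
  have hB'A'z : ∀ z, B' * (A' * z) = -(A' * (B' * z)) := fun z => by
    rw [← mul_assoc, hB'A', neg_mul, mul_assoc]
  simp only [mul_add, add_mul, mul_sub, sub_mul, mul_neg, neg_mul, mul_one, one_mul, mul_zero,
    zero_mul, mul_assoc, hA, hA', hB, hB', hAA, hBB, hBA, hBA', hB'A, hB'A', hAz, hA'z, hBz, hB'z,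
    hAAz, hBBz, hBAz, hBA'z, hB'Az, hB'A'z, neg_neg, sub_zero, add_zero, zero_add, neg_zero,
    zero_sub, sub_neg_eq_add]
  abel

/-- the unit `1 + N` for `N² = 0`. -/
def clU (N : R) (h : N * N = 0) : Rˣ :=
  ⟨1 + N, 1 - N, by simp only [mul_sub, add_mul, mul_one, one_mul, h]; abel,
    by simp only [sub_mul, mul_add, mul_one, one_mul, h]; abel⟩

@[simp] theorem clU_val (N : R) (h : N * N = 0) : ((clU N h : Rˣ) : R) = 1 + N := rfl

variable {K : Type*} [Field K] [Algebra K R]

theorem cl_smul_sq {N : R} (h : N * N = 0) (t : K) : (t • N) * (t • N) = 0 := by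
  rw [smul_mul_assoc, mul_smul_comm, h, smul_zero, smul_zero]

theorem cl_add {N : R} (h : N * N = 0) (t u : K) :
    (1 + t • N) * (1 + u • N) = 1 + (t + u) • N := by
  simp only [mul_add, add_mul, mul_one, one_mul, smul_mul_assoc, mul_smul_comm, h, smul_zero,
    add_zero, add_smul, add_assoc]

theorem cl_comm {N M : R} (h : N * M = M * N) (t u : K) :
    (1 + t • N) * (1 + u • M) = (1 + u • M) * (1 + t • N) := by
  have e : u • t • (M * N) = t • u • (M * N) := smul_comm u t _
  simp only [mul_add, add_mul, mul_one, one_mul, smul_mul_assoc, mul_smul_comm, h, smul_add, e]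
  abel

theorem cl_comm3 {N M L : R} (h : N * M = M * N + L) (hLM : L * M = 0) (hLN : L * N = 0) (t u : K) :
    (1 + t • N) * (1 + u • M) = (1 + (t * u) • L) * (1 + u • M) * (1 + t • N) := by
  have hLMz : ∀ z, L * (M * z) = 0 := fun z => by rw [← mul_assoc, hLM, zero_mul]
  have e : u • t • L = t • u • L := smul_comm u t _
  have e' : u • t • (M * N) = t • u • (M * N) := smul_comm u t _
  simp only [mul_add, add_mul, mul_one, one_mul, smul_mul_assoc, mul_smul_comm, h, hLM, hLN, hLMz,
    mul_assoc, smul_zero, add_zero, smul_add, mul_smul, e, e']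
  abel

end cl_ring

/-- elements `γ x` with the canonical anticommutation relations. -/
structure CAR (n : ℕ) (R : Type*) [Ring R] where
  /-- the generators -/
  γ : Idx n → R
  sq : ∀ x, γ x * γ x = 0
  car : ∀ x y, γ x * γ y + γ y * γ x = if y = x.swap then 1 else 0

namespace CAR

variable {n : ℕ} {R : Type*} [Ring R] (C : CAR n R)

/-- `γ y` moves to the right of `γ x`. -/
theorem anti {x y : Idx n} (h : y ≠ x.swap) : C.γ y * C.γ x = -(C.γ x * C.γ y) := by
  have h1 := C.car x y
  rw [if_neg h] at h1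
  exact eq_neg_of_add_eq_zero_right h1

theorem pair {x y : Idx n} (h : y = x.swap) : C.γ y * C.γ x = 1 - C.γ x * C.γ y := by
  have h1 := C.car x y
  rw [if_pos h] at h1
  exact eq_sub_of_add_eq' h1

theorem sq_l (x : Idx n) (z : R) : C.γ x * (C.γ x * z) = 0 := by
  rw [← mul_assoc, C.sq, zero_mul]

theorem anti_l {x y : Idx n} (h : y ≠ x.swap) (z : R) :
    C.γ y * (C.γ x * z) = -(C.γ x * (C.γ y * z)) := by
  rw [← mul_assoc, C.anti h, neg_mul, mul_assoc]

theorem pair_l {x y : Idx n} (h : y = x.swap) (z : R) :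
    C.γ y * (C.γ x * z) = z - C.γ x * (C.γ y * z) := by
  rw [← mul_assoc, C.pair h, sub_mul, one_mul, mul_assoc]

/-- the nilpotent element of the root `e_a - e_b`. -/
def sN (a b : Idx n) : R := C.γ a * C.γ b.swap

theorem sN_sq {a b : Idx n} (hab : a ≠ b) : C.sN a b * C.sN a b = 0 := by
  have h1 : b.swap ≠ a.swap := fun e => hab (swap_inj.mp e).symm
  unfold sN
  simp only [mul_assoc, C.anti_l h1, C.sq, mul_zero, neg_zero]

theorem sN_bar {a b : Idx n} (hab : a ≠ b) : C.sN b.swap a.swap = -C.sN a b := by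
  unfold sN
  rw [Sum.swap_swap]
  exact C.anti (fun e => hab (swap_inj.mp e).symm)

theorem sN_comm {a b c d : Idx n} (h1 : b ≠ c) (h2 : a ≠ d) (h3 : c ≠ a.swap) (h4 : d ≠ b.swap) :
    C.sN a b * C.sN c d = C.sN c d * C.sN a b := by
  have e1 : c ≠ b.swap.swap := by rw [Sum.swap_swap]; exact h1.symm
  have e2 : d.swap ≠ a.swap := fun e => h2 (swap_inj.mp e).symm
  have e4 : d.swap ≠ b.swap.swap := by
    rw [Sum.swap_swap]
    exact fun e => h4 (swap_eq_iff.mp e)
  unfold sN
  simp only [mul_assoc, C.anti h3, C.anti e1, C.anti e2, C.anti e4, C.anti_l h3, C.anti_l e1,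
    C.anti_l e2, C.anti_l e4, mul_neg, neg_mul, neg_neg]

theorem sN_row {a b : Idx n} (hab : Rt a b) : C.sN a b * C.sN a b.swap = C.sN a b.swap * C.sN a b := by
  have e1 : b.swap ≠ a.swap := fun e => hab.1 (swap_inj.mp e).symm
  have e2 : b ≠ a.swap := fun e => hab.2 (swap_eq_iff.mp e.symm)
  unfold sN
  simp only [Sum.swap_swap, mul_assoc, C.anti_l e1, C.anti_l e2, C.sq_l, mul_zero, neg_zero,
    mul_neg, neg_mul]

theorem sN_comm3 {a b c : Idx n} (hab : Rt a b) (hbc : Rt b c) (hac : Rt a c) :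
    C.sN a b * C.sN b c = C.sN b c * C.sN a b + C.sN a c := by
  have e1 : b ≠ a.swap := fun e => hab.2 (swap_eq_iff.mp e.symm)
  have e2 : c.swap ≠ a.swap := fun e => hac.1 (swap_inj.mp e).symm
  have e3 : c.swap ≠ b.swap.swap := by
    rw [Sum.swap_swap]
    exact fun e => hbc.2 e.symm
  have e4 : c.swap ≠ b.swap := fun e => hbc.1 (swap_inj.mp e).symm
  have e5 : b.swap ≠ a.swap := fun e => hab.1 (swap_inj.mp e).symm
  have e6 : b.swap = b.swap := rfl
  unfold sN
  simp only [mul_assoc, C.anti e1, C.anti e2, C.anti e3, C.anti e4, C.anti e5, C.anti_l e1,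
    C.anti_l e2, C.anti_l e3, C.anti_l e4, C.anti_l e5, C.pair e6, C.pair_l e6, mul_neg, neg_mul,
    neg_neg, mul_sub, sub_mul]
  abel

theorem sN_LM {a b c : Idx n} (hbc : Rt b c) : C.sN a c * C.sN b c = 0 := by
  have e1 : c.swap ≠ b.swap := fun e => hbc.1 (swap_inj.mp e).symm
  unfold sN
  simp only [mul_assoc, C.anti_l e1, C.sq, mul_zero, neg_zero]

theorem sN_LN {a b c : Idx n} (hac : Rt a c) : C.sN a c * C.sN a b = 0 := by
  have e1 : c.swap ≠ a.swap := fun e => hac.1 (swap_inj.mp e).symm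
  unfold sN
  simp only [mul_assoc, C.anti_l e1, C.sq_l, mul_zero, neg_zero, mul_neg, neg_mul]

/-! ### the system of type `D_n` in the group of units -/

section toOD

variable {K : Type*} [Field K] [Algebra K R]

open Classical in
/-- the root elements `1 + t • γ a γ b̄`. -/
noncomputable def clx (a b : Idx n) (t : K) : Rˣ :=
  if h : Rt a b then clU (t • C.sN a b) (cl_smul_sq (C.sN_sq h.1) t) else 1

theorem clx_val {a b : Idx n} (h : Rt a b) (t : K) : ((C.clx a b t : Rˣ) : R) = 1 + t • C.sN a b := by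
  unfold clx
  rw [dif_pos h]
  rfl

/-- the Steinberg relations of type `D_n` for the units `1 + t • γ a γ b̄`. -/
noncomputable def toOD (K : Type*) [Field K] [Algebra K R] : OD n K Rˣ where
  x := C.clx
  xbar := by
    intro a b hab t
    apply Units.ext
    rw [C.clx_val hab, C.clx_val hab.bar, C.sN_bar hab.1, smul_neg, neg_smul, neg_neg]
  add := by
    intro a b hab t u
    apply Units.ext
    rw [Units.val_mul, C.clx_val hab, C.clx_val hab, C.clx_val hab, cl_add (C.sN_sq hab.1)]
  comm := by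
    intro a b c d hab hcd h1 h2 h3 h4 t u
    apply Units.ext
    rw [Units.val_mul, Units.val_mul, C.clx_val hab, C.clx_val hcd, cl_comm (C.sN_comm h1 h2 h3 h4)]
  comm_row := by
    intro a b hab t u
    apply Units.ext
    rw [Units.val_mul, Units.val_mul, C.clx_val hab, C.clx_val hab.swap_right, cl_comm (C.sN_row hab)]
  comm3 := by
    intro a b c hab hbc hac t u
    have h : C.clx a b t * C.clx b c u = C.clx a c (t * u) * C.clx b c u * C.clx a b t := by
      apply Units.ext
      rw [Units.val_mul, Units.val_mul, Units.val_mul, C.clx_val hab, C.clx_val hbc, C.clx_val hac,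
        cl_comm3 (C.sN_comm3 hab hbc hac) (C.sN_LM hbc) (C.sN_LN hac)]
    rw [h]
    group

theorem toOD_x (a b : Idx n) (t : K) : (C.toOD K).x a b t = C.clx a b t := rfl

/-- `h_{e_a - e_b}(-1) h_{e_a + e_b}(-1) = -1`. -/
theorem toOD_zz {a b : Idx n} (hab : Rt a b) :
    (C.toOD K).h a b (-1) * (C.toOD K).h a b.swap (-1) = -1 := by
  have k1 : -(-1 : K)⁻¹ = 1 := by rw [inv_neg, inv_one, neg_neg]
  have e1 : b ≠ a.swap := fun e => hab.2 (swap_eq_iff.mp e.symm)
  have e2 : b ≠ a.swap.swap := by rw [Sum.swap_swap]; exact hab.1.symm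
  have e3 : b.swap ≠ a.swap := fun e => hab.1 (swap_inj.mp e).symm
  have e4 : b.swap ≠ a.swap.swap := by
    rw [Sum.swap_swap]
    exact fun e => hab.2 e.symm
  apply Units.ext
  unfold OD.h OD.w
  simp only [toOD_x, Units.val_mul, C.clx_val hab, C.clx_val hab.symm, C.clx_val hab.swap_right,
    C.clx_val hab.swap_right.symm, k1, neg_smul, one_smul, Units.val_neg, Units.val_one, sN,
    Sum.swap_swap, ← sub_eq_add_neg]
  exact cl_four (C.γ a) (C.γ a.swap) (C.γ b) (C.γ b.swap) (C.sq _) (C.sq _) (C.sq _) (C.sq _)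
    (C.pair rfl) (C.pair rfl) (C.anti e1) (C.anti e2) (C.anti e3) (C.anti e4)

theorem toOD_zD (p q : Fin n) (hpq : p ≠ q) : (C.toOD K).zD p q = -1 := by
  have hab : Rt (Sum.inl p : Idx n) (Sum.inl q) :=
    ⟨fun e => hpq (Sum.inl_injective e), fun e => by simp at e⟩
  exact C.toOD_zz hab

end toOD

end CAR

/-! ### the Clifford algebra of the hyperbolic form -/

section cliff

open Cfsg.Agent.Helper8.StdForms

variable (n : ℕ) (K : Type u) [Field K]

theorem cl_plusForm_single (x : Idx n) : plusForm K n (Pi.single x (1 : K)) = 0 := by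
  rw [plusForm_apply]
  unfold Cfsg.quadFormPlus
  apply Finset.sum_eq_zero
  intro i _
  rcases x with j | j
  · rw [Pi.single_apply (Sum.inl j) (1 : K) (Sum.inr i), if_neg (by simp), mul_zero]
  · rw [Pi.single_apply (Sum.inr j) (1 : K) (Sum.inl i), if_neg (by simp), zero_mul]

theorem cl_polar_single (x y : Idx n) :
    QuadraticMap.polar (plusForm K n) (Pi.single x (1 : K)) (Pi.single y (1 : K))
      = if y = x.swap then 1 else 0 := by
  rw [polar_plusForm]
  rcases x with i | i <;> rcases y with j | j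
  · simp [Pi.single_apply]
  · simp [Pi.single_apply, eq_comm]
  · simp [Pi.single_apply, eq_comm]
  · simp [Pi.single_apply]

/-- the canonical anticommutation relations in the Clifford algebra of the hyperbolic form. -/
noncomputable def cliffCAR : CAR n (CliffordAlgebra (plusForm K n)) where
  γ x := CliffordAlgebra.ι (plusForm K n) (Pi.single x (1 : K))
  sq x := by rw [CliffordAlgebra.ι_sq_scalar, cl_plusForm_single, map_zero]
  car x y := by
    rw [CliffordAlgebra.ι_mul_ι_add_swap, cl_polar_single]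
    split_ifs
    · exact map_one _
    · exact map_zero _

end cliff

/-- **S6**: a system of type `D_n` with `zD ≠ 1`, if `2 ≠ 0`. -/
theorem exists_OD_zD_ne_one {n : ℕ} {K : Type u} [Field K] (hn : 3 ≤ n) (h2 : (2 : K) ≠ 0) :
    ∃ (M : Type u) (_ : Group M) (S : OD n K M), ∀ p q : Fin n, p ≠ q → S.zD p q ≠ 1 := by
  have : Invertible (2 : K) := invertibleOfNonzero h2
  refine ⟨(CliffordAlgebra (Cfsg.Agent.Helper8.StdForms.plusForm K n))ˣ, inferInstance,
    (cliffCAR n K).toOD K, ?_⟩
  intro p q hpq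
  rw [(cliffCAR n K).toOD_zD p q hpq]
  intro e
  have e1 : (-1 : CliffordAlgebra (Cfsg.Agent.Helper8.StdForms.plusForm K n)) = 1 := by
    have := congrArg Units.val e
    simpa using this
  have e2 : (algebraMap K (CliffordAlgebra (Cfsg.Agent.Helper8.StdForms.plusForm K n))) 2 = 0 := by
    rw [map_ofNat]
    calc (2 : CliffordAlgebra (Cfsg.Agent.Helper8.StdForms.plusForm K n)) = 1 + 1 := by norm_num
      _ = 1 + -1 := by rw [e1]
      _ = 0 := by rw [add_neg_cancel]
  exact h2 ((map_eq_zero_iff _ (RingHom.injective _)).mp e2)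

end Cfsg.Agent.CtRecD

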