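import Mathlib
import Cfsg.Agent.CtRecD.SchT
import Cfsg.Agent.CtRecD.OdG

set_option autoImplicit false
set_option linter.unusedSectionVars false
set_option linter.unusedVariables false

/-!
# S2096, work package S5, part 2: central elements lie in `H̃`; the kernel cases for arbitrary elements (helper3)

A central element of a group with an `OD`-system (generated by the root elements, with the Bruhat
decomposition) lies in `W̃` with trivial permutation, hence (work package S4, a hypothesis here) in `H̃`.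
Together with `SchT.lean`: the elements with matrix `1` are `1` and `zD p q`; the central elements with
matrix `-1` (`n` odd) have square `zD p q` and exist iff `-1` is a square.
-/

namespace Cfsg.Agent.CtRecD

open Matrix

variable {n : ℕ} {K : Type*} [Field K] {Γ : Type*} [Group Γ] (S : OD n K Γ)

namespace OD

/-- the `Mon`-property only depends on the conjugation. -/
theorem Mon.of_conj_eq {g g' : Γ} {σ : Equiv.Perm (Idx n)} {a : Idx n → K} (h : S.Mon g σ a)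
    (hc : ∀ x : Γ, MulAut.conj g' x = MulAut.conj g x) : S.Mon g' σ a :=
  ⟨h.1, h.2.1, fun i j hij c => by rw [hc]; exact h.2.2 i j hij c⟩

section phi

variable (φ : Γ →* Matrix (Idx n) (Idx n) K)
  (hφ : ∀ a b, Rt a b → ∀ t, φ (S.x a b t) = oX a b t)

include hφ in
/-- a central element lies in `W̃`. -/
theorem central_mem_Wt (hn : 3 ≤ n)
    (hgen : Subgroup.closure {g | ∃ (a b : Idx n) (t : K), Rt a b ∧ g = S.x a b t} = ⊤)
    (hbruhat : ∀ g : Γ, ∃ u ∈ S.Ut, ∃ w ∈ S.Wt, ∃ u' ∈ S.Ut, g = u * w * u') {c : Γ}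
    (hcen : ∀ g, g * c = c * g) : c ∈ S.Wt := by
  obtain ⟨u, hu, w, hw, u', hu', e⟩ := hbruhat c
  obtain ⟨σ, a, hM⟩ := S.exists_mon_of_mem_Wt hn hw
  have hv : u⁻¹ * u'⁻¹ ∈ S.Ut := mul_mem (inv_mem hu) (inv_mem hu')
  have hc' : ∀ y, c * y * c⁻¹ = y := fun y => by rw [← hcen y, mul_inv_cancel_right]
  have hw' : w = c * (u⁻¹ * u'⁻¹) := by
    have e1 : w = u⁻¹ * c * u'⁻¹ := by rw [e]; group
    rw [e1, hcen u⁻¹, mul_assoc]
  have hMv : S.Mon (u⁻¹ * u'⁻¹) σ a := by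
    refine hM.of_conj_eq S ?_
    intro x
    rw [hw', MulAut.conj_apply, MulAut.conj_apply]
    have e2 : c * (u⁻¹ * u'⁻¹) * x * (c * (u⁻¹ * u'⁻¹))⁻¹ =
        c * ((u⁻¹ * u'⁻¹) * x * (u⁻¹ * u'⁻¹)⁻¹) * c⁻¹ := by group
    rw [e2, hc']
  obtain ⟨_, hv1, _⟩ := S.mon_ker φ hφ hn hgen hMv hv rfl
  have hv1' := S.Ut_inj φ hφ hv hv1
  rw [hv1', mul_one] at hw'
  rw [← hw']
  exact hw

include hφ in
/-- **a central element lies in `H̃`** (given work package S4). -/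
theorem central_mem_Ht (hn : 3 ≤ n)
    (hgen : Subgroup.closure {g | ∃ (a b : Idx n) (t : K), Rt a b ∧ g = S.x a b t} = ⊤)
    (hbruhat : ∀ g : Γ, ∃ u ∈ S.Ut, ∃ w ∈ S.Wt, ∃ u' ∈ S.Ut, g = u * w * u')
    (hS4 : ∀ g : Γ, g ∈ S.Wt → ∃ (σ : Equiv.Perm (Idx n)) (a : Idx n → K),
      S.Mon g σ a ∧ (σ = 1 → g ∈ S.Ht)) {c : Γ}
    (hcen : ∀ g, g * c = c * g) : c ∈ S.Ht := by
  have hcW := S.central_mem_Wt φ hφ hn hgen hbruhat hcen
  obtain ⟨σ, a, hM, hσ⟩ := hS4 c hcW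
  have hc' : ∀ y, c * y * c⁻¹ = y := fun y => by rw [← hcen y, mul_inv_cancel_right]
  have hM1 : S.Mon 1 σ a := by
    refine hM.of_conj_eq S ?_
    intro x
    rw [map_one, MulAut.one_apply, MulAut.conj_apply, hc']
  obtain ⟨_, _, hσ1⟩ := S.mon_ker_of_diag φ hφ hn hgen hM1
    (fun i => by rw [map_one, Matrix.one_apply_eq])
  exact hσ (Equiv.ext hσ1)

variable (hC : ∀ k l : Idx n, Rt k l → ∀ t u : K, t ≠ 0 → u ≠ 0 →
    S.h k l t * S.h k l u = S.h k l (t * u))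
  (hcomm : ∀ a b k l : Idx n, Rt a b → Rt k l → ∀ t u : K, t ≠ 0 → u ≠ 0 →
    S.h a b t * S.h k l u = S.h k l u * S.h a b t)
  (hswap : ∀ k l : Idx n, Rt k l → ∀ t : K, t ≠ 0 → S.h l k t = (S.h k l t)⁻¹)
  (hbar : ∀ k l : Idx n, Rt k l → ∀ t : K, t ≠ 0 → S.h l.swap k.swap t = S.h k l t)
  (hsplit : ∀ k ν l : Idx n, Rt k ν → Rt ν l → Rt k l → ∀ t : K, t ≠ 0 →
    S.h k l t = S.h k ν t * S.h ν l t)
  (hphi : ∀ k l : Idx n, Rt k l → ∀ t : K, t ≠ 0 → φ (S.h k l t) = Matrix.diagonal (hD k l t))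

include hφ hC hcomm hswap hbar hsplit hphi in
/-- **the kernel of the homomorphism to the matrices is `{1, zD p q}`.** -/
theorem ker_cases_of (hn : 3 ≤ n)
    (hgen : Subgroup.closure {g | ∃ (a b : Idx n) (t : K), Rt a b ∧ g = S.x a b t} = ⊤)
    (hbruhat : ∀ g : Γ, ∃ u ∈ S.Ut, ∃ w ∈ S.Wt, ∃ u' ∈ S.Ut, g = u * w * u')
    (hS4 : ∀ g : Γ, g ∈ S.Wt → ∃ (σ : Equiv.Perm (Idx n)) (a : Idx n → K),
      S.Mon g σ a ∧ (σ = 1 → g ∈ S.Ht)) {p q : Fin n} (hpq : p ≠ q) {c : Γ}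
    (hc : φ c = 1) : c = 1 ∨ c = S.zD p q := by
  obtain ⟨_, hcen⟩ := S.ker_central_of φ hφ hn hgen hbruhat hc
  exact S.Ht_ker_cases hC hcomm hswap hbar hsplit φ hphi hpq
    (S.central_mem_Ht φ hφ hn hgen hbruhat hS4 hcen) hc

include hφ hC hcomm hswap hbar hsplit hphi in
/-- **a central element with matrix `-1`, `n` odd: `-1` is a square and the square of the element is
`zD p q`.** -/
theorem neg_cases_of (hn : 3 ≤ n)
    (hgen : Subgroup.closure {g | ∃ (a b : Idx n) (t : K), Rt a b ∧ g = S.x a b t} = ⊤)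
    (hbruhat : ∀ g : Γ, ∃ u ∈ S.Ut, ∃ w ∈ S.Wt, ∃ u' ∈ S.Ut, g = u * w * u')
    (hS4 : ∀ g : Γ, g ∈ S.Wt → ∃ (σ : Equiv.Perm (Idx n)) (a : Idx n → K),
      S.Mon g σ a ∧ (σ = 1 → g ∈ S.Ht)) {p q : Fin n} (hpq : p ≠ q) (hodd : Odd n) {c : Γ}
    (hcen : ∀ g, g * c = c * g) (hc : φ c = -1) :
    (∃ ι : K, ι * ι = -1) ∧ c * c = S.zD p q :=
  S.Ht_neg_cases hC hcomm hswap hbar hsplit φ hphi hpq hodd
    (S.central_mem_Ht φ hφ hn hgen hbruhat hS4 hcen) hc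

end phi

end OD

end Cfsg.Agent.CtRecD
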