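import Mathlib
import Cfsg.Agent.CtRecD.SchTk

set_option autoImplicit false
set_option linter.unusedSectionVars false
set_option linter.unusedVariables false

/-!
# The torus `H̃` of an `OD`-system: kernel of a homomorphism with an abstract diagonal (helper3)

Generalisation of `SchT.lean`: the homomorphism `φ` may take values in any monoid `M`, the matrices of the
`h_kl(t)` being given by an injective homomorphism `D : (Idx n → K) →* M` (for example the diagonal matrices on a
larger index set, as for the long-root subsystem of type `D_m` inside type `B_m`).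
-/

namespace Cfsg.Agent.CtRecD

open Matrix

variable {n : ℕ} {K : Type*} [Field K] {Γ : Type*} [Group Γ] (S : OD n K Γ)

/-- a product of values of a homomorphism from a commutative monoid. -/
theorem s5_noncommProd_hom {ι A M : Type*} [CommMonoid A] [Monoid M] (D : A →* M) (s : Finset ι)
    (f : ι → A) : ∀ comm, s.noncommProd (fun i => D (f i)) comm = D (∏ i ∈ s, f i) := by
  classical
  refine Finset.induction_on s ?_ ?_
  · intro _
    rw [Finset.noncommProd_empty, Finset.prod_empty, map_one]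
  · intro a s ha ih comm
    rw [Finset.noncommProd_insert_of_notMem _ _ _ _ ha, ih, Finset.prod_insert ha, map_mul]

namespace OD

section relC

variable (hC : ∀ k l : Idx n, Rt k l → ∀ t u : K, t ≠ 0 → u ≠ 0 →
    S.h k l t * S.h k l u = S.h k l (t * u))
  (hcomm : ∀ a b k l : Idx n, Rt a b → Rt k l → ∀ t u : K, t ≠ 0 → u ≠ 0 →
    S.h a b t * S.h k l u = S.h k l u * S.h a b t)
  (hswap : ∀ k l : Idx n, Rt k l → ∀ t : K, t ≠ 0 → S.h l k t = (S.h k l t)⁻¹)
  (hbar : ∀ k l : Idx n, Rt k l → ∀ t : K, t ≠ 0 → S.h l.swap k.swap t = S.h k l t)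
  (hsplit : ∀ k ν l : Idx n, Rt k ν → Rt ν l → Rt k l → ∀ t : K, t ≠ 0 →
    S.h k l t = S.h k ν t * S.h ν l t)
  {M : Type*} [Monoid M] (φ : Γ →* M) (D : (Idx n → K) →* M)
  (hphi : ∀ k l : Idx n, Rt k l → ∀ t : K, t ≠ 0 → φ (S.h k l t) = D (hD k l t))

include hphi in
set_option backward.isDefEq.respectTransparency false in
/-- the image of an element of `H̃`. -/
theorem phi_PhiB' {p q : Fin n} (hpq : p ≠ q) (t : Fin n → Kˣ) :
    φ (S.PhiB hC hcomm hpq t) = D (dE p q t) := by
  have e1 : S.PhiB hC hcomm hpq t =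
      Finset.univ.noncommProd (fun i => S.hU hC (bR_rt hpq i) (t i))
        (fun i _ j _ h => S.hU_pairwise hC hcomm hpq h _ _) := rfl
  rw [e1, Finset.map_noncommProd]
  rw [Finset.noncommProd_congr rfl
    (g := fun i => D (hD (bR p q i).1 (bR p q i).2 (t i : K)))
    (fun i _ => by rw [hU_apply]; exact hphi _ _ (bR_rt hpq i) _ (t i).ne_zero)]
  rw [s5_noncommProd_hom]
  congr 1
  funext j
  unfold dE
  rw [Finset.prod_apply]

include hC hcomm hswap hbar hsplit hphi in
/-- **the elements of `H̃` with trivial image are `1` and `zD p q`** (abstract diagonal). -/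
theorem Ht_ker_cases' (hD : Function.Injective D) {p q : Fin n} (hpq : p ≠ q) {g : Γ}
    (hg : g ∈ S.Ht) (h1 : φ g = 1) : g = 1 ∨ g = S.zD p q := by
  obtain ⟨t, rfl⟩ := S.Ht_param hC hcomm hswap hbar hsplit hpq hg
  rw [S.phi_PhiB' hC hcomm φ D hphi hpq, ← map_one D] at h1
  have hd : ∀ j, dE p q t j = 1 := fun j => congrFun (hD h1) j
  have ho : ∀ j, j ≠ p → j ≠ q → t j = 1 := by
    intro j hjp hjq
    have := hd (Sum.inl j)
    rw [dE_other hjp hjq] at this
    exact Units.ext (by rw [this, Units.val_one])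
  have hp := hd (Sum.inl p)
  rw [dE_p hpq] at hp
  have hq := hd (Sum.inl q)
  rw [dE_q hpq] at hq
  have hprod : ∏ i ∈ Finset.univ.erase q, (t i : K)⁻¹ = (t p : K)⁻¹ := by
    rw [Finset.prod_eq_single p]
    · intro i hi hip
      rw [ho i hip (Finset.ne_of_mem_erase hi), Units.val_one, inv_one]
    · intro h
      exact absurd (Finset.mem_erase.mpr ⟨hpq, Finset.mem_univ p⟩) h
  rw [hprod] at hq
  have hqp : (t q : K) = (t p : K) := (mul_inv_eq_one₀ (t p).ne_zero).mp hq
  rw [hqp] at hp
  have ht := s5_eq_two_single hpq t (t p) ho rfl (Units.ext hqp)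
  rw [ht, PhiB_two]
  rcases mul_self_eq_one_iff.mp hp with h | h
  · left
    rw [h, S.h_one (s5_rt_ll hpq), S.h_one (s5_rt_lr hpq), one_mul]
  · right
    rw [h]
    rfl

include hC hcomm hphi in
/-- the image of `zD p q` is trivial (abstract diagonal). -/
theorem phi_zD' {p q : Fin n} (hpq : p ≠ q) : φ (S.zD p q) = 1 := by
  have e : S.zD p q = S.PhiB hC hcomm hpq (Pi.mulSingle p (-1 : Kˣ) * Pi.mulSingle q (-1 : Kˣ)) := by
    rw [PhiB_two, Units.val_neg, Units.val_one]
    rfl
  rw [e, S.phi_PhiB' hC hcomm φ D hphi hpq, ← map_one D]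
  congr 1
  have hqp : q ≠ p := Ne.symm hpq
  have hl : ∀ j : Fin n, dE p q (Pi.mulSingle p (-1 : Kˣ) * Pi.mulSingle q (-1 : Kˣ)) (Sum.inl j) = 1 := by
    intro j
    by_cases hjp : j = p
    · rw [hjp, dE_p hpq, Pi.mul_apply, Pi.mul_apply, Pi.mulSingle_eq_same, Pi.mulSingle_eq_same,
        Pi.mulSingle_eq_of_ne hpq, Pi.mulSingle_eq_of_ne hqp, mul_one, one_mul, Units.val_neg,
        Units.val_one, neg_mul_neg, one_mul]
    · by_cases hjq : j = q
      · rw [hjq, dE_q hpq, Finset.prod_eq_single p]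
        · rw [Pi.mul_apply, Pi.mul_apply, Pi.mulSingle_eq_same, Pi.mulSingle_eq_same,
            Pi.mulSingle_eq_of_ne hpq, Pi.mulSingle_eq_of_ne hqp, mul_one, one_mul, Units.val_neg,
            Units.val_one, inv_neg, inv_one, neg_mul_neg, one_mul]
        · intro i hi hip
          rw [Pi.mul_apply, Pi.mulSingle_eq_of_ne hip, Pi.mulSingle_eq_of_ne (Finset.ne_of_mem_erase hi),
            mul_one, Units.val_one, inv_one]
        · intro h
          exact absurd (Finset.mem_erase.mpr ⟨hpq, Finset.mem_univ p⟩) h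
      · rw [dE_other hjp hjq, Pi.mul_apply, Pi.mulSingle_eq_of_ne hjp, Pi.mulSingle_eq_of_ne hjq,
          mul_one, Units.val_one]
  funext j
  rcases j with j | j
  · exact hl j
  · have e2 := dE_swap hpq (Pi.mulSingle p (-1 : Kˣ) * Pi.mulSingle q (-1 : Kˣ)) (Sum.inl j)
    rw [Sum.swap_inl, hl j, inv_one] at e2
    exact e2

end relC

end OD

end Cfsg.Agent.CtRecD
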