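import Mathlib
import Cfsg.Agent.CtRecD.SchDefs

set_option autoImplicit false
set_option linter.unusedSectionVars false
set_option linter.unusedVariables false

/-!
# S2096, piece S4 (helper1): coset enumeration in a group generated by reflections of type `D`

Abstract part: a group `Q` with elements `r a b` (`Rt a b`) which are involutions, do not depend on the
name of the root (`r b a = r a b = r b̄ ā`) and are permuted by conjugation as the roots of `D_n` are
permuted by the reflections. The chain of subgroups `wdQ r k` (generated by the reflections whose two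
coordinates are at least `k`) has the explicit coset representatives `wdRho`.
-/

namespace Cfsg.Agent.CtRecD

variable {n : ℕ}

/-- the coordinate of an index. -/
def wdC (a : Idx n) : ℕ := Sum.elim (fun i => i.val) (fun i => i.val) a

theorem wdC_inl (i : Fin n) : wdC (Sum.inl i : Idx n) = i.val := rfl

theorem wdC_inr (i : Fin n) : wdC (Sum.inr i : Idx n) = i.val := rfl

theorem wdC_swap (a : Idx n) : wdC a.swap = wdC a := by
  cases a <;> rfl

theorem wdC_lt (a : Idx n) : wdC a < n := by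
  cases a with
  | inl i => exact i.isLt
  | inr i => exact i.isLt

theorem wdC_eq {a b : Idx n} (h : wdC a = wdC b) : a = b ∨ a = b.swap := by
  cases a with
  | inl i =>
    cases b with
    | inl j =>
      left
      rw [wdC_inl, wdC_inl] at h
      rw [Fin.ext h]
    | inr j =>
      right
      rw [wdC_inl, wdC_inr] at h
      rw [Fin.ext h]
      rfl
  | inr i =>
    cases b with
    | inl j =>
      right
      rw [wdC_inr, wdC_inl] at h
      rw [Fin.ext h]
      rfl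
    | inr j =>
      left
      rw [wdC_inr, wdC_inr] at h
      rw [Fin.ext h]

theorem wd_rt_of_ne {a b : Idx n} (h : wdC a ≠ wdC b) : Rt a b :=
  ⟨fun e => h (by rw [e]), fun e => h (by rw [e, wdC_swap])⟩

theorem wd_oth_of_ne {a b i : Idx n} (h1 : wdC i ≠ wdC a) (h2 : wdC i ≠ wdC b) : Oth a b i :=
  ⟨fun e => h1 (by rw [e]), fun e => h2 (by rw [e]), fun e => h1 (by rw [e, wdC_swap]),
    fun e => h2 (by rw [e, wdC_swap])⟩

theorem wdC_sD_ge {a b : Idx n} (hab : Rt a b) {m : ℕ} (ha : m ≤ wdC a) (hb : m ≤ wdC b) {x : Idx n}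
    (hx : m ≤ wdC x) : m ≤ wdC (sD a b x) := by
  by_cases h1 : x = a
  · subst h1
    rw [sD_k hab]
    exact hb
  by_cases h2 : x = b
  · subst h2
    rw [sD_l hab]
    exact ha
  by_cases h3 : x = a.swap
  · subst h3
    rw [sD_kbar hab, wdC_swap]
    exact hb
  by_cases h4 : x = b.swap
  · subst h4
    rw [sD_lbar hab, wdC_swap]
    exact ha
  rw [sD_oth ⟨h1, h2, h3, h4⟩]
  exact hx

section abstract

variable {Q : Type*} [Group Q] (r : Idx n → Idx n → Q)

/-- the subgroup generated by the reflections with both coordinates at least `k`. -/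
def wdQ (k : ℕ) : Subgroup Q :=
  Subgroup.closure {q | ∃ a b : Idx n, Rt a b ∧ k ≤ wdC a ∧ k ≤ wdC b ∧ q = r a b}

theorem wdQ_mem {k : ℕ} {a b : Idx n} (hab : Rt a b) (ha : k ≤ wdC a) (hb : k ≤ wdC b) :
    r a b ∈ wdQ r k :=
  Subgroup.subset_closure ⟨a, b, hab, ha, hb, rfl⟩

theorem wdQ_eq_bot {k : ℕ} (hk : n ≤ k + 1) : wdQ r k = ⊥ := by
  rw [eq_bot_iff]
  unfold wdQ
  rw [Subgroup.closure_le]
  rintro _ ⟨a, b, hab, ha, hb, rfl⟩
  exfalso
  have h1 := wdC_lt a
  have h2 := wdC_lt b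
  have h3 : wdC a = wdC b := by omega
  rcases wdC_eq h3 with e | e
  · exact hab.1 e
  · exact hab.2 e

/-- the relations among the reflections. -/
structure WDRel : Prop where
  sq : ∀ a b, Rt a b → r a b * r a b = 1
  symm : ∀ a b, Rt a b → r b a = r a b
  bar : ∀ a b, Rt a b → r b.swap a.swap = r a b
  conj : ∀ a b c d, Rt a b → Rt c d → r a b * r c d * r a b = r (sD a b c) (sD a b d)

/-- the coset representatives of `wdQ r (k+1)` in `wdQ r k`; `p` and `p'` are indices with the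
coordinates `k` and `k + 1`. -/
def wdRho (p p' x : Idx n) : Q :=
  if x = p then 1 else if x = p.swap then r p p' * r p p'.swap else r p x

theorem wdRho_p (p p' : Idx n) : wdRho r p p' p = 1 := by
  unfold wdRho
  rw [if_pos rfl]

theorem wdRho_pbar (p p' : Idx n) : wdRho r p p' p.swap = r p p' * r p p'.swap := by
  unfold wdRho
  rw [if_neg (ne_swap p).symm, if_pos rfl]

theorem wdRho_of_lt {p p' x : Idx n} (h : wdC p < wdC x) : wdRho r p p' x = r p x := by
  unfold wdRho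
  rw [if_neg, if_neg]
  · intro e
    rw [e, wdC_swap] at h
    exact lt_irrefl _ h
  · intro e
    rw [e] at h
    exact lt_irrefl _ h

variable {r}

theorem WDRel.inv_eq (H : WDRel r) {a b : Idx n} (hab : Rt a b) : (r a b)⁻¹ = r a b :=
  inv_eq_of_mul_eq_one_right (H.sq a b hab)

/-- the double sign changes lie in one coset. -/
theorem WDRel.d_mem (H : WDRel r) {k : ℕ} {p p' : Idx n} (hp : wdC p = k) (hp' : wdC p' = k + 1)
    {y : Idx n} (hy : k + 1 ≤ wdC y) :
    (r p p' * r p p'.swap)⁻¹ * (r p y * r p y.swap) ∈ wdQ r (k + 1) := by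
  have hpp' : Rt p p' := wd_rt_of_ne (by omega)
  have hpp'b : Rt p p'.swap := hpp'.swap_right
  by_cases h1 : y = p'
  · subst h1
    rw [inv_mul_cancel]
    exact one_mem _
  by_cases h2 : y = p'.swap
  · subst h2
    rw [Sum.swap_swap]
    have e1 : r p p' * r p p'.swap * r p p' = r p p'.swap := by
      rw [H.conj p p' p p'.swap hpp' hpp'b, sD_k hpp', sD_lbar hpp']
      have := H.bar p' p.swap hpp'.symm.swap_right
      rw [Sum.swap_swap] at this
      exact this.symm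
    have e2 : (r p p' * r p p'.swap)⁻¹ * (r p p'.swap * r p p') = 1 := by
      rw [mul_inv_rev, H.inv_eq hpp', H.inv_eq hpp'b]
      calc r p p'.swap * r p p' * (r p p'.swap * r p p')
          = r p p'.swap * (r p p' * r p p'.swap * r p p') := by simp only [mul_assoc]
        _ = 1 := by rw [e1, H.sq p p'.swap hpp'b]
    rw [e2]
    exact one_mem _
  -- the general case
  have hyp : wdC y ≠ wdC p := by omega
  have hp'y : Rt p' y := ⟨fun e => h1 e.symm, fun e => h2 (by rw [e, Sum.swap_swap])⟩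
  have hpy : Rt p y := wd_rt_of_ne (by omega)
  have hpyb : Rt p y.swap := hpy.swap_right
  have hp'by : Rt p'.swap y := hp'y.swap_left
  have hpOth : Oth p' y p := wd_oth_of_ne (by omega) (by omega)
  have hyOth : Oth p p' y := ⟨fun e => hyp (by rw [e]), h1, fun e => hyp (by rw [e, wdC_swap]), h2⟩
  have hyOth' : Oth p p'.swap y :=
    ⟨fun e => hyp (by rw [e]), h2, fun e => hyp (by rw [e, wdC_swap]), by rw [Sum.swap_swap]; exact h1⟩
  have hVAV : r p' y * r p p' * r p' y = r p y := by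
    rw [H.conj p' y p p' hp'y hpp', sD_oth hpOth, sD_k hp'y]
  have hVBV : r p' y * r p p'.swap * r p' y = r p y.swap := by
    rw [H.conj p' y p p'.swap hp'y hpp'b, sD_oth hpOth, sD_kbar hp'y]
  have hAVA : r p p' * r p' y * r p p' = r p y := by
    rw [H.conj p p' p' y hpp' hp'y, sD_l hpp', sD_oth hyOth]
  have hBRB : r p p'.swap * r p y * r p p'.swap = r p'.swap y := by
    rw [H.conj p p'.swap p y hpp'b hpy, sD_k hpp'b, sD_oth hyOth']
  have hVV := H.sq p' y hp'y
  have e : (r p p' * r p p'.swap)⁻¹ * (r p y * r p y.swap) = r p'.swap y * r p' y := by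
    calc (r p p' * r p p'.swap)⁻¹ * (r p y * r p y.swap)
        = (r p p' * r p p'.swap)⁻¹ * ((r p' y * r p p' * r p' y) * (r p' y * r p p'.swap * r p' y)) := by
          rw [hVAV, hVBV]
      _ = (r p p'.swap)⁻¹ * (r p p')⁻¹ * r p' y * r p p' * (r p' y * r p' y) * r p p'.swap * r p' y := by
          group
      _ = r p p'.swap * (r p p' * r p' y * r p p') * r p p'.swap * r p' y := by
          rw [hVV, H.inv_eq hpp', H.inv_eq hpp'b]
          group
      _ = r p'.swap y * r p' y := by rw [hAVA, hBRB]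
  rw [e]
  refine mul_mem (wdQ_mem r hp'by ?_ hy) (wdQ_mem r hp'y ?_ hy)
  · rw [wdC_swap]; omega
  · omega

/-- a reflection of level `k` which is not of level `k + 1` is `r p y`. -/
theorem WDRel.normalize (H : WDRel r) {k : ℕ} {p : Idx n} (hp : wdC p = k) {a b : Idx n} (hab : Rt a b)
    (ha : k ≤ wdC a) (hb : k ≤ wdC b) (hnot : ¬ (k + 1 ≤ wdC a ∧ k + 1 ≤ wdC b)) :
    ∃ y : Idx n, k + 1 ≤ wdC y ∧ r a b = r p y := by
  have hne : wdC a ≠ wdC b := by
    intro e
    rcases wdC_eq e with e' | e'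
    · exact hab.1 e'
    · exact hab.2 e'
  by_cases hca : wdC a = k
  · have hcb : k + 1 ≤ wdC b := by omega
    rcases wdC_eq (hca.trans hp.symm) with e | e
    · rw [e]
      exact ⟨b, hcb, rfl⟩
    · rw [e] at hab ⊢
      refine ⟨b.swap, by rw [wdC_swap]; exact hcb, ?_⟩
      have h1 := H.bar p.swap b hab
      rw [Sum.swap_swap] at h1
      rw [← h1]
      exact H.symm p b.swap (wd_rt_of_ne (by rw [wdC_swap]; omega))
  · have hcb : wdC b = k := by omega
    have hca' : k + 1 ≤ wdC a := by omega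
    rcases wdC_eq (hcb.trans hp.symm) with e | e
    · rw [e] at hab ⊢
      exact ⟨a, hca', H.symm p a hab.symm⟩
    · rw [e] at hab ⊢
      refine ⟨a.swap, by rw [wdC_swap]; exact hca', ?_⟩
      have h1 := H.bar a p.swap hab
      rw [Sum.swap_swap] at h1
      exact h1.symm

/-- the Schreier generators lie in the next subgroup of the chain. -/
theorem WDRel.schreier (H : WDRel r) {k : ℕ} {p p' : Idx n} (hp : wdC p = k) (hp' : wdC p' = k + 1)
    {a b : Idx n} (hab : Rt a b) (ha : k ≤ wdC a) (hb : k ≤ wdC b) {x : Idx n} (hx : k ≤ wdC x) :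
    ∃ x' : Idx n, k ≤ wdC x' ∧
      (wdRho r p p' x')⁻¹ * (r a b * wdRho r p p' x) ∈ wdQ r (k + 1) := by
  have hpp' : Rt p p' := wd_rt_of_ne (by omega)
  have hpp'b : Rt p p'.swap := hpp'.swap_right
  have hxcase : x ≠ p → x ≠ p.swap → k + 1 ≤ wdC x := by
    intro hx1 hx2
    by_contra hcon
    have : wdC x = wdC p := by omega
    rcases wdC_eq this with e | e
    · exact hx1 e
    · exact hx2 e
  by_cases hin : k + 1 ≤ wdC a ∧ k + 1 ≤ wdC b
  · obtain ⟨ha', hb'⟩ := hin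
    have hs : r a b ∈ wdQ r (k + 1) := wdQ_mem r hab ha' hb'
    have hpOth : Oth a b p := wd_oth_of_ne (by omega) (by omega)
    by_cases hx1 : x = p
    · refine ⟨p, by omega, ?_⟩
      rw [hx1, wdRho_p, inv_one, one_mul, mul_one]
      exact hs
    by_cases hx2 : x = p.swap
    · refine ⟨p.swap, by rw [wdC_swap]; omega, ?_⟩
      rw [hx2, wdRho_pbar]
      have hyc : k + 1 ≤ wdC (sD a b p') := wdC_sD_ge hab ha' hb' (by omega)
      have e1 : r a b * r p p' * (r a b)⁻¹ = r p (sD a b p') := by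
        rw [H.inv_eq hab, H.conj a b p p' hab hpp', sD_oth hpOth]
      have e2 : r a b * r p p'.swap * (r a b)⁻¹ = r p (sD a b p').swap := by
        rw [H.inv_eq hab, H.conj a b p p'.swap hab hpp'b, sD_oth hpOth, sD_swap]
      have e3 : (r p p' * r p p'.swap)⁻¹ * (r a b * (r p p' * r p p'.swap)) =
          ((r p p' * r p p'.swap)⁻¹ * (r p (sD a b p') * r p (sD a b p').swap)) * r a b := by
        rw [← e1, ← e2]
        group
      rw [e3]
      exact mul_mem (H.d_mem hp hp' hyc) hs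
    · have hxc := hxcase hx1 hx2
      have hx'c := wdC_sD_ge hab ha' hb' hxc
      refine ⟨sD a b x, by omega, ?_⟩
      rw [wdRho_of_lt r (by omega), wdRho_of_lt r (by omega)]
      have hpx : Rt p x := wd_rt_of_ne (by omega)
      have e1 : r a b * r p x * (r a b)⁻¹ = r p (sD a b x) := by
        rw [H.inv_eq hab, H.conj a b p x hab hpx, sD_oth hpOth]
      have e3 : (r p (sD a b x))⁻¹ * (r a b * r p x) = r a b := by
        rw [← e1]
        group
      rw [e3]
      exact hs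
  · obtain ⟨y, hyc, hy⟩ := H.normalize hp hab ha hb hin
    rw [hy]
    have hpy : Rt p y := wd_rt_of_ne (by omega)
    have hpyb : Rt p y.swap := hpy.swap_right
    by_cases hx1 : x = p
    · refine ⟨y, by omega, ?_⟩
      rw [hx1, wdRho_p, mul_one, wdRho_of_lt r (by omega), inv_mul_cancel]
      exact one_mem _
    by_cases hx2 : x = p.swap
    · refine ⟨y.swap, by rw [wdC_swap]; omega, ?_⟩
      rw [hx2, wdRho_pbar, wdRho_of_lt r (by rw [wdC_swap]; omega)]
      have hYi := H.inv_eq hpy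
      have e : (r p y.swap)⁻¹ * (r p y * (r p p' * r p p'.swap)) =
          ((r p p' * r p p'.swap)⁻¹ * (r p y * r p y.swap))⁻¹ := by
        calc (r p y.swap)⁻¹ * (r p y * (r p p' * r p p'.swap))
            = (r p y.swap)⁻¹ * ((r p y)⁻¹ * (r p p' * r p p'.swap)) := by rw [hYi]
          _ = _ := by group
      rw [e]
      exact inv_mem (H.d_mem hp hp' hyc)
    by_cases hx3 : x = y
    · refine ⟨p, by omega, ?_⟩
      rw [hx3, wdRho_p, wdRho_of_lt r (by omega), inv_one, one_mul, H.sq p y hpy]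
      exact one_mem _
    by_cases hx4 : x = y.swap
    · refine ⟨p.swap, by rw [wdC_swap]; omega, ?_⟩
      rw [hx4, wdRho_pbar, wdRho_of_lt r (by rw [wdC_swap]; omega)]
      exact H.d_mem hp hp' hyc
    · have hxc := hxcase hx1 hx2
      refine ⟨x, hx, ?_⟩
      rw [wdRho_of_lt r (by omega)]
      have hpx : Rt p x := wd_rt_of_ne (by omega)
      have hxy : Rt x y := ⟨hx3, hx4⟩
      have hyp : wdC y ≠ wdC p := by omega
      have hyOth : Oth p x y :=
        ⟨fun e => hyp (by rw [e]), fun e => hx3 e.symm, fun e => hyp (by rw [e, wdC_swap]),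
          fun e => hx4 (by rw [e, Sum.swap_swap])⟩
      have e : (r p x)⁻¹ * (r p y * r p x) = r x y := by
        rw [H.inv_eq hpx, ← mul_assoc, H.conj p x p y hpx hpy, sD_k hpx, sD_oth hyOth]
      rw [e]
      exact wdQ_mem r hxy hxc hyc

/-- **the coset representatives.** -/
theorem WDRel.step (H : WDRel r) {k : ℕ} {p p' : Idx n} (hp : wdC p = k) (hp' : wdC p' = k + 1) {q : Q}
    (hq : q ∈ wdQ r k) : ∃ x : Idx n, k ≤ wdC x ∧ (wdRho r p p' x)⁻¹ * q ∈ wdQ r (k + 1) := by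
  unfold wdQ at hq
  induction hq using Subgroup.closure_induction_left with
  | one =>
    refine ⟨p, by omega, ?_⟩
    rw [wdRho_p, inv_one, one_mul]
    exact one_mem _
  | mul_left s hs y hy ih =>
    obtain ⟨a, b, hab, ha, hb, rfl⟩ := hs
    obtain ⟨x, hx, hxm⟩ := ih
    obtain ⟨x', hx', hm⟩ := H.schreier hp hp' hab ha hb hx
    refine ⟨x', hx', ?_⟩
    have e : (wdRho r p p' x')⁻¹ * (r a b * y) =
        ((wdRho r p p' x')⁻¹ * (r a b * wdRho r p p' x)) * ((wdRho r p p' x)⁻¹ * y) := by group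
    rw [e]
    exact mul_mem hm hxm
  | inv_mul_cancel s hs y hy ih =>
    obtain ⟨a, b, hab, ha, hb, rfl⟩ := hs
    obtain ⟨x, hx, hxm⟩ := ih
    obtain ⟨x', hx', hm⟩ := H.schreier hp hp' hab ha hb hx
    refine ⟨x', hx', ?_⟩
    have e : (wdRho r p p' x')⁻¹ * ((r a b)⁻¹ * y) =
        ((wdRho r p p' x')⁻¹ * (r a b * wdRho r p p' x)) * ((wdRho r p p' x)⁻¹ * y) := by
      rw [H.inv_eq hab]
      group
    rw [e]
    exact mul_mem hm hxm

end abstract

section concrete

variable {K : Type*} [Field K] {Γ : Type*} [Group Γ] (S : OD n K Γ)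

namespace OD

/-- the subgroup of `W̃` corresponding to `H̃`. -/
def wdHtW : Subgroup S.Wt := S.Ht.subgroupOf S.Wt

theorem wdHtW_normal (hconj : ∀ g ∈ S.Wt, ∀ h ∈ S.Ht, g * h * g⁻¹ ∈ S.Ht) : (S.wdHtW).Normal := by
  constructor
  intro h hh g
  unfold wdHtW at hh ⊢
  rw [Subgroup.mem_subgroupOf] at hh ⊢
  have := hconj g.1 g.2 h.1 hh
  simpa using this

variable [hN : (S.wdHtW).Normal]

open Classical in
/-- the class of an element of `W̃` modulo `H̃` (and `1` outside `W̃`). -/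
noncomputable def wdMk (g : Γ) : S.Wt ⧸ S.wdHtW :=
  if h : g ∈ S.Wt then QuotientGroup.mk ⟨g, h⟩ else 1

theorem wdMk_of_mem {g : Γ} (hg : g ∈ S.Wt) :
    S.wdMk g = (QuotientGroup.mk (⟨g, hg⟩ : S.Wt) : S.Wt ⧸ S.wdHtW) := by
  unfold wdMk
  rw [dif_pos hg]

theorem wdMk_one : S.wdMk 1 = 1 := by
  rw [S.wdMk_of_mem (one_mem _)]
  rfl

theorem wdMk_mul {g g' : Γ} (hg : g ∈ S.Wt) (hg' : g' ∈ S.Wt) :
    S.wdMk (g * g') = S.wdMk g * S.wdMk g' := by
  rw [S.wdMk_of_mem hg, S.wdMk_of_mem hg', S.wdMk_of_mem (mul_mem hg hg'), ← QuotientGroup.mk_mul]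
  rfl

theorem wdMk_inv {g : Γ} (hg : g ∈ S.Wt) : S.wdMk g⁻¹ = (S.wdMk g)⁻¹ := by
  rw [S.wdMk_of_mem hg, S.wdMk_of_mem (inv_mem hg), ← QuotientGroup.mk_inv]
  rfl

theorem wdMk_eq_one_iff {g : Γ} (hg : g ∈ S.Wt) : S.wdMk g = 1 ↔ g ∈ S.Ht := by
  rw [S.wdMk_of_mem hg, QuotientGroup.eq_one_iff]
  unfold wdHtW
  rw [Subgroup.mem_subgroupOf]

/-- the classes of the reflections. -/
noncomputable def wdR (a b : Idx n) : S.Wt ⧸ S.wdHtW := S.wdMk (S.w a b 1)

theorem wdMk_w {a b : Idx n} (hab : Rt a b) {u : K} (hu : u ≠ 0) : S.wdMk (S.w a b u) = S.wdR a b := by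
  unfold wdR
  rw [S.w_eq_h_mul hab u, S.wdMk_mul (S.Ht_le_Wt (S.h_mem_Ht hab hu)) (S.w_mem_Wt hab one_ne_zero),
    (S.wdMk_eq_one_iff (S.Ht_le_Wt (S.h_mem_Ht hab hu))).mpr (S.h_mem_Ht hab hu), one_mul]

theorem wdR_sq {a b : Idx n} (hab : Rt a b) : S.wdR a b * S.wdR a b = 1 := by
  have hw := S.w_mem_Wt hab (one_ne_zero (α := K))
  have hh := S.h_mem_Ht hab (neg_ne_zero.mpr (one_ne_zero (α := K)))
  unfold wdR
  rw [← S.wdMk_mul hw hw]
  have e : S.w a b 1 * S.w a b 1 = (S.h a b (-1))⁻¹ := by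
    unfold OD.h
    rw [mul_inv_rev, S.w_inv hab, neg_neg]
  rw [e, S.wdMk_eq_one_iff (inv_mem (S.Ht_le_Wt hh))]
  exact inv_mem hh

theorem wdR_rel (hn : 3 ≤ n) : WDRel S.wdR := by
  refine ⟨fun a b hab => S.wdR_sq hab, ?_, ?_, ?_⟩
  · intro a b hab
    have e := S.w_swap hn hab (one_ne_zero (α := K))
    change S.wdMk (S.w b a 1) = S.wdR a b
    rw [e]
    exact S.wdMk_w hab (neg_ne_zero.mpr (inv_ne_zero one_ne_zero))
  · intro a b hab
    have e := S.w_bar hab (-1 : K)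
    rw [neg_neg] at e
    change S.wdMk (S.w b.swap a.swap 1) = S.wdR a b
    rw [← e]
    exact S.wdMk_w hab (neg_ne_zero.mpr one_ne_zero)
  · intro a b c d hab hcd
    have hw := S.w_mem_Wt hab (one_ne_zero (α := K))
    have hw' := S.w_mem_Wt hcd (one_ne_zero (α := K))
    have e := (S.mon_w hn hab (one_ne_zero (α := K))).conj_w S hcd (one_ne_zero (α := K))
    rw [MulAut.conj_apply] at e
    have hrt : Rt (sD a b c) (sD a b d) := Rt_sD hcd
    have hne : cD a b (1 : K) c * (cD a b (1 : K) d)⁻¹ * 1 ≠ 0 :=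
      mul_ne_zero (mul_ne_zero (cD_ne_zero a b one_ne_zero c)
        (inv_ne_zero (cD_ne_zero a b one_ne_zero d))) one_ne_zero
    have e2 := S.wdMk_w hrt hne
    rw [← e, S.wdMk_mul (mul_mem hw hw') (inv_mem hw), S.wdMk_mul hw hw', S.wdMk_inv hw] at e2
    have hi : (S.wdMk (S.w a b 1))⁻¹ = S.wdMk (S.w a b 1) :=
      inv_eq_of_mul_eq_one_right (S.wdR_sq hab)
    rw [hi] at e2
    exact e2

theorem wdMk_mem_wdQ_zero {g : Γ} (hg : g ∈ S.Wt) : S.wdMk g ∈ wdQ S.wdR 0 := by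
  have key : g ∈ S.Wt ∧ S.wdMk g ∈ wdQ S.wdR 0 := by
    unfold Wt at hg
    induction hg using Subgroup.closure_induction with
    | mem g hg =>
      obtain ⟨k, l, u, hkl, hu, rfl⟩ := hg
      refine ⟨S.w_mem_Wt hkl hu, ?_⟩
      rw [S.wdMk_w hkl hu]
      exact wdQ_mem _ hkl (Nat.zero_le _) (Nat.zero_le _)
    | one =>
      refine ⟨one_mem _, ?_⟩
      rw [S.wdMk_one]
      exact one_mem _
    | mul a b _ _ iha ihb =>
      refine ⟨mul_mem iha.1 ihb.1, ?_⟩
      rw [S.wdMk_mul iha.1 ihb.1]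
      exact mul_mem iha.2 ihb.2
    | inv a _ ih =>
      refine ⟨inv_mem ih.1, ?_⟩
      rw [S.wdMk_inv ih.1]
      exact inv_mem ih.2
  exact key.2

/-- lifts of the coset representatives. -/
theorem wd_lift (hn : 3 ≤ n) {k : ℕ} (hk : k + 1 < n) {x : Idx n} (hx : k ≤ wdC x) :
    ∃ (g : Γ) (τ : Equiv.Perm (Idx n)) (b : Idx n → K), g ∈ S.Wt ∧
      S.wdMk g = wdRho S.wdR (Sum.inl ⟨k, by omega⟩) (Sum.inl ⟨k + 1, hk⟩) x ∧ S.Mon g τ b ∧
      (∀ i : Fin n, i.val < k → τ (Sum.inl i) = Sum.inl i) ∧ τ (Sum.inl ⟨k, by omega⟩) = x ∧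
      (x = Sum.inl ⟨k, by omega⟩ → g = 1 ∧ τ = 1) := by
  have hkn : k < n := by omega
  set p : Idx n := Sum.inl ⟨k, hkn⟩ with hpdef
  set p' : Idx n := Sum.inl ⟨k + 1, hk⟩ with hp'def
  have hp : wdC p = k := rfl
  have hp' : wdC p' = k + 1 := rfl
  by_cases h1 : x = p
  · refine ⟨1, 1, fun _ => 1, one_mem _, ?_, S.mon_one, fun i _ => rfl, ?_, fun _ => ⟨rfl, rfl⟩⟩
    · rw [h1, wdRho_p, S.wdMk_one]
    · rw [h1]
      rfl
  by_cases h2 : x = p.swap
  · have hpp' : Rt p p' := wd_rt_of_ne (by omega)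
    have hpp'b : Rt p p'.swap := hpp'.swap_right
    have hw1 := S.w_mem_Wt hpp' (one_ne_zero (α := K))
    have hw2 := S.w_mem_Wt hpp'b (one_ne_zero (α := K))
    refine ⟨S.w p p' 1 * S.w p p'.swap 1, sD p p' * sD p p'.swap, _, mul_mem hw1 hw2, ?_,
      (S.mon_w hn hpp' one_ne_zero).mul S (S.mon_w hn hpp'b one_ne_zero), ?_, ?_, fun e => absurd e h1⟩
    · rw [h2, wdRho_pbar, S.wdMk_mul hw1 hw2]
      rfl
    · intro i hi
      have hc : wdC (Sum.inl i : Idx n) = i.val := rfl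
      have hO1 : Oth p p' (Sum.inl i) := wd_oth_of_ne (by omega) (by omega)
      have hO2 : Oth p p'.swap (Sum.inl i) := wd_oth_of_ne (by omega) (by rw [wdC_swap]; omega)
      rw [Equiv.Perm.mul_apply, sD_oth hO2, sD_oth hO1]
    · rw [Equiv.Perm.mul_apply, sD_k hpp'b, sD_lbar hpp', h2]
  · have hxc : k + 1 ≤ wdC x := by
      by_contra hcon
      have : wdC x = wdC p := by omega
      rcases wdC_eq this with e | e
      · exact h1 e
      · exact h2 e
    have hpx : Rt p x := wd_rt_of_ne (by omega)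
    refine ⟨S.w p x 1, sD p x, _, S.w_mem_Wt hpx one_ne_zero, ?_, S.mon_w hn hpx one_ne_zero, ?_,
      sD_k hpx, fun e => absurd e h1⟩
    · rw [wdRho_of_lt _ (by omega)]
      rfl
    · intro i hi
      have hc : wdC (Sum.inl i : Idx n) = i.val := rfl
      exact sD_oth (wd_oth_of_ne (by omega) (by omega))

theorem wd_main (hn : 3 ≤ n) (hmonH : ∀ g ∈ S.Ht, ∃ a : Idx n → K, S.Mon g 1 a) :
    ∀ (j k : ℕ), k + j + 1 = n → ∀ (g : Γ) (hg : g ∈ S.Wt), S.wdMk g ∈ wdQ S.wdR k →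
      ∃ (σ : Equiv.Perm (Idx n)) (a : Idx n → K), S.Mon g σ a ∧
        (∀ i : Fin n, i.val < k → σ (Sum.inl i) = Sum.inl i) ∧ (σ = 1 → g ∈ S.Ht) := by
  intro j
  induction j with
  | zero =>
    intro k hk g hg hq
    rw [wdQ_eq_bot _ (by omega), Subgroup.mem_bot, S.wdMk_eq_one_iff hg] at hq
    obtain ⟨a, ha⟩ := hmonH g hq
    exact ⟨1, a, ha, fun _ _ => rfl, fun _ => hq⟩
  | succ j ih =>
    intro k hk g hg hq
    have hk1 : k + 1 < n := by omega
    have hkn : k < n := by omega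
    obtain ⟨x, hx, hm⟩ := (S.wdR_rel hn).step (p := Sum.inl ⟨k, hkn⟩) (p' := Sum.inl ⟨k + 1, hk1⟩)
      rfl rfl hq
    obtain ⟨nx, τ, b, hnx, hmk, hMon, hfix, hτp, hone⟩ := S.wd_lift hn hk1 hx
    have hg' : nx⁻¹ * g ∈ S.Wt := mul_mem (inv_mem hnx) hg
    have hq' : S.wdMk (nx⁻¹ * g) ∈ wdQ S.wdR (k + 1) := by
      rw [S.wdMk_mul (inv_mem hnx) hg, S.wdMk_inv hnx, hmk]
      exact hm
    obtain ⟨σ', a', hM', hfix', hone'⟩ := ih (k + 1) (by omega) _ hg' hq'
    have hM := hMon.mul S hM'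
    rw [mul_inv_cancel_left] at hM
    refine ⟨τ * σ', _, hM, ?_, ?_⟩
    · intro i hi
      rw [Equiv.Perm.mul_apply, hfix' i (by omega), hfix i hi]
    · intro hσ
      have h1 : (τ * σ') (Sum.inl ⟨k, hkn⟩) = Sum.inl ⟨k, hkn⟩ := by
        rw [hσ]
        rfl
      rw [Equiv.Perm.mul_apply, hfix' ⟨k, hkn⟩ (Nat.lt_succ_self k), hτp] at h1
      obtain ⟨e1, e2⟩ := hone h1
      rw [e2, one_mul] at hσ
      have := hone' hσ
      rw [e1, inv_one, one_mul] at this
      exact this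

end OD

/-- **S4, with the two facts on `H̃` as hypotheses**: an element of `W̃` acts monomially, and lies in `H̃`
if its permutation is trivial. -/
theorem OD.mem_Ht_of_perm_one_of (hn : 3 ≤ n)
    (hconj : ∀ g ∈ S.Wt, ∀ h ∈ S.Ht, g * h * g⁻¹ ∈ S.Ht)
    (hmonH : ∀ g ∈ S.Ht, ∃ a : Idx n → K, S.Mon g 1 a) {g : Γ} (hg : g ∈ S.Wt) :
    ∃ (σ : Equiv.Perm (Idx n)) (a : Idx n → K), S.Mon g σ a ∧ (σ = 1 → g ∈ S.Ht) := by
  have := S.wdHtW_normal hconj
  obtain ⟨σ, a, hM, _, h1⟩ := S.wd_main hn hmonH (n - 1) 0 (by omega) g hg (S.wdMk_mem_wdQ_zero hg)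
  exact ⟨σ, a, hM, h1⟩

end concrete

end Cfsg.Agent.CtRecD
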