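import Mathlib
import Cfsg.Agent.CtRecD.LamL4a

/-!
# S3352, WP-D, piece L4 (helper1): superseded

The definition `odx` and its value lemmas live in `Cfsg/Agent/CtRecD/LamL4a.lean` (helper2); this file only re-exports it,
so that the name `Cfsg.Agent.CtRecD.odx` has a single definition on main.
-/
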