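import Mathlib
import Cfsg.Agent.CtRecD.OdG
import Cfsg.Agent.CtRecD.OdE

set_option autoImplicit false
set_option linter.unusedSectionVars false
set_option linter.unusedVariables false

/-!
# Elements with a scalar matrix are central monomial elements with trivial permutation, type `D` (helper5)

Generalisation of `OdG.lean` (`ker_central_of`) from the matrix `1` to the scalar matrices `d • 1`, with the
Bruhat decomposition of `OdE.lean` plugged in.
-/

namespace Cfsg.Agent.CtRecD

open Matrix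

variable {n : ℕ} {K : Type*} [Field K] {Γ : Type*} [Group Γ] (S : OD n K Γ)

namespace OD

section phi

variable (φ : Γ →* Matrix (Idx n) (Idx n) K)
  (hφ : ∀ a b, Rt a b → ∀ t, φ (S.x a b t) = oX a b t)

include hφ in
/-- a monomial element whose matrix has constant nonzero diagonal `d` is central, has matrix `d • 1` and
trivial permutation. -/
theorem mon_scalar_of_diag (hn : 3 ≤ n)
    (hgen : Subgroup.closure {g | ∃ (a b : Idx n) (t : K), Rt a b ∧ g = S.x a b t} = ⊤) {w : Γ}
    {σ : Equiv.Perm (Idx n)} {a : Idx n → K} (hM : S.Mon w σ a) {d : K} (hd : d ≠ 0)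
    (hb1 : ∀ i : Idx n, φ w i i = d) :
    (∀ g, g * w = w * g) ∧ φ w = d • (1 : Matrix (Idx n) (Idx n) K) ∧ ∀ i, σ i = i := by
  have hrel : ∀ i j, Rt i j → φ w * oX i j 1 = oX (σ i) (σ j) (a i * (a j)⁻¹ * 1) * φ w := by
    intro i j hij
    have e := hM.mul_x S hij 1
    have e2 := congrArg φ e
    rw [map_mul, map_mul, hφ i j hij, hφ _ _ (hM.rt S hij)] at e2
    exact e2
  have hent : ∀ i j, Rt i j → d = (if i = σ i then a i * (a j)⁻¹ * 1 * φ w (σ j) j else 0) -
      (if i = (σ j).swap then a i * (a j)⁻¹ * 1 * φ w (σ i).swap j else 0) := by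
    intro i j hij
    have e := congrFun (congrFun (hrel i j hij) i) j
    rw [mul_oX_apply, oX_mul_apply, if_pos rfl, hb1 i, mul_one,
      if_neg (fun e' : j = i.swap => hij.2 (by rw [e', Sum.swap_swap])), sub_zero] at e
    linear_combination e
  have hσ : ∀ i, σ i = i := by
    intro i
    by_contra hne
    obtain ⟨m, hm1, _, hm3, _⟩ := exists_oth hn i i
    have him : Rt i m := ⟨hm1.symm, fun e => hm3 (by rw [e, Sum.swap_swap])⟩
    have key : ∀ j, Rt i j → σ j = i.swap := by
      intro j hij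
      have e := hent i j hij
      rw [if_neg (fun h => hne h.symm), zero_sub] at e
      by_contra hj
      rw [if_neg (fun h : i = (σ j).swap => hj (by rw [h, Sum.swap_swap])), neg_zero] at e
      exact hd e
    have e1 := key m him
    have e2 := key m.swap him.swap_right
    exact ne_swap m (σ.injective (e1.trans e2.symm))
  have hcoef : ∀ i j, Rt i j → a i * (a j)⁻¹ = 1 := by
    intro i j hij
    have e := hent i j hij
    rw [hσ i, hσ j, if_pos rfl, hb1 j, if_neg hij.2, sub_zero, mul_one] at e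
    have e3 : (a i * (a j)⁻¹ - 1) * d = 0 := by linear_combination -e
    rcases mul_eq_zero.mp e3 with h | h
    · linear_combination h
    · exact absurd h hd
  have hcen := hM.central S hgen hσ hcoef
  refine ⟨hcen, ?_, hσ⟩
  ext r i
  rw [Matrix.smul_apply, smul_eq_mul]
  by_cases hri : r = i
  · rw [hri, hb1 i, Matrix.one_apply_eq, mul_one]
  · rw [Matrix.one_apply_ne hri, mul_zero]
    obtain ⟨j, hj1, hj2, hj3, hj4⟩ := exists_oth hn i r
    have hij : Rt i j := ⟨hj1.symm, fun e => hj3 (by rw [e, Sum.swap_swap])⟩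
    have e := congrFun (congrFun (hrel i j hij) r) j
    rw [mul_oX_apply, oX_mul_apply, if_pos rfl, hσ i, hσ j, if_neg hri,
      if_neg (fun e' : j = i.swap => hj3 e'),
      if_neg (fun e' : r = j.swap => hj4 (by rw [e', Sum.swap_swap])), sub_zero, add_zero,
      sub_zero, mul_one] at e
    linear_combination e

include hφ in
/-- **an element with a scalar matrix `d • 1` lies in `W̃`, is central, and is monomial with trivial
permutation.** -/
theorem scalar_mem_Wt (hn : 3 ≤ n)
    (hgen : Subgroup.closure {g | ∃ (a b : Idx n) (t : K), Rt a b ∧ g = S.x a b t} = ⊤) {c : Γ}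
    {d : K} (hd : d ≠ 0) (hc : φ c = d • (1 : Matrix (Idx n) (Idx n) K)) :
    c ∈ S.Wt ∧ (∀ g, g * c = c * g) ∧ ∃ a : Idx n → K, S.Mon c 1 a := by
  obtain ⟨u, hu, wn, hwn, u', hu', rfl⟩ := S.bruhat hn hgen c
  obtain ⟨σ, a, hM⟩ := S.exists_mon_of_mem_Wt hn hwn
  have hv : u⁻¹ * u'⁻¹ ∈ S.Ut := mul_mem (inv_mem hu) (inv_mem hu')
  have hw : φ wn = d • φ (u⁻¹ * u'⁻¹) := by
    have e : wn = u⁻¹ * (u * wn * u') * u'⁻¹ := by group
    have e2 : φ wn = φ u⁻¹ * φ (u * wn * u') * φ u'⁻¹ := by
      rw [← map_mul, ← map_mul, ← e]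
    rw [e2, hc, Matrix.mul_smul, mul_one, Matrix.smul_mul, ← map_mul]
  obtain ⟨hb1, _⟩ := S.Ut_shape φ hφ hv
  have hdiag : ∀ i : Idx n, φ wn i i = d := by
    intro i
    rw [hw, Matrix.smul_apply, hb1 i, smul_eq_mul, mul_one]
  obtain ⟨hcen, hw1, hσ⟩ := S.mon_scalar_of_diag φ hφ hn hgen hM hd hdiag
  have e1 : u * wn * u' = wn * (u * u') := by
    rw [hcen u, mul_assoc]
  have e2 : φ (u * u') = 1 := by
    rw [e1, map_mul, hw1, Matrix.smul_mul, one_mul] at hc
    have e3 : d • (φ (u * u') - 1) = 0 := by rw [smul_sub, hc, sub_self]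
    rcases smul_eq_zero.mp e3 with h | h
    · exact absurd h hd
    · exact sub_eq_zero.mp h
  have e3 := S.Ut_inj φ hφ (mul_mem hu hu') e2
  rw [e1, e3, mul_one]
  refine ⟨hwn, hcen, a, hM.congr S (Equiv.ext hσ) (fun _ => rfl)⟩

end phi

end OD

end Cfsg.Agent.CtRecD
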