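import Mathlib
import Cfsg.Agent.CtRecD.SchSt

set_option autoImplicit false
set_option linter.unusedSectionVars false
set_option linter.unusedVariables false

/-!
# The centre of `Ω⁺_{2n}(K)` and the homomorphism `St(D_n, K) → PΩ⁺_{2n}(K)` (helper5; S2096 swarm, S7 sub-piece)
-/

namespace Cfsg.Agent.CtRecD

open Matrix

/-- the homomorphism `g ↦ [c, g]` for an element `c` all of whose commutators are central. -/
noncomputable def commCenterHom {Δ : Type*} [Group Δ] (c : Δ)
    (hk : ∀ g : Δ, c * g * c⁻¹ * g⁻¹ ∈ Subgroup.center Δ) : Δ →* Subgroup.center Δ where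
  toFun g := ⟨c * g * c⁻¹ * g⁻¹, hk g⟩
  map_one' := by
    apply Subtype.ext
    show c * 1 * c⁻¹ * 1⁻¹ = 1
    group
  map_mul' g h := by
    apply Subtype.ext
    show c * (g * h) * c⁻¹ * (g * h)⁻¹ = c * g * c⁻¹ * g⁻¹ * (c * h * c⁻¹ * h⁻¹)
    have e1 : g⁻¹ * (c * h * c⁻¹ * h⁻¹) = (c * h * c⁻¹ * h⁻¹) * g⁻¹ :=
      Subgroup.mem_center_iff.mp (hk h) g⁻¹
    calc c * (g * h) * c⁻¹ * (g * h)⁻¹ = c * g * c⁻¹ * ((c * h * c⁻¹ * h⁻¹) * g⁻¹) := by group
      _ = c * g * c⁻¹ * (g⁻¹ * (c * h * c⁻¹ * h⁻¹)) := by rw [e1]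
      _ = c * g * c⁻¹ * g⁻¹ * (c * h * c⁻¹ * h⁻¹) := by group

theorem commCenterHom_apply {Δ : Type*} [Group Δ] (c : Δ)
    (hk : ∀ g : Δ, c * g * c⁻¹ * g⁻¹ ∈ Subgroup.center Δ) (g : Δ) :
    ((commCenterHom c hk g : Subgroup.center Δ) : Δ) = c * g * c⁻¹ * g⁻¹ := rfl

/-- in a perfect group, the preimage of the centre under a homomorphism with central kernel is central. -/
theorem comap_center_le_center_of_perfect {Δ Γ : Type*} [Group Δ] [Group Γ] (f : Δ →* Γ)
    (hfc : f.ker ≤ Subgroup.center Δ) (hperf : commutator Δ = ⊤) :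
    (Subgroup.center Γ).comap f ≤ Subgroup.center Δ := by
  intro c hc
  rw [Subgroup.mem_comap, Subgroup.mem_center_iff] at hc
  have hk : ∀ g : Δ, c * g * c⁻¹ * g⁻¹ ∈ Subgroup.center Δ := by
    intro g
    apply hfc
    rw [MonoidHom.mem_ker, map_mul, map_mul, map_mul, map_inv, map_inv, ← hc (f g),
      mul_inv_cancel_right, mul_inv_cancel]
  have hker : commutator Δ ≤ (commCenterHom c hk).ker := by
    rw [commutator_def, Subgroup.commutator_le]
    intro a _ b _
    have hcomm : ∀ x y : Subgroup.center Δ, x * y = y * x := fun x y =>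
      Subtype.ext (Subgroup.mem_center_iff.mp y.2 x.1)
    rw [MonoidHom.mem_ker, map_commutatorElement, commutatorElement_def,
      hcomm _ ((commCenterHom c hk) b), mul_inv_cancel_right, mul_inv_cancel]
  rw [hperf] at hker
  rw [Subgroup.mem_center_iff]
  intro g
  have h1 : commCenterHom c hk g = 1 := MonoidHom.mem_ker.mp (hker (Subgroup.mem_top g))
  have h2 : c * g * c⁻¹ * g⁻¹ = 1 := by
    rw [← commCenterHom_apply c hk g, h1]
    rfl
  calc g * c = (c * g * c⁻¹ * g⁻¹)⁻¹ * (c * g) := by group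
    _ = c * g := by rw [h2, inv_one, one_mul]

variable {n : ℕ} {K : Type*} [Field K]

/-- a matrix commuting with the root matrices is a scalar matrix. -/
theorem oX_comm_scalar (hn : 3 ≤ n) (M : Matrix (Idx n) (Idx n) K)
    (h : ∀ a b, Rt a b → M * oX a b 1 = oX a b 1 * M) : ∃ c : K, M = c • (1 : Matrix (Idx n) (Idx n) K) := by
  have hent : ∀ i j, Rt i j → ∀ r, M r i = (if r = i then M j j else 0) -
      (if r = j.swap then M i.swap j else 0) := by
    intro i j hij r
    have e := congrFun (congrFun (h i j hij) r) j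
    rw [mul_oX_apply, oX_mul_apply, if_pos rfl,
      if_neg (fun e' : j = i.swap => hij.2 (by rw [e', Sum.swap_swap])), sub_zero, mul_one, one_mul,
      one_mul] at e
    linear_combination e
  have hoff : ∀ r i, r ≠ i → M r i = 0 := by
    intro r i hri
    obtain ⟨j, hj1, hj2, hj3, hj4⟩ := OD.exists_oth hn i r
    have hij : Rt i j := ⟨hj1.symm, fun e => hj3 (by rw [e, Sum.swap_swap])⟩
    rw [hent i j hij r, if_neg hri, if_neg (fun e' : r = j.swap => hj4 (by rw [e', Sum.swap_swap])),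
      sub_zero]
  have hdiag : ∀ i j, Rt i j → M i i = M j j := by
    intro i j hij
    rw [hent i j hij i, if_pos rfl, if_neg hij.2, sub_zero]
  have hall : ∀ i j, M i i = M j j := by
    intro i j
    by_cases hij : i = j
    · rw [hij]
    by_cases hR : Rt i j
    · exact hdiag i j hR
    · have hj : i = j.swap := by
        by_contra hne
        exact hR ⟨hij, hne⟩
      obtain ⟨m, hm1, _, hm3, _⟩ := OD.exists_oth hn i i
      have h1 : Rt i m := ⟨hm1.symm, fun e => hm3 (by rw [e, Sum.swap_swap])⟩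
      have h2 : Rt j m := by
        refine ⟨fun e => hm3 ?_, fun e => hm1 ?_⟩
        · rw [← e, hj, Sum.swap_swap]
        · rw [hj, e, Sum.swap_swap]
      rw [hdiag i m h1, hdiag j m h2]
  have h0 : 0 < n := by omega
  refine ⟨M (Sum.inl ⟨0, h0⟩) (Sum.inl ⟨0, h0⟩), ?_⟩
  ext r s
  rw [Matrix.smul_apply, smul_eq_mul]
  by_cases hrs : r = s
  · rw [hrs, Matrix.one_apply_eq, mul_one]
    exact hall s _
  · rw [Matrix.one_apply_ne hrs, mul_zero]
    exact hoff r s hrs

/-- the matrix of an element of `Ω⁺_{2n}(K)`. -/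
noncomputable def omegaMat (n : ℕ) (K : Type*) [Field K] :
    ↥(Cfsg.Omega K (Cfsg.quadFormPlus n K)) →* Matrix (Idx n) (Idx n) K :=
  ((Units.coeHom (Matrix (Idx n) (Idx n) K)).comp
    (Cfsg.isometryGroup K (Cfsg.quadFormPlus n K)).subtype).comp
    (Cfsg.Omega K (Cfsg.quadFormPlus n K)).subtype

theorem omegaMat_apply (g : ↥(Cfsg.Omega K (Cfsg.quadFormPlus n K))) :
    omegaMat n K g = (((g : ↥(Cfsg.isometryGroup K (Cfsg.quadFormPlus n K))) :
      Matrix.GeneralLinearGroup (Idx n) K) : Matrix (Idx n) (Idx n) K) := rfl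

theorem omegaMat_injective : Function.Injective (omegaMat n K) := by
  intro g h e
  apply Subtype.ext
  apply Subtype.ext
  apply Units.ext
  exact e

theorem omegaMat_x (hn : 3 ≤ n) {a b : Idx n} (h : Rt a b) (t : K) :
    omegaMat n K ((odOmega hn K).x a b t) = oX a b t := odOmega_x_val hn K h t

theorem omegaMat_stToOmega (hn : 3 ≤ n) (c : StD n K) :
    omegaMat n K (stToOmega hn c) = stToMat n K c := stToOmega_val hn c

/-- a scalar isometry of the hyperbolic form is `±1`. -/
theorem omegaMat_scalar (hn : 3 ≤ n) (g : ↥(Cfsg.Omega K (Cfsg.quadFormPlus n K))) (c : K)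
    (hg : omegaMat n K g = c • (1 : Matrix (Idx n) (Idx n) K)) : c = 1 ∨ c = -1 := by
  have h0 : 0 < n := by omega
  have hmem := (g : ↥(Cfsg.isometryGroup K (Cfsg.quadFormPlus n K))).2
  let u : Idx n → K := fun i => if i = Sum.inl ⟨0, h0⟩ ∨ i = Sum.inr ⟨0, h0⟩ then 1 else 0
  have hQ : ∀ d : K, Cfsg.quadFormPlus n K (d • u) = d * d := by
    intro d
    unfold Cfsg.quadFormPlus
    rw [Finset.sum_eq_single (⟨0, h0⟩ : Fin n)]
    · simp [u]
    · intro i _ hi
      have : (Sum.inl i : Idx n) ≠ Sum.inl ⟨0, h0⟩ := fun e => hi (Sum.inl.inj e)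
      simp [u, this]
    · intro hc
      exact absurd (Finset.mem_univ _) hc
  have e := hmem u u
  have e2 : ((((g : ↥(Cfsg.isometryGroup K (Cfsg.quadFormPlus n K))) :
      Matrix.GeneralLinearGroup (Idx n) K) : Matrix (Idx n) (Idx n) K)) *ᵥ u = c • u := by
    rw [← omegaMat_apply, hg, Matrix.smul_mulVec, Matrix.one_mulVec]
  have e3 : Cfsg.quadFormPlus n K (c • u) = Cfsg.quadFormPlus n K u := by
    rw [← e2]
    exact e
  have e4 : Cfsg.quadFormPlus n K u = 1 := by
    have := hQ 1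
    rw [one_smul, one_mul] at this
    exact this
  rw [hQ c, e4] at e3
  have : (c - 1) * (c + 1) = 0 := by linear_combination e3
  rcases mul_eq_zero.mp this with h | h
  · exact Or.inl (by linear_combination h)
  · exact Or.inr (by linear_combination h)

/-- **the centre of `Ω⁺_{2n}(K)` consists of its elements with matrix `±1`** (`n ≥ 3`). -/
theorem center_omega_iff (hn : 3 ≤ n) (g : ↥(Cfsg.Omega K (Cfsg.quadFormPlus n K))) :
    g ∈ Subgroup.center ↥(Cfsg.Omega K (Cfsg.quadFormPlus n K)) ↔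
      omegaMat n K g = 1 ∨ omegaMat n K g = -1 := by
  constructor
  · intro hg
    rw [Subgroup.mem_center_iff] at hg
    have hcomm : ∀ a b, Rt a b → omegaMat n K g * oX a b 1 = oX a b 1 * omegaMat n K g := by
      intro a b hab
      have e := congrArg (omegaMat n K) (hg ((odOmega hn K).x a b 1))
      rw [map_mul, map_mul, omegaMat_x hn hab] at e
      exact e.symm
    obtain ⟨c, hc⟩ := oX_comm_scalar hn _ hcomm
    rcases omegaMat_scalar hn g c hc with rfl | rfl
    · left
      rw [hc, one_smul]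
    · right
      rw [hc, neg_smul, one_smul]
  · intro hg
    rw [Subgroup.mem_center_iff]
    intro h
    apply omegaMat_injective
    rw [map_mul, map_mul]
    rcases hg with e | e
    · rw [e, one_mul, mul_one]
    · rw [e, neg_mul, mul_neg, one_mul, mul_one]

/-- **the homomorphism `St(D_n, K) → PΩ⁺_{2n}(K)`.** -/
noncomputable def stTheta (hn : 3 ≤ n) : StD n K →* Cfsg.POmega K (Cfsg.quadFormPlus n K) :=
  (QuotientGroup.mk' (Subgroup.center ↥(Cfsg.Omega K (Cfsg.quadFormPlus n K)))).comp (stToOmega hn)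

theorem stTheta_surjective (hn : 3 ≤ n) : Function.Surjective (stTheta (K := K) hn) :=
  (QuotientGroup.mk'_surjective _).comp (stToOmega_surjective hn)

theorem stTheta_ker (hn : 3 ≤ n) :
    (stTheta (K := K) hn).ker =
      (Subgroup.center ↥(Cfsg.Omega K (Cfsg.quadFormPlus n K))).comap (stToOmega hn) := by
  ext c
  rw [MonoidHom.mem_ker, Subgroup.mem_comap]
  show (QuotientGroup.mk' _) (stToOmega hn c) = 1 ↔ _
  rw [← MonoidHom.mem_ker, QuotientGroup.ker_mk']

theorem stTheta_ker_iff (hn : 3 ≤ n) (c : StD n K) :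
    c ∈ (stTheta hn).ker ↔ stToMat n K c = 1 ∨ stToMat n K c = -1 := by
  rw [stTheta_ker, Subgroup.mem_comap, center_omega_iff hn, omegaMat_stToOmega]

theorem stTheta_ker_le_center (hn : 3 ≤ n) :
    (stTheta (K := K) hn).ker ≤ Subgroup.center (StD n K) := by
  rw [stTheta_ker]
  exact comap_center_le_center_of_perfect (stToOmega hn) (stToOmega_ker_le_center hn) (stD_perfect hn)

end Cfsg.Agent.CtRecD
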