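import Mathlib
import Cfsg.Agent.CtRecD.SchMain
import Cfsg.Agent.CtRecD.SchCen
import Cfsg.Agent.CtRecD.SchH
import Cfsg.Agent.CtRecD.SchTk
import Cfsg.Agent.CtRecD.SchCliff

set_option autoImplicit false
set_option linter.unusedSectionVars false
set_option linter.unusedVariables false

/-!
# S2096 (Schur multiplier of `PΩ⁺_{2l}(q)`, `l ≥ 5` odd): the last step (helper7)

All the work packages put together; the only remaining input is work package S4 (elements of `W̃` with trivial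
permutation lie in `H̃`), a hypothesis here.
-/

namespace Cfsg.Agent.CtRecD

open Matrix

universe u

/-- the matrix of `zD p q` is `1`. -/
theorem OD.phi_zD {n : ℕ} {K : Type*} [Field K] {Γ : Type*} [Group Γ] (S : OD n K Γ)
    (φ : Γ →* Matrix (Idx n) (Idx n) K)
    (hphi : ∀ k l : Idx n, Rt k l → ∀ t : K, t ≠ 0 → φ (S.h k l t) = Matrix.diagonal (hD k l t))
    {p q : Fin n} (hpq : p ≠ q) : φ (S.zD p q) = 1 := by
  have h1 : Rt (Sum.inl p : Idx n) (Sum.inl q) := OD.s5_rt_ll hpq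
  have h2 : Rt (Sum.inl p : Idx n) (Sum.inr q) := OD.s5_rt_lr hpq
  have hne : (-1 : K) ≠ 0 := neg_ne_zero.mpr one_ne_zero
  unfold OD.zD
  rw [map_mul, hphi _ _ h1 _ hne, hphi _ _ h2 _ hne, Matrix.diagonal_mul_diagonal,
    ← Matrix.diagonal_one]
  congr 1
  funext i
  unfold hD
  simp only [inv_neg, inv_one, Sum.swap_inl, Sum.swap_inr]
  rcases i with i | i
  · by_cases hip : i = p
    · subst hip
      simp
    · by_cases hiq : i = q
      · subst hiq
        simp [hip]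
      · simp [hip, hiq]
  · by_cases hip : i = p
    · subst hip
      simp
    · by_cases hiq : i = q
      · subst hiq
        simp [hip]
      · simp [hip, hiq]

/-- **the Schur multiplier of `PΩ⁺_{2l}(q)`, `l ≥ 5` odd**, given work package S4. -/
theorem schur_pomega_odd_of_S4 {F : Type u} [Field F] [Fintype F] {l : ℕ} (hl : 5 ≤ l) (hodd : Odd l)
    (hS4 : ∀ g : StD l F, g ∈ (stOD l F).Wt → ∃ (σ : Equiv.Perm (Idx l)) (a : Idx l → F),
      (stOD l F).Mon g σ a ∧ (σ = 1 → g ∈ (stOD l F).Ht)) :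
    Cfsg.HasCyclicSchurMultiplier (Cfsg.POmega F (Cfsg.quadFormPlus l F))
      (Nat.gcd 4 (Fintype.card F ^ l - 1)) := by
  have hn3 : 3 ≤ l := by omega
  set S := stOD l F with hS
  set φ := stToMat l F with hφdef
  have hφ : ∀ a b, Rt a b → ∀ t, φ (S.x a b t) = oX a b t := fun a b h t => stToMat_x h t
  have hgen := stOD_gens l F
  have hbruhat : ∀ g : StD l F, ∃ u ∈ S.Ut, ∃ w ∈ S.Wt, ∃ u' ∈ S.Ut, g = u * w * u' :=
    fun g => S.bruhat hn3 hgen g
  have hC : ∀ k l' : Idx l, Rt k l' → ∀ t u : F, t ≠ 0 → u ≠ 0 →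
      S.h k l' t * S.h k l' u = S.h k l' (t * u) :=
    fun k l' hkl t u ht hu => S.h_mul_of_finite hn3 hkl ht hu
  have hcomm : ∀ a b k l' : Idx l, Rt a b → Rt k l' → ∀ t u : F, t ≠ 0 → u ≠ 0 →
      S.h a b t * S.h k l' u = S.h k l' u * S.h a b t :=
    fun a b k l' hab hkl t u ht hu => S.h_comm hn3 hC hab hkl ht hu
  have hswap : ∀ k l' : Idx l, Rt k l' → ∀ t : F, t ≠ 0 → S.h l' k t = (S.h k l' t)⁻¹ :=
    fun k l' hkl t ht => S.h_swap hn3 hC hkl ht
  have hbar : ∀ k l' : Idx l, Rt k l' → ∀ t : F, t ≠ 0 → S.h l'.swap k.swap t = S.h k l' t :=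
    fun k l' hkl t ht => S.h_bar hC hkl ht
  have hsplit : ∀ k ν l' : Idx l, Rt k ν → Rt ν l' → Rt k l' → ∀ t : F, t ≠ 0 →
      S.h k l' t = S.h k ν t * S.h ν l' t :=
    fun k ν l' h1 h2 h3 t ht => S.h_split hn3 hC h1 h2 h3 ht
  have hphi : ∀ k l' : Idx l, Rt k l' → ∀ t : F, t ≠ 0 →
      φ (S.h k l' t) = Matrix.diagonal (hD k l' t) :=
    fun k l' hkl t ht => S.phi_h φ hφ hn3 hkl ht
  let p : Fin l := ⟨0, by omega⟩
  let q : Fin l := ⟨1, by omega⟩
  have hpq : p ≠ q := by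
    intro h
    have := congrArg Fin.val h
    simp [p, q] at this
  refine schur_pomega_odd_of hl hodd (stTheta hn3) (stTheta_surjective hn3)
    (stTheta_ker_le_center hn3) (S.zD p q) (stTheta_ker_iff hn3) (S.phi_zD φ hphi hpq) ?_ ?_ ?_ ?_ ?_
  · intro c hc
    exact S.ker_cases_of φ hφ hC hcomm hswap hbar hsplit hphi hn3 hgen hbruhat hS4 hpq hc
  · intro c hc
    have hcen : c ∈ Subgroup.center (StD l F) :=
      stTheta_ker_le_center hn3 ((stTheta_ker_iff hn3 c).mpr (Or.inr hc))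
    rw [Subgroup.mem_center_iff] at hcen
    exact S.neg_cases_of φ hφ hC hcomm hswap hbar hsplit hphi hn3 hgen hbruhat hS4 hpq hodd hcen hc
  · intro ι hι
    obtain ⟨c, _, hc, _⟩ := S.Ht_exists_neg hC hcomm φ hphi hpq hodd ι hι
    exact ⟨c, hc⟩
  · intro h2 h
    obtain ⟨M, _, S', hS'⟩ := exists_OD_zD_ne_one (n := l) (K := F) hn3 h2
    have := OD.map_zD S S' (stLift S') (fun a b hab t => stLift_x S' hab t) hpq
    rw [h, map_one] at this
    exact hS' p q hpq this.symm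
  · intro h2
    exact S.zD_eq_one_of_two h2 hpq

end Cfsg.Agent.CtRecD
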