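import Mathlib
import Cfsg.Agent.CtRecD.SchTk

set_option autoImplicit false
set_option linter.unusedSectionVars false
set_option linter.unusedVariables false

/-!
# S2097, work package S9: the elements of `H̃` with matrix `-1` in even rank (helper3)

For `n` even the elements of `H̃` with matrix `-1` have square `1`, and they exist over every field
(parameters `t_p = 1`, `t_i = -1` otherwise).  The `h`-calculus of work package S3 enters as hypotheses, as in
`SchT.lean`.
-/

namespace Cfsg.Agent.CtRecD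

open Matrix

variable {n : ℕ} {K : Type*} [Field K] {Γ : Type*} [Group Γ] (S : OD n K Γ)

theorem s5_prod_erase_even {p q : Fin n} (hpq : p ≠ q) (heven : Even n) (t : Fin n → Kˣ)
    (ho : ∀ j, j ≠ p → j ≠ q → t j = -1) :
    ∏ i ∈ Finset.univ.erase q, (t i : K)⁻¹ = (t p : K)⁻¹ := by
  have hpm : p ∈ Finset.univ.erase q := Finset.mem_erase.mpr ⟨hpq, Finset.mem_univ p⟩
  rw [← Finset.mul_prod_erase _ _ hpm]
  have e : ∀ i ∈ (Finset.univ.erase q).erase p, (t i : K)⁻¹ = -1 := by
    intro i hi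
    have h1 : i ≠ p := Finset.ne_of_mem_erase hi
    have h2 : i ≠ q := Finset.ne_of_mem_erase (Finset.mem_of_mem_erase hi)
    rw [ho i h1 h2, Units.val_neg, Units.val_one, inv_neg, inv_one]
  rw [Finset.prod_congr rfl e, Finset.prod_const, Finset.card_erase_of_mem hpm,
    Finset.card_erase_of_mem (Finset.mem_univ q), Finset.card_univ, Fintype.card_fin]
  have hp := p.isLt
  have hq := q.isLt
  have hne := Fin.val_ne_of_ne hpq
  obtain ⟨k, hk⟩ := heven
  have heven' : Even (n - 1 - 1) := ⟨k - 1, by omega⟩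
  rw [heven'.neg_one_pow, mul_one]

namespace OD

section relC

variable (hC : ∀ k l : Idx n, Rt k l → ∀ t u : K, t ≠ 0 → u ≠ 0 →
    S.h k l t * S.h k l u = S.h k l (t * u))
  (hcomm : ∀ a b k l : Idx n, Rt a b → Rt k l → ∀ t u : K, t ≠ 0 → u ≠ 0 →
    S.h a b t * S.h k l u = S.h k l u * S.h a b t)
  (hswap : ∀ k l : Idx n, Rt k l → ∀ t : K, t ≠ 0 → S.h l k t = (S.h k l t)⁻¹)
  (hbar : ∀ k l : Idx n, Rt k l → ∀ t : K, t ≠ 0 → S.h l.swap k.swap t = S.h k l t)
  (hsplit : ∀ k ν l : Idx n, Rt k ν → Rt ν l → Rt k l → ∀ t : K, t ≠ 0 →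
    S.h k l t = S.h k ν t * S.h ν l t)
  (φ : Γ →* Matrix (Idx n) (Idx n) K)
  (hphi : ∀ k l : Idx n, Rt k l → ∀ t : K, t ≠ 0 → φ (S.h k l t) = Matrix.diagonal (hD k l t))

theorem PhiB_sq_one_of {p q : Fin n} (hpq : p ≠ q) (t : Fin n → Kˣ)
    (ho : ∀ j, j ≠ p → j ≠ q → t j = -1) (hp : (t p : K) * (t p : K) = 1)
    (hq : (t q : K) * (t q : K) = 1) :
    S.PhiB hC hcomm hpq t * S.PhiB hC hcomm hpq t = 1 := by
  have e : t * t = 1 := by
    funext j
    rw [Pi.mul_apply, Pi.one_apply]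
    by_cases hjp : j = p
    · rw [hjp]
      apply Units.ext
      rw [Units.val_mul, hp, Units.val_one]
    · by_cases hjq : j = q
      · rw [hjq]
        apply Units.ext
        rw [Units.val_mul, hq, Units.val_one]
      · rw [ho j hjp hjq, neg_mul_neg, one_mul]
  rw [← map_mul, e, map_one]

include hC hcomm hswap hbar hsplit hphi in
/-- **the elements of `H̃` with matrix `-1`, `n` even, have square `1`.** -/
theorem Ht_neg_cases_even {p q : Fin n} (hpq : p ≠ q) (heven : Even n) {g : Γ} (hg : g ∈ S.Ht)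
    (h1 : φ g = -1) : g * g = 1 := by
  obtain ⟨t, rfl⟩ := S.Ht_param hC hcomm hswap hbar hsplit hpq hg
  rw [S.phi_PhiB hC hcomm φ hphi hpq] at h1
  have hd : ∀ j, dE p q t j = -1 := by
    intro j
    have := congrFun (congrFun h1 j) j
    rwa [Matrix.diagonal_apply_eq, Matrix.neg_apply, Matrix.one_apply_eq] at this
  have ho : ∀ j, j ≠ p → j ≠ q → t j = -1 := by
    intro j hjp hjq
    have := hd (Sum.inl j)
    rw [dE_other hjp hjq] at this
    exact Units.ext (by rw [this, Units.val_neg, Units.val_one])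
  have hp := hd (Sum.inl p)
  rw [dE_p hpq] at hp
  have hq := hd (Sum.inl q)
  rw [dE_q hpq, s5_prod_erase_even hpq heven t ho] at hq
  have h0 := (t p).ne_zero
  have hqp : (t q : K) = -(t p : K) := by
    have e : (t q : K) * (t p : K)⁻¹ * (t p : K) = -1 * (t p : K) := by rw [hq]
    rw [inv_mul_cancel_right₀ h0] at e
    rw [e, neg_one_mul]
  have hpp : (t p : K) * (t p : K) = 1 := by
    rw [hqp] at hp
    linear_combination (-1 : K) * hp
  refine S.PhiB_sq_one_of hC hcomm hpq t ho hpp ?_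
  rw [hqp, neg_mul_neg, hpp]

include hC hcomm hphi in
/-- **for `n` even, `H̃` has an element with matrix `-1`** (and square `1`). -/
theorem Ht_exists_neg_even {p q : Fin n} (hpq : p ≠ q) (heven : Even n) :
    ∃ c ∈ S.Ht, φ c = -1 ∧ c * c = 1 := by
  set t : Fin n → Kˣ := fun j => if j = p then 1 else -1 with ht
  have htp : t p = 1 := by rw [ht]; exact if_pos rfl
  have htq : t q = -1 := by rw [ht]; exact if_neg (Ne.symm hpq)
  have ho : ∀ j, j ≠ p → j ≠ q → t j = -1 := by
    intro j hjp hjq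
    rw [ht]
    exact if_neg hjp
  have hl : ∀ j : Fin n, dE p q t (Sum.inl j) = -1 := by
    intro j
    by_cases hjp : j = p
    · rw [hjp, dE_p hpq, htp, htq, Units.val_one, Units.val_neg, Units.val_one, one_mul]
    · by_cases hjq : j = q
      · rw [hjq, dE_q hpq, s5_prod_erase_even hpq heven t ho, htp, htq, Units.val_one, Units.val_neg,
          Units.val_one, inv_one, mul_one]
      · rw [dE_other hjp hjq, ho j hjp hjq, Units.val_neg, Units.val_one]
  have hd : ∀ j : Idx n, dE p q t j = -1 := by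
    intro j
    rcases j with j | j
    · exact hl j
    · have e := dE_swap hpq t (Sum.inl j)
      rw [Sum.swap_inl, hl j, inv_neg, inv_one] at e
      exact e
  refine ⟨S.PhiB hC hcomm hpq t, S.PhiB_mem_Ht hC hcomm hpq t, ?_, ?_⟩
  · rw [S.phi_PhiB hC hcomm φ hphi hpq]
    ext i j
    by_cases hij : i = j
    · rw [hij, Matrix.diagonal_apply_eq, Matrix.neg_apply, Matrix.one_apply_eq, hd j]
    · rw [Matrix.diagonal_apply_ne _ hij, Matrix.neg_apply, Matrix.one_apply_ne hij, neg_zero]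
  · refine S.PhiB_sq_one_of hC hcomm hpq t ho ?_ ?_
    · rw [htp, Units.val_one, one_mul]
    · rw [htq, Units.val_neg, Units.val_one, neg_mul_neg, one_mul]

variable (hφ : ∀ a b, Rt a b → ∀ t, φ (S.x a b t) = oX a b t)

include hφ hC hcomm hswap hbar hsplit hphi in
/-- **a central element with matrix `-1`, `n` even, has square `1`.** -/
theorem neg_cases_even_of (hn : 3 ≤ n)
    (hgen : Subgroup.closure {g | ∃ (a b : Idx n) (t : K), Rt a b ∧ g = S.x a b t} = ⊤)
    (hbruhat : ∀ g : Γ, ∃ u ∈ S.Ut, ∃ w ∈ S.Wt, ∃ u' ∈ S.Ut, g = u * w * u')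
    (hS4 : ∀ g : Γ, g ∈ S.Wt → ∃ (σ : Equiv.Perm (Idx n)) (a : Idx n → K),
      S.Mon g σ a ∧ (σ = 1 → g ∈ S.Ht)) {p q : Fin n} (hpq : p ≠ q) (heven : Even n) {c : Γ}
    (hcen : ∀ g, g * c = c * g) (hc : φ c = -1) : c * c = 1 :=
  S.Ht_neg_cases_even hC hcomm hswap hbar hsplit φ hphi hpq heven
    (S.central_mem_Ht φ hφ hn hgen hbruhat hS4 hcen) hc

end relC

end OD

end Cfsg.Agent.CtRecD
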