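import Mathlib
import Cfsg.Agent.CtRecD.SchWa
import Cfsg.Agent.CtRecD.SchH

set_option autoImplicit false
set_option linter.unusedSectionVars false
set_option linter.unusedVariables false

/-!
# S2096, piece S4 (helper1): an element of `W̃` with the trivial permutation lies in `H̃`

The coset enumeration is in `SchWa.lean`; here the two facts on `H̃` of `SchH.lean` are plugged in.
-/

namespace Cfsg.Agent.CtRecD

variable {n : ℕ} {K : Type*} [Field K] {Γ : Type*} [Group Γ] (S : OD n K Γ)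

/-- **S4** (no hypothesis on the field and none on the multiplicativity of the `h`). -/
theorem OD.mem_Ht_of_perm_one' (hn : 3 ≤ n) {g : Γ} (hg : g ∈ S.Wt) :
    ∃ (σ : Equiv.Perm (Idx n)) (a : Idx n → K), S.Mon g σ a ∧ (σ = 1 → g ∈ S.Ht) :=
  S.mem_Ht_of_perm_one_of hn (fun _ hg _ hh => S.Ht_conj_mem hn hg hh)
    (fun _ hg => S.exists_mon_of_mem_Ht hn hg) hg

/-- **S4**, in the shape of the plan (the hypothesis `hC` is not used). -/
theorem OD.mem_Ht_of_perm_one (hn : 3 ≤ n)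
    (hC : ∀ k l, Rt k l → ∀ t u : K, t ≠ 0 → u ≠ 0 → S.h k l t * S.h k l u = S.h k l (t * u))
    {g : Γ} (hg : g ∈ S.Wt) :
    ∃ (σ : Equiv.Perm (Idx n)) (a : Idx n → K), S.Mon g σ a ∧ (σ = 1 → g ∈ S.Ht) :=
  S.mem_Ht_of_perm_one' hn hg

end Cfsg.Agent.CtRecD
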