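import Mathlib
import Cfsg.Agent.CtRecD.SchTe
import Cfsg.Agent.CtRecD.SchH
import Cfsg.Agent.CtRecD.SchCen
import Cfsg.Agent.CtRecD.SchW

set_option autoImplicit false
set_option linter.unusedSectionVars false
set_option linter.unusedVariables false

/-!
# S2096/S2097, work package S5, part 3: the kernel of `St(D_n, K) → PΩ⁺_{2n}(K)` by matrices (helper3)

The plug-in of `SchT.lean`, `SchTk.lean`, `SchTe.lean` for the Steinberg group `StD n K` over a finite field,
with the `h`-calculus of `SchH.lean` and the centrality of `SchCen.lean`.  Work package S4 enters as the hypothesis `hS4 : S4Hyp (stOD n K)`,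
discharged by `stD_S4`.
-/

namespace Cfsg.Agent.CtRecD

open Matrix

variable {n : ℕ} {K : Type*} [Field K]

/-- the shape of work package S4. -/
def S4Hyp {Γ : Type*} [Group Γ] (S : OD n K Γ) : Prop :=
  ∀ g : Γ, g ∈ S.Wt → ∃ (σ : Equiv.Perm (Idx n)) (a : Idx n → K), S.Mon g σ a ∧ (σ = 1 → g ∈ S.Ht)

/-- work package S4 (helper1, `SchW.lean`) for the Steinberg group. -/
theorem stD_S4 (hn : 3 ≤ n) : S4Hyp (stOD n K) :=
  fun g hg => (stOD n K).mem_Ht_of_perm_one' hn hg

section general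

variable {Γ : Type*} [Group Γ] (S : OD n K Γ) (φ : Γ →* Matrix (Idx n) (Idx n) K)
  (hφ : ∀ a b, Rt a b → ∀ t, φ (S.x a b t) = oX a b t)

include hφ in
/-- the matrix of `zD p q` is `1`. -/
theorem OD.s5_phi_zD (hn : 3 ≤ n) {p q : Fin n} (hpq : p ≠ q) : φ (S.zD p q) = 1 := by
  have hm1 : (-1 : K) ≠ 0 := neg_ne_zero.mpr one_ne_zero
  unfold OD.zD
  rw [map_mul, S.phi_h φ hφ hn (OD.s5_rt_ll hpq) hm1, S.phi_h φ hφ hn (OD.s5_rt_lr hpq) hm1,
    Matrix.diagonal_mul_diagonal, ← Matrix.diagonal_one]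
  congr 1
  funext i
  have hqp : q ≠ p := Ne.symm hpq
  unfold hD
  rcases i with i | i
  · by_cases h1 : i = p
    · rw [h1]
      simp [hpq]
    · by_cases h2 : i = q
      · rw [h2]
        simp [hqp]
      · simp [h1, h2]
  · by_cases h1 : i = p
    · rw [h1]
      simp [hpq]
    · by_cases h2 : i = q
      · rw [h2]
        simp [hqp]
      · simp [h1, h2]

/-- in characteristic `2`, `zD p q = 1`. -/
theorem OD.s5_zD_of_two {p q : Fin n} (hpq : p ≠ q) (h2 : (2 : K) = 0) : S.zD p q = 1 := by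
  have e : (-1 : K) = 1 := by linear_combination (-1 : K) * h2
  unfold OD.zD
  rw [e, S.h_one (OD.s5_rt_ll hpq), S.h_one (OD.s5_rt_lr hpq), one_mul]

end general

section st

variable [Finite K]

/-- the elements of the Steinberg group with matrix `1`. -/
theorem stD_ker_cases (hn : 3 ≤ n) (hS4 : S4Hyp (stOD n K)) {p q : Fin n} (hpq : p ≠ q)
    {c : StD n K} (hc : stToMat n K c = 1) : c = 1 ∨ c = (stOD n K).zD p q := by
  have hφ : ∀ a b, Rt a b → ∀ t, stToMat n K ((stOD n K).x a b t) = oX a b t :=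
    fun a b h t => stToMat_x h t
  have hC : ∀ k l : Idx n, Rt k l → ∀ t u : K, t ≠ 0 → u ≠ 0 →
      (stOD n K).h k l t * (stOD n K).h k l u = (stOD n K).h k l (t * u) :=
    fun k l hkl t u ht hu => (stOD n K).h_mul_of_finite hn hkl ht hu
  exact (stOD n K).ker_cases_of (stToMat n K) hφ hC
    (fun a b k l hab hkl t u ht hu => (stOD n K).h_comm hn hC hab hkl ht hu)
    (fun k l hkl t ht => (stOD n K).h_swap hn hC hkl ht)
    (fun k l hkl t ht => (stOD n K).h_bar hC hkl ht)
    (fun k ν l h1 h2 h3 t ht => (stOD n K).h_split hn hC h1 h2 h3 ht)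
    (fun k l hkl t ht => (stOD n K).phi_h (stToMat n K) hφ hn hkl ht)
    hn (stOD_gens n K) (fun g => (stOD n K).bruhat hn (stOD_gens n K) g) hS4 hpq hc

/-- an element of the Steinberg group with matrix `-1` is central. -/
theorem stD_central_of_neg (hn : 3 ≤ n) {c : StD n K} (hc : stToMat n K c = -1) :
    ∀ g, g * c = c * g := by
  have h1 : c ∈ (stTheta (K := K) hn).ker := (stTheta_ker_iff hn c).mpr (Or.inr hc)
  have h2 := stTheta_ker_le_center hn h1
  rw [Subgroup.mem_center_iff] at h2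
  exact h2

/-- the elements of the Steinberg group with matrix `-1`, `n` odd. -/
theorem stD_neg_cases (hn : 3 ≤ n) (hS4 : S4Hyp (stOD n K)) {p q : Fin n} (hpq : p ≠ q)
    (hodd : Odd n) {c : StD n K} (hc : stToMat n K c = -1) :
    (∃ ι : K, ι * ι = -1) ∧ c * c = (stOD n K).zD p q := by
  have hφ : ∀ a b, Rt a b → ∀ t, stToMat n K ((stOD n K).x a b t) = oX a b t :=
    fun a b h t => stToMat_x h t
  have hC : ∀ k l : Idx n, Rt k l → ∀ t u : K, t ≠ 0 → u ≠ 0 →
      (stOD n K).h k l t * (stOD n K).h k l u = (stOD n K).h k l (t * u) :=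
    fun k l hkl t u ht hu => (stOD n K).h_mul_of_finite hn hkl ht hu
  exact (stOD n K).neg_cases_of (stToMat n K) hφ hC
    (fun a b k l hab hkl t u ht hu => (stOD n K).h_comm hn hC hab hkl ht hu)
    (fun k l hkl t ht => (stOD n K).h_swap hn hC hkl ht)
    (fun k l hkl t ht => (stOD n K).h_bar hC hkl ht)
    (fun k ν l h1 h2 h3 t ht => (stOD n K).h_split hn hC h1 h2 h3 ht)
    (fun k l hkl t ht => (stOD n K).phi_h (stToMat n K) hφ hn hkl ht)
    hn (stOD_gens n K) (fun g => (stOD n K).bruhat hn (stOD_gens n K) g) hS4 hpq hodd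
    (stD_central_of_neg hn hc) hc

/-- if `-1` is a square and `n` is odd, the Steinberg group has an element with matrix `-1`. -/
theorem stD_exists_neg (hn : 3 ≤ n) {p q : Fin n} (hpq : p ≠ q) (hodd : Odd n) (ι : K)
    (hι : ι * ι = -1) :
    ∃ c : StD n K, stToMat n K c = -1 ∧ c * c = (stOD n K).zD p q := by
  have hφ : ∀ a b, Rt a b → ∀ t, stToMat n K ((stOD n K).x a b t) = oX a b t :=
    fun a b h t => stToMat_x h t
  have hC : ∀ k l : Idx n, Rt k l → ∀ t u : K, t ≠ 0 → u ≠ 0 →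
      (stOD n K).h k l t * (stOD n K).h k l u = (stOD n K).h k l (t * u) :=
    fun k l hkl t u ht hu => (stOD n K).h_mul_of_finite hn hkl ht hu
  obtain ⟨c, _, h1, h2⟩ := (stOD n K).Ht_exists_neg hC
    (fun a b k l hab hkl t u ht hu => (stOD n K).h_comm hn hC hab hkl ht hu) (stToMat n K)
    (fun k l hkl t ht => (stOD n K).phi_h (stToMat n K) hφ hn hkl ht) hpq hodd ι hι
  exact ⟨c, h1, h2⟩

/-- the elements of the Steinberg group with matrix `-1`, `n` even, have square `1`. -/
theorem stD_neg_cases_even (hn : 3 ≤ n) (hS4 : S4Hyp (stOD n K)) {p q : Fin n} (hpq : p ≠ q)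
    (heven : Even n) {c : StD n K} (hc : stToMat n K c = -1) : c * c = 1 := by
  have hφ : ∀ a b, Rt a b → ∀ t, stToMat n K ((stOD n K).x a b t) = oX a b t :=
    fun a b h t => stToMat_x h t
  have hC : ∀ k l : Idx n, Rt k l → ∀ t u : K, t ≠ 0 → u ≠ 0 →
      (stOD n K).h k l t * (stOD n K).h k l u = (stOD n K).h k l (t * u) :=
    fun k l hkl t u ht hu => (stOD n K).h_mul_of_finite hn hkl ht hu
  exact (stOD n K).neg_cases_even_of hC
    (fun a b k l hab hkl t u ht hu => (stOD n K).h_comm hn hC hab hkl ht hu)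
    (fun k l hkl t ht => (stOD n K).h_swap hn hC hkl ht)
    (fun k l hkl t ht => (stOD n K).h_bar hC hkl ht)
    (fun k ν l h1 h2 h3 t ht => (stOD n K).h_split hn hC h1 h2 h3 ht)
    (stToMat n K)
    (fun k l hkl t ht => (stOD n K).phi_h (stToMat n K) hφ hn hkl ht) hφ
    hn (stOD_gens n K) (fun g => (stOD n K).bruhat hn (stOD_gens n K) g) hS4 hpq heven
    (stD_central_of_neg hn hc) hc

/-- for `n` even the Steinberg group has an element with matrix `-1` (and square `1`). -/
theorem stD_exists_neg_even (hn : 3 ≤ n) {p q : Fin n} (hpq : p ≠ q) (heven : Even n) :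
    ∃ c : StD n K, stToMat n K c = -1 ∧ c * c = 1 := by
  have hφ : ∀ a b, Rt a b → ∀ t, stToMat n K ((stOD n K).x a b t) = oX a b t :=
    fun a b h t => stToMat_x h t
  have hC : ∀ k l : Idx n, Rt k l → ∀ t u : K, t ≠ 0 → u ≠ 0 →
      (stOD n K).h k l t * (stOD n K).h k l u = (stOD n K).h k l (t * u) :=
    fun k l hkl t u ht hu => (stOD n K).h_mul_of_finite hn hkl ht hu
  obtain ⟨c, _, h1, h2⟩ := (stOD n K).Ht_exists_neg_even hC
    (fun a b k l hab hkl t u ht hu => (stOD n K).h_comm hn hC hab hkl ht hu) (stToMat n K)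
    (fun k l hkl t ht => (stOD n K).phi_h (stToMat n K) hφ hn hkl ht) hpq heven
  exact ⟨c, h1, h2⟩

/-- the matrix of `zD p q` in the Steinberg group. -/
theorem stD_phi_zD (hn : 3 ≤ n) {p q : Fin n} (hpq : p ≠ q) :
    stToMat n K ((stOD n K).zD p q) = 1 :=
  (stOD n K).s5_phi_zD (stToMat n K) (fun a b h t => stToMat_x h t) hn hpq

end st

end Cfsg.Agent.CtRecD
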