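import Mathlib
import Cfsg.Agent.CtRecD.SchFin
import Cfsg.Agent.CtRecD.SchTf

set_option autoImplicit false
set_option linter.unusedSectionVars false
set_option linter.unusedVariables false

/-!
# S2097 (Schur multiplier of `PΩ⁺_{2l}(q)`, `l ≥ 4` even): the assembly (helper7)

`ker_equiv_even_of`: the kernel of `St(D_l, F) → PΩ⁺_{2l}(F)`, `l` even, is `Z_d × Z_d`, `d = gcd(2, q^l - 1)`.
`schur_pomega_even_of`: the Schur multiplier, given that the central extensions of the Steinberg group split.
-/

namespace Cfsg.Agent.CtRecD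

open Matrix

universe u

theorem gcd_two_pow (q l : ℕ) (hq : 1 ≤ q) (hl : 1 ≤ l) :
    Nat.gcd 2 (q ^ l - 1) = if q % 2 = 0 then 1 else 2 := by
  have hpos : 1 ≤ q ^ l := Nat.one_le_pow _ _ hq
  have hmod2 : q ^ l % 2 = (q % 2) ^ l % 2 := Nat.pow_mod _ _ _
  rw [Nat.gcd_rec]
  by_cases hq2 : q % 2 = 0
  · have h1 : q ^ l % 2 = 0 := by
      rw [hmod2, hq2, Nat.zero_pow (by omega)]
    rw [if_pos hq2]
    have : (q ^ l - 1) % 2 = 1 := by omega
    rw [this]
    rfl
  · have hq1 : q % 2 = 1 := by omega
    have h1 : q ^ l % 2 = 1 := by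
      rw [hmod2, hq1, one_pow]; rfl
    rw [if_neg hq2]
    have : (q ^ l - 1) % 2 = 0 := by omega
    rw [this]
    rfl

/-- a subgroup with the four elements `1, a, b, a * b`. -/
theorem card_four_of {G : Type*} [Group G] (H : Subgroup G) (a b : G)
    (hH : ∀ c, c ∈ H ↔ c = 1 ∨ c = a ∨ c = b ∨ c = a * b)
    (ha : a ≠ 1) (hb : b ≠ 1) (hab : a ≠ b) (h1 : a * b ≠ 1) : Nat.card H = 4 := by
  classical
  have hs : (H : Set G) = {1, a, b, a * b} := by
    ext c
    simp only [SetLike.mem_coe, hH, Set.mem_insert_iff, Set.mem_singleton_iff]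
  have h2 : a * b ≠ a := fun h => hb (by simpa using h)
  have h3 : a * b ≠ b := fun h => ha (by simpa using h)
  have hc : Nat.card H = (H : Set G).ncard := Nat.card_coe_set_eq (H : Set G)
  rw [hc, hs, Set.ncard_insert_of_notMem, Set.ncard_insert_of_notMem, Set.ncard_pair]
  · exact fun h => h3 h.symm
  · simp only [Set.mem_insert_iff, Set.mem_singleton_iff, not_or]
    exact ⟨hab, fun h => h2 h.symm⟩
  · simp only [Set.mem_insert_iff, Set.mem_singleton_iff, not_or]
    exact ⟨fun h => ha h.symm, fun h => hb h.symm, fun h => h1 h.symm⟩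

/-- a group of order four in which all squares are trivial is a Klein four-group. -/
theorem isKleinFour_of {G : Type*} [Group G] (hcard : Nat.card G = 4) (hsq : ∀ g : G, g * g = 1) :
    IsKleinFour G := by
  refine ⟨hcard, ?_⟩
  have hdvd : Monoid.exponent G ∣ 2 := by
    apply Monoid.exponent_dvd_of_forall_pow_eq_one
    intro g
    rw [pow_two]
    exact hsq g
  have hne : Monoid.exponent G ≠ 1 := by
    intro h
    rw [Monoid.exp_eq_one_iff] at h
    have : Nat.card G = 1 := Nat.card_unique
    omega
  rcases (Nat.dvd_prime Nat.prime_two).mp hdvd with h | h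
  · exact absurd h hne
  · exact h

/-- the kernel of `St(D_l, F) → PΩ⁺_{2l}(F)`, `l` even, from its description by matrices. -/
theorem ker_equiv_even_of {F : Type*} [Field F] [Fintype F] {l : ℕ} (hl : 1 ≤ l)
    {Δ : Type*} [Group Δ] (φ : Δ →* Matrix (Idx l) (Idx l) F) (H : Subgroup Δ) (z : Δ)
    (hker : ∀ c, c ∈ H ↔ φ c = 1 ∨ φ c = -1)
    (hz : φ z = 1)
    (hcases : ∀ c, φ c = 1 → c = 1 ∨ c = z)
    (hneg : ∀ c, φ c = -1 → c * c = 1)
    (hex : ∃ c, φ c = -1)
    (hzne : (2 : F) ≠ 0 → z ≠ 1) (hz2 : (2 : F) = 0 → z = 1) :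
    Nonempty (Multiplicative (ZMod (Nat.gcd 2 (Fintype.card F ^ l - 1)) ×
      ZMod (Nat.gcd 2 (Fintype.card F ^ l - 1))) ≃* H) := by
  have hq1 : 1 ≤ Fintype.card F := Fintype.card_pos
  rw [gcd_two_pow _ _ hq1 hl]
  by_cases h2 : (2 : F) = 0
  · -- characteristic 2
    rw [if_pos (two_eq_zero_iff_card_even.mp h2)]
    have hneg1 : (-1 : Matrix (Idx l) (Idx l) F) = 1 := by
      have : (-1 : F) = 1 := by linear_combination (-1 : F) * h2
      ext i j
      by_cases hij : i = j
      · subst hij
        simp [this]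
      · simp [hij]
    have hbot : ∀ c : H, c = 1 := by
      intro c
      have hc := (hker c.1).mp c.2
      rw [hneg1, or_self] at hc
      apply Subtype.ext
      rcases hcases c.1 hc with h | h
      · exact h
      · rw [h, hz2 h2]
        rfl
    haveI : Unique H := ⟨⟨1⟩, hbot⟩
    haveI : Unique (Multiplicative (ZMod 1 × ZMod 1)) :=
      ⟨⟨1⟩, fun x => Subsingleton.elim (α := ZMod 1 × ZMod 1) _ _⟩
    exact ⟨MulEquiv.ofUnique⟩
  · have hqodd : ¬ Fintype.card F % 2 = 0 := fun h => h2 (two_eq_zero_iff_card_even.mpr h)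
    rw [if_neg hqodd]
    have hz1 := hzne h2
    have hzz : z * z = 1 := by
      have : φ (z * z) = 1 := by rw [map_mul, hz, one_mul]
      rcases hcases _ this with h | h
      · exact h
      · exfalso
        apply hz1
        have := congrArg (fun x => z⁻¹ * x) h
        simpa using this
    obtain ⟨c₀, hc₀⟩ := hex
    have hc₀2 : c₀ * c₀ = 1 := hneg c₀ hc₀
    have hne1 : (-1 : Matrix (Idx l) (Idx l) F) ≠ 1 := by
      intro h
      have i : Idx l := Sum.inl ⟨0, by omega⟩
      have := congrFun (congrFun h i) i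
      rw [Matrix.neg_apply, Matrix.one_apply_eq] at this
      apply h2
      linear_combination (-1 : F) * this
    have hcz : φ (c₀ * z) = -1 := by rw [map_mul, hc₀, hz, mul_one]
    have hH : ∀ c, c ∈ H ↔ c = 1 ∨ c = c₀ ∨ c = z ∨ c = c₀ * z := by
      intro c
      rw [hker]
      constructor
      · rintro (h | h)
        · rcases hcases c h with h' | h'
          · exact Or.inl h'
          · exact Or.inr (Or.inr (Or.inl h'))
        · have h1 : φ (c₀ * c) = 1 := by
            rw [map_mul, h, hc₀]
            simp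
          rcases hcases _ h1 with h' | h'
          · right; left
            have e : c₀ * (c₀ * c) = c₀ * 1 := by rw [h']
            rw [← mul_assoc, hc₀2, one_mul, mul_one] at e
            exact e
          · right; right; right
            have e : c₀ * (c₀ * c) = c₀ * z := by rw [h']
            rw [← mul_assoc, hc₀2, one_mul] at e
            exact e
      · rintro (h | h | h | h)
        · left; rw [h, map_one]
        · right; rw [h, hc₀]
        · left; rw [h, hz]
        · right; rw [h, hcz]
    have hcard : Nat.card H = 4 := by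
      refine card_four_of H c₀ z hH ?_ hz1 ?_ ?_
      · intro h
        rw [h, map_one] at hc₀
        exact hne1 hc₀.symm
      · intro h
        rw [h, hz] at hc₀
        exact hne1 hc₀.symm
      · intro h
        rw [h, map_one] at hcz
        exact hne1 hcz.symm
    have hsq : ∀ g : H, g * g = 1 := by
      intro g
      apply Subtype.ext
      change g.1 * g.1 = 1
      rcases (hker g.1).mp g.2 with h | h
      · rcases hcases _ h with h' | h'
        · rw [h', one_mul]
        · rw [h', hzz]
      · exact hneg _ h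
    haveI : IsKleinFour H := isKleinFour_of hcard hsq
    exact IsKleinFour.nonempty_mulEquiv

/-- **the Schur multiplier of `PΩ⁺_{2l}(q)`, `l ≥ 4` even**, given that the central extensions of the Steinberg
group split. -/
theorem schur_pomega_even_of {F : Type u} [Field F] [Fintype F] {l : ℕ} (hl : 3 ≤ l) (heven : Even l)
    (hsplit : ∀ (E : Type u) [Group E] (ψ : E →* StD l F), Function.Surjective ψ →
      ψ.ker ≤ Subgroup.center E → ∃ τ : StD l F →* E, ψ.comp τ = MonoidHom.id (StD l F)) :
    Cfsg.HasSchurMultiplier (Cfsg.POmega F (Cfsg.quadFormPlus l F))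
      (Multiplicative (ZMod (Nat.gcd 2 (Fintype.card F ^ l - 1)) ×
        ZMod (Nat.gcd 2 (Fintype.card F ^ l - 1)))) := by
  haveI : Finite (StD l F) := stD_finite hl
  let p : Fin l := ⟨0, by omega⟩
  let q : Fin l := ⟨1, by omega⟩
  have hpq : p ≠ q := by
    intro h
    have := congrArg Fin.val h
    simp [p, q] at this
  have hS4 := stD_S4 (K := F) hl
  obtain ⟨e⟩ := ker_equiv_even_of (l := l) (by omega) (stToMat l F) (stTheta hl).ker
    ((stOD l F).zD p q) (stTheta_ker_iff hl) (stD_phi_zD hl hpq)
    (fun c hc => stD_ker_cases hl hS4 hpq hc)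
    (fun c hc => stD_neg_cases_even hl hS4 hpq heven hc)
    (by obtain ⟨c, hc, _⟩ := stD_exists_neg_even (K := F) hl hpq heven; exact ⟨c, hc⟩)
    (by
      intro h2 h
      obtain ⟨M, _, S', hS'⟩ := exists_OD_zD_ne_one (n := l) (K := F) hl h2
      have := OD.map_zD (stOD l F) S' (stLift S') (fun a b hab t => stLift_x S' hab t) hpq
      rw [h, map_one] at this
      exact hS' p q hpq this.symm)
    (fun h2 => (stOD l F).zD_eq_one_of_two h2 hpq)
  refine Cfsg.Agent.Helper7.Sl.schur_of_universal_fin (stTheta hl) (stTheta_surjective hl)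
    (stTheta_ker_le_center hl) (stD_perfect hl) ?_ e
  intro Γ _ _ σ hσs hσc
  refine Cfsg.Agent.Helper7.Sl.exists_lift_central σ hσs hσc (stTheta hl) ?_
  intro P ψ hψs hψc
  exact hsplit ↥P ψ hψs hψc

end Cfsg.Agent.CtRecD
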