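import Mathlib

set_option autoImplicit false
set_option linter.unusedSectionVars false
set_option linter.unusedVariables false

/-!
# S2096/S2097: bookkeeping for the kernel of `St(D_l, F) → PΩ⁺_{2l}(F)` (helper5)

Pure group theory (small subgroups given by their list of elements are `ZMod d` resp. `ZMod 2 × ZMod 2`) and
the arithmetic of `gcd(4, q^l - 1)`, `gcd(2, q^l - 1)` over a finite field.
-/

namespace Cfsg.Agent.CtRecD

section groups

variable {Γ : Type*} [Group Γ]

theorem sk_equiv_of_cyclic {G : Type*} [Group G] (h : IsCyclic G) {d : ℕ} (hc : Nat.card G = d) :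
    Nonempty (Multiplicative (ZMod d) ≃* G) := by
  subst hc
  exact ⟨zmodCyclicMulEquiv h⟩

/-- (K0) the trivial subgroup. -/
theorem sk_zmod_one (H : Subgroup Γ) (hH : ∀ g, g ∈ H → g = 1) :
    Nonempty (Multiplicative (ZMod 1) ≃* ↥H) := by
  haveI : Subsingleton ↥H := ⟨fun a b => Subtype.ext ((hH a a.2).trans (hH b b.2).symm)⟩
  refine sk_equiv_of_cyclic isCyclic_of_subsingleton ?_
  exact Nat.card_unique

/-- (K2) a subgroup with the elements `1, z`, `z ≠ 1`. -/
theorem sk_zmod_two (H : Subgroup Γ) (z : Γ) (hz : z ≠ 1) (hH : ∀ g, g ∈ H ↔ g = 1 ∨ g = z) :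
    Nonempty (Multiplicative (ZMod 2) ≃* ↥H) := by
  classical
  have hset : (H : Set Γ) = {1, z} := by
    ext g
    rw [SetLike.mem_coe, hH]
    rfl
  have hcard : Nat.card ↥H = 2 := by
    have h1 : Nat.card ↥H = (H : Set Γ).ncard := Nat.card_coe_set_eq _
    rw [h1, hset, Set.ncard_pair (Ne.symm hz)]
  haveI : Fact (Nat.Prime 2) := ⟨Nat.prime_two⟩
  exact sk_equiv_of_cyclic (isCyclic_of_prime_card hcard) hcard

/-- (K4) a subgroup with the elements `1, c, c², c³`, `c² ≠ 1`, `c⁴ = 1`. -/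
theorem sk_zmod_four (H : Subgroup Γ) (c : Γ) (hc2 : c * c ≠ 1) (hc4 : c * c * c * c = 1)
    (hH : ∀ g, g ∈ H ↔ g = 1 ∨ g = c ∨ g = c * c ∨ g = c * c * c) :
    Nonempty (Multiplicative (ZMod 4) ≃* ↥H) := by
  have hord : orderOf c = 4 := by
    have h := orderOf_eq_prime_pow (x := c) (p := 2) (n := 1) (by rw [pow_one, pow_two]; exact hc2)
      (by
        have e : c ^ 2 ^ (1 + 1) = c * c * c * c := by
          rw [show (2 : ℕ) ^ (1 + 1) = 4 by norm_num, pow_succ, pow_succ, pow_succ, pow_one]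
        rw [e, hc4])
    rw [h]
    norm_num
  have hHz : H = Subgroup.zpowers c := by
    apply le_antisymm
    · intro g hg
      rcases (hH g).mp hg with e | e | e | e
      · rw [e]; exact one_mem _
      · rw [e]; exact Subgroup.mem_zpowers c
      · rw [e]; exact mul_mem (Subgroup.mem_zpowers c) (Subgroup.mem_zpowers c)
      · rw [e]; exact mul_mem (mul_mem (Subgroup.mem_zpowers c) (Subgroup.mem_zpowers c)) (Subgroup.mem_zpowers c)
    · rw [Subgroup.zpowers_le]
      exact (hH c).mpr (Or.inr (Or.inl rfl))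
  subst hHz
  have hcard : Nat.card ↥(Subgroup.zpowers c) = 4 := by rw [Nat.card_zpowers, hord]
  haveI : Finite ↥(Subgroup.zpowers c) := Nat.finite_of_card_ne_zero (by rw [hcard]; norm_num)
  refine sk_equiv_of_cyclic (isCyclic_of_orderOf_eq_card (⟨c, Subgroup.mem_zpowers c⟩ : ↥(Subgroup.zpowers c)) ?_) hcard
  rw [hcard, ← hord]
  exact Subgroup.orderOf_mk c (Subgroup.mem_zpowers c)

/-- (K22) a subgroup with the elements `1, z, c, c z`, all of square `1`, `z ≠ 1`, `c ∉ {1, z}`. -/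
theorem sk_klein (H : Subgroup Γ) (z c : Γ) (hz : z ≠ 1) (hc1 : c ≠ 1) (hcz : c ≠ z)
    (hzz : z * z = 1) (hcc : c * c = 1) (hcomm : c * z = z * c)
    (hH : ∀ g, g ∈ H ↔ g = 1 ∨ g = z ∨ g = c ∨ g = c * z) :
    Nonempty (Multiplicative (ZMod 2 × ZMod 2) ≃* ↥H) := by
  classical
  have hset : (H : Set Γ) = (({1, z, c, c * z} : Finset Γ) : Set Γ) := by
    ext g
    rw [SetLike.mem_coe, hH]
    simp only [Finset.coe_insert, Finset.coe_singleton, Set.mem_insert_iff, Set.mem_singleton_iff]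
  have h1 : c * z ≠ 1 := by
    intro e
    apply hcz
    calc c = c * (z * z) := by rw [hzz, mul_one]
      _ = (c * z) * z := by rw [mul_assoc]
      _ = z := by rw [e, one_mul]
  have h2 : c * z ≠ z := by
    intro e
    exact hc1 (mul_eq_right.mp e)
  have h3 : c * z ≠ c := by
    intro e
    exact hz (mul_eq_left.mp e)
  have hcard : Nat.card ↥H = 4 := by
    have e1 : Nat.card ↥H = (H : Set Γ).ncard := Nat.card_coe_set_eq _
    rw [e1, hset, Set.ncard_coe_finset]
    have hn1 : (1 : Γ) ∉ ({z, c, c * z} : Finset Γ) := by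
      simp only [Finset.mem_insert, Finset.mem_singleton, not_or]
      exact ⟨fun e => hz e.symm, fun e => hc1 e.symm, fun e => h1 e.symm⟩
    have hn2 : z ∉ ({c, c * z} : Finset Γ) := by
      simp only [Finset.mem_insert, Finset.mem_singleton, not_or]
      exact ⟨fun e => hcz e.symm, fun e => h2 e.symm⟩
    have hn3 : c ∉ ({c * z} : Finset Γ) := by
      simp only [Finset.mem_singleton]
      exact fun e => h3 e.symm
    rw [Finset.card_insert_of_notMem hn1, Finset.card_insert_of_notMem hn2,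
      Finset.card_insert_of_notMem hn3, Finset.card_singleton]
  have hsq : ∀ g : ↥H, g ^ 2 = 1 := by
    rintro ⟨g, hg⟩
    apply Subtype.ext
    show g ^ 2 = 1
    rw [pow_two]
    rcases (hH g).mp hg with e | e | e | e <;> rw [e]
    · rw [one_mul]
    · exact hzz
    · exact hcc
    · calc c * z * (c * z) = c * (z * c) * z := by simp only [mul_assoc]
        _ = c * (c * z) * z := by rw [hcomm]
        _ = (c * c) * (z * z) := by simp only [mul_assoc]
        _ = 1 := by rw [hcc, hzz, one_mul]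
  haveI : Finite ↥H := Nat.finite_of_card_ne_zero (by rw [hcard]; norm_num)
  have hexp : Monoid.exponent ↥H = 2 := by
    have hd : Monoid.exponent ↥H ∣ 2 := Monoid.exponent_dvd_of_forall_pow_eq_one hsq
    rcases (Nat.dvd_prime Nat.prime_two).mp hd with h | h
    · exfalso
      have hss : Subsingleton ↥H := Monoid.exp_eq_one_iff.mp h
      have := Nat.card_eq_one_iff_unique.mpr ⟨hss, ⟨1⟩⟩
      rw [hcard] at this
      norm_num at this
    · exact h
  haveI : IsKleinFour ↥H := ⟨hcard, hexp⟩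
  exact IsKleinFour.nonempty_mulEquiv (G₁ := Multiplicative (ZMod 2 × ZMod 2)) (G₂ := ↥H)

/-- (K0') the trivial subgroup, in the shape of S2097's target (`d = gcd 2 (q^l - 1) = 1`). -/
theorem sk_prod_one (H : Subgroup Γ) (hH : ∀ g, g ∈ H → g = 1) {d : ℕ} (hd : d = 1) :
    Nonempty (Multiplicative (ZMod d × ZMod d) ≃* ↥H) := by
  subst hd
  haveI : Subsingleton ↥H := ⟨fun a b => Subtype.ext ((hH a a.2).trans (hH b b.2).symm)⟩
  haveI : Subsingleton (ZMod 1) := (inferInstance : Subsingleton (Fin 1))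
  haveI : Subsingleton (Multiplicative (ZMod 1 × ZMod 1)) :=
    ⟨fun a b => congrArg Multiplicative.ofAdd (Subsingleton.elim (Multiplicative.toAdd a) (Multiplicative.toAdd b))⟩
  exact ⟨{ toFun := fun _ => 1
           invFun := fun _ => 1
           left_inv := fun a => Subsingleton.elim _ _
           right_inv := fun a => Subsingleton.elim _ _
           map_mul' := fun a b => Subsingleton.elim _ _ }⟩

/-- (K22') the four-group, in the shape of S2097's target (`d = gcd 2 (q^l - 1) = 2`). -/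
theorem sk_prod_two (H : Subgroup Γ) (z c : Γ) (hz : z ≠ 1) (hc1 : c ≠ 1) (hcz : c ≠ z)
    (hzz : z * z = 1) (hcc : c * c = 1) (hcomm : c * z = z * c)
    (hH : ∀ g, g ∈ H ↔ g = 1 ∨ g = z ∨ g = c ∨ g = c * z) {d : ℕ} (hd : d = 2) :
    Nonempty (Multiplicative (ZMod d × ZMod d) ≃* ↥H) := by
  subst hd
  exact sk_klein H z c hz hc1 hcz hzz hcc hcomm hH

end groups

section arith

variable {F : Type*} [Field F] [Fintype F]

theorem sk_ringChar_two_iff : ringChar F = 2 ↔ (2 : F) = 0 := by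
  constructor
  · intro h
    have := ringChar.Nat.cast_ringChar (R := F)
    rw [h] at this
    exact_mod_cast this
  · intro h
    have hd : ringChar F ∣ 2 := ringChar.dvd (by exact_mod_cast h)
    haveI : Fact (ringChar F).Prime := ⟨CharP.char_is_prime F (ringChar F)⟩
    rcases (Nat.dvd_prime Nat.prime_two).mp hd with h1 | h1
    · exact absurd h1 (Fact.out : (ringChar F).Prime).one_lt.ne'
    · exact h1

/-- in characteristic two, `q^l` is even. -/
theorem sk_even_pow (h2 : (2 : F) = 0) {l : ℕ} (hl : l ≠ 0) : (Fintype.card F) ^ l % 2 = 0 := by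
  have h := FiniteField.even_card_of_char_two (sk_ringChar_two_iff.mpr h2)
  rw [Nat.pow_mod, h, zero_pow hl]
  rfl

/-- in odd characteristic, `q^l` is odd. -/
theorem sk_odd_pow (h2 : (2 : F) ≠ 0) (l : ℕ) : (Fintype.card F) ^ l % 2 = 1 := by
  have h := FiniteField.odd_card_of_char_ne_two (fun e => h2 (sk_ringChar_two_iff.mp e))
  rw [Nat.pow_mod, h, one_pow]
  rfl

theorem sk_gcd_two_char_two (h2 : (2 : F) = 0) {l : ℕ} (hl : l ≠ 0) :
    Nat.gcd 2 ((Fintype.card F) ^ l - 1) = 1 := by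
  have h := sk_even_pow h2 hl
  have hpos : 0 < (Fintype.card F) ^ l := Nat.pow_pos Fintype.card_pos
  rw [Nat.gcd_rec]
  have : ((Fintype.card F) ^ l - 1) % 2 = 1 := by omega
  rw [this]
  rfl

theorem sk_gcd_four_char_two (h2 : (2 : F) = 0) {l : ℕ} (hl : l ≠ 0) :
    Nat.gcd 4 ((Fintype.card F) ^ l - 1) = 1 := by
  have h := sk_even_pow h2 hl
  have hpos : 0 < (Fintype.card F) ^ l := Nat.pow_pos Fintype.card_pos
  rw [Nat.gcd_rec]
  have : ((Fintype.card F) ^ l - 1) % 4 = 1 ∨ ((Fintype.card F) ^ l - 1) % 4 = 3 := by omega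
  rcases this with e | e <;> rw [e] <;> rfl

theorem sk_gcd_two_odd (h2 : (2 : F) ≠ 0) (l : ℕ) :
    Nat.gcd 2 ((Fintype.card F) ^ l - 1) = 2 := by
  have h := sk_odd_pow h2 l
  rw [Nat.gcd_rec]
  have : ((Fintype.card F) ^ l - 1) % 2 = 0 := by omega
  rw [this]
  rfl

/-- `q^l ≡ q (mod 4)` for odd `q` and odd `l`. -/
theorem sk_pow_mod_four {q l : ℕ} (hq : q % 2 = 1) (hl : Odd l) : q ^ l % 4 = q % 4 := by
  obtain ⟨k, rfl⟩ := hl
  have h4 : q % 4 = 1 ∨ q % 4 = 3 := by omega
  rw [pow_succ, pow_mul, Nat.mul_mod, Nat.pow_mod]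
  have hsq : q ^ 2 % 4 = 1 := by
    rw [pow_two, Nat.mul_mod]
    rcases h4 with e | e <;> rw [e]
  rw [hsq, one_pow]
  rcases h4 with e | e <;> rw [e] <;> rfl

theorem sk_exists_sq_iff : (∃ ι : F, ι * ι = -1) ↔ Fintype.card F % 4 ≠ 3 := by
  rw [← FiniteField.isSquare_neg_one_iff]
  constructor
  · rintro ⟨ι, h⟩
    exact ⟨ι, h.symm⟩
  · rintro ⟨ι, h⟩
    exact ⟨ι, h.symm⟩

theorem sk_gcd_four_sq (h2 : (2 : F) ≠ 0) {l : ℕ} (hl : Odd l) (hι : ∃ ι : F, ι * ι = -1) :
    Nat.gcd 4 ((Fintype.card F) ^ l - 1) = 4 := by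
  have hq := FiniteField.odd_card_of_char_ne_two (fun e => h2 (sk_ringChar_two_iff.mp e))
  have h3 := sk_exists_sq_iff.mp hι
  have h4 := sk_pow_mod_four hq hl
  rw [Nat.gcd_rec]
  have : ((Fintype.card F) ^ l - 1) % 4 = 0 := by omega
  rw [this]
  rfl

theorem sk_gcd_four_nsq (h2 : (2 : F) ≠ 0) {l : ℕ} (hl : Odd l) (hι : ¬ ∃ ι : F, ι * ι = -1) :
    Nat.gcd 4 ((Fintype.card F) ^ l - 1) = 2 := by
  have hq := FiniteField.odd_card_of_char_ne_two (fun e => h2 (sk_ringChar_two_iff.mp e))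
  have h3 : Fintype.card F % 4 = 3 := by
    by_contra h
    exact hι (sk_exists_sq_iff.mpr h)
  have h4 := sk_pow_mod_four hq hl
  rw [Nat.gcd_rec]
  have : ((Fintype.card F) ^ l - 1) % 4 = 2 := by omega
  rw [this]
  rfl

end arith

end Cfsg.Agent.CtRecD
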